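import Mathlib.AlgebraicGeometry.Sites.Fpqc
import Mathlib.AlgebraicGeometry.Morphisms.Flat
import Mathlib.RingTheory.Flat.FaithfullyFlat.Algebra
import Groth.Agent.H10.FlatDescent

set_option autoImplicit false
universe u
open CategoryTheory CategoryTheory.Limits AlgebraicGeometry Opposite

namespace Groth.Agent.H53

/-- A flat local homomorphism of local rings is faithfully flat (ring hom version). -/
theorem faithfullyFlat_of_flat_of_isLocalHom {A B : Type*} [CommRing A] [CommRing B] [IsLocalRing A]
    [IsLocalRing B] (g : A →+* B) [IsLocalHom g] (hg : g.Flat) : g.FaithfullyFlat := by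
  algebraize [g]
  have : IsLocalHom (algebraMap A B) := ‹IsLocalHom g›
  have : Module.FaithfullyFlat A B := Module.FaithfullyFlat.of_flat_of_isLocalHom
  exact (RingHom.faithfullyFlat_algebraMap_iff).2 this

/-- Flatness of a morphism of schemes can be checked after precomposition with a jointly
surjective family of flat morphisms. -/
theorem flat_of_forall_comp_flat {X Y : Scheme.{u}} (f : X ⟶ Y) (R : Presieve X)
    (hR : ∀ x : X, ∃ (U : Scheme.{u}) (g : U ⟶ X), R g ∧ x ∈ Set.range g)
    (hflat : ∀ ⦃U : Scheme.{u}⦄ ⦃g : U ⟶ X⦄, R g → Flat g)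
    (H : ∀ ⦃U : Scheme.{u}⦄ ⦃g : U ⟶ X⦄, R g → Flat (g ≫ f)) : Flat f := by
  refine Flat.of_stalkMap (f := f) fun x => ?_
  obtain ⟨U, g, hg, y, rfl⟩ := hR x
  have : Flat (g ≫ f) := H hg
  have : Flat g := hflat hg
  have h1 : ((g ≫ f).stalkMap y).hom.Flat := Flat.stalkMap (g ≫ f) y
  have h2 : (g.stalkMap y).hom.Flat := Flat.stalkMap g y
  rw [Scheme.Hom.stalkMap_comp] at h1
  exact Groth.Agent.H10.ringHomFlat_of_comp_of_faithfullyFlat _ _
    (faithfullyFlat_of_flat_of_isLocalHom _ h2) h1

/-- Flatness is fpqc local on the source. -/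
instance flat_isLocalAtSource_fpqc :
    MorphismProperty.IsLocalAtSource (@Flat : MorphismProperty Scheme.{u}) Scheme.fpqcPrecoverage where
  comp {X Y f R} hR U g hg hf := by
    have : Flat g := hR.2.2 hg
    have : Flat f := hf
    exact (inferInstance : Flat (g ≫ f))
  of_forall_comp {X Y f R} hR H := by
    refine flat_of_forall_comp_flat f R (fun x => ?_) (fun U g hg => hR.2.2 hg) H
    have := hR.2.1
    rw [Scheme.jointlySurjectivePrecoverage,
      Presieve.mem_comap_jointlySurjectivePrecoverage_iff] at this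
    obtain ⟨U, g, hg, y, hy⟩ := this x
    exact ⟨U, g, hg, y, hy⟩

end Groth.Agent.H53
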