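import Groth.Prelude.Def_AlgSpCov

set_option autoImplicit false
universe u
open CategoryTheory CategoryTheory.Limits AlgebraicGeometry Opposite
open AlgSp

namespace Groth.Agent.H53

variable {S : Scheme.{u}}

/-- Two morphisms of sheaves agree as soon as they agree on all maps from representables. -/
theorem sp_hom_ext {F G : Sp S} {f g : F ⟶ G}
    (h : ∀ (T : Over S) (p : (yon S).obj T ⟶ F), p ≫ f = p ≫ g) : f = g :=
  (J S).hom_ext_uliftYoneda h

/-- A morphism of sheaves that is injective on maps from representables is a monomorphism. -/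
theorem mono_of_forall_yon {F G : Sp S} (f : F ⟶ G)
    (h : ∀ (T : Over S) (a b : (yon S).obj T ⟶ F), a ≫ f = b ≫ f → a = b) : Mono f where
  right_cancellation {Z} g₁ g₂ hg := by
    refine sp_hom_ext fun T p => h T _ _ ?_
    rw [Category.assoc, Category.assoc, hg]

/-- The equalizer of two maps from a representable to a sheaf with representable diagonal is
representable, by a monomorphism of schemes over `S`. -/
theorem exists_equalizer_of_diag {X : Sp S} (hX : Representable (Limits.diag X)) {T : Over S}
    (a b : (yon S).obj T ⟶ X) :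
    ∃ (E : Over S) (e : E ⟶ T), Mono e ∧ (yon S).map e ≫ a = (yon S).map e ≫ b ∧
      ∀ (W : Over S) (w : W ⟶ T), (yon S).map w ≫ a = (yon S).map w ≫ b → ∃ l : W ⟶ E, l ≫ e = w := by
  have sq := hX.isPullback (prod.lift a b)
  have h1 : hX.fst (prod.lift a b) = (yon S).map (hX.snd (prod.lift a b)) ≫ a := by
    have := sq.w =≫ prod.fst
    rw [Category.assoc, Category.assoc, prod.lift_fst] at this
    simp only [Limits.diag, prod.lift_fst, Category.comp_id] at this
    exact this
  have h2 : hX.fst (prod.lift a b) = (yon S).map (hX.snd (prod.lift a b)) ≫ b := by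
    have := sq.w =≫ prod.snd
    rw [Category.assoc, Category.assoc, prod.lift_snd] at this
    simp only [Limits.diag, prod.lift_snd, Category.comp_id] at this
    exact this
  refine ⟨hX.pullback (prod.lift a b), hX.snd (prod.lift a b), ⟨fun {Z} g₁ g₂ hg => ?_⟩,
    h1.symm.trans h2, fun W w hw => ?_⟩
  · refine hX.hom_ext (g := prod.lift a b) ?_ hg
    rw [h1, ← Category.assoc, ← Category.assoc, ← Functor.map_comp, ← Functor.map_comp, hg]
  · refine ⟨hX.lift (g := prod.lift a b) ((yon S).map w ≫ a) w ?_, hX.lift_snd _ _ _⟩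
    apply Limits.prod.hom_ext
    · rw [Category.assoc, Category.assoc, prod.lift_fst, Category.comp_id, Category.assoc, prod.lift_fst]
    · rw [Category.assoc, Category.assoc, prod.lift_snd, Category.comp_id, Category.assoc, prod.lift_snd]
      exact hw

/-- Separatedness of a sheaf for a covering sieve, in terms of maps from representables. -/
theorem yon_hom_ext_of_sieve {F : Sp S} {T : Over S} (a b : (yon S).obj T ⟶ F)
    (R : Sieve T) (hR : R ∈ J S T)
    (h : ∀ ⦃W : Over S⦄ (w : W ⟶ T), R w → (yon S).map w ≫ a = (yon S).map w ≫ b) : a = b := by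
  apply (J S).uliftYonedaEquiv.injective
  have hF : Presieve.IsSheaf (J S) F.obj := (isSheaf_iff_isSheaf_of_type _ _).1 F.property
  refine (hF.isSeparated R hR).ext fun W w hw => ?_
  rw [(J S).uliftYonedaEquiv_naturality, (J S).uliftYonedaEquiv_naturality]
  exact congrArg _ (h w hw)

/-- The structure morphism of a scheme mapping to (the underlying scheme of) `T`, as an object over `S`. -/
noncomputable abbrev overOf (T : Over S) {U : Scheme.{u}} (f : U ⟶ T.left) : Over S := Over.mk (f ≫ T.hom)

/-- A morphism of schemes to `T.left`, as a morphism over `S`. -/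
noncomputable abbrev overHom (T : Over S) {U : Scheme.{u}} (f : U ⟶ T.left) : overOf T f ⟶ T :=
  Over.homMk f rfl

/-- Two maps from `h_T` to a sheaf agree if they agree on the members of an fppf covering of `T`. -/
theorem yon_hom_ext_of_cover {F : Sp S} {T : Over S} (a b : (yon S).obj T ⟶ F)
    (𝒰 : Scheme.Cover.{u} Scheme.fppfPrecoverage T.left)
    (h : ∀ i, (yon S).map (overHom T (𝒰.f i)) ≫ a = (yon S).map (overHom T (𝒰.f i)) ≫ b) : a = b := by
  refine yon_hom_ext_of_sieve a b ((Sieve.overEquiv T).symm (Sieve.generate (Presieve.ofArrows _ 𝒰.f)))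
    (GrothendieckTopology.overEquiv_symm_mem_over _ _ _
      (Precoverage.generate_mem_toGrothendieck 𝒰.mem₀)) ?_
  intro W w hw
  rw [Sieve.overEquiv_symm_iff] at hw
  obtain ⟨V, v, _, ⟨i⟩, hv⟩ := hw
  obtain ⟨v', rfl⟩ : ∃ v' : W ⟶ overOf T (𝒰.f i), w = v' ≫ overHom T (𝒰.f i) :=
    ⟨Over.homMk v (by rw [← Over.w w, ← hv, Category.assoc]; rfl), by ext; exact hv.symm⟩
  rw [Functor.map_comp, Category.assoc, Category.assoc, h i]

/-- A Zariski open cover as an fppf cover. -/
noncomputable def openCoverToFppf {X : Scheme.{u}} (𝒰 : X.OpenCover) :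
    Scheme.Cover.{u} Scheme.fppfPrecoverage X :=
  𝒰.changeProp (Q := @Flat ⊓ @LocallyOfFinitePresentation) fun _ => ⟨inferInstance, inferInstance⟩

/-- Two maps from `h_T` to a sheaf agree if they agree on all affine schemes mapping to `T`. -/
theorem yon_hom_ext_of_affine {F : Sp S} {T : Over S} (a b : (yon S).obj T ⟶ F)
    (h : ∀ (Z : Over S) (z : Z ⟶ T), IsAffine Z.left → (yon S).map z ≫ a = (yon S).map z ≫ b) : a = b :=
  yon_hom_ext_of_cover a b (openCoverToFppf T.left.affineCover) fun i =>
    h _ _ (Scheme.isAffine_affineCover T.left i)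

end Groth.Agent.H53
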