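import Groth.Prelude.Def_AlgSpDec
import Groth.Agent.H53.Basic

set_option autoImplicit false
universe u
open CategoryTheory CategoryTheory.Limits AlgebraicGeometry Opposite
open AlgSp

namespace Groth.Agent.H53

variable {S : Scheme.{u}}

/-- The field-valued point defined by a morphism from the spectrum of a field. -/
noncomputable def fieldPtOfHom {F : Sp S} (K : Type u) [Field K] (str : Spec (.of K) ⟶ S)
    (m : (yon S).obj (Over.mk str) ⟶ F) : FieldPt F :=
  ⟨K, str, (J S).uliftYonedaEquiv m⟩

@[simp] theorem fieldPtOfHom_toHom {F : Sp S} (K : Type u) [Field K] (str : Spec (.of K) ⟶ S)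
    (m : (yon S).obj (Over.mk str) ⟶ F) : (fieldPtOfHom K str m).toHom = m :=
  Equiv.symm_apply_apply _ _

theorem fieldPtOfHom_map {F G : Sp S} (f : F ⟶ G) (K : Type u) [Field K] (str : Spec (.of K) ⟶ S)
    (m : (yon S).obj (Over.mk str) ⟶ F) :
    (fieldPtOfHom K str m).map f = fieldPtOfHom K str (m ≫ f) := by
  unfold fieldPtOfHom FieldPt.map
  congr 1

/-- Restricting a field-valued point along a field extension does not change the point. -/
theorem mk_fieldPtOfHom_comp {F : Sp S} (p : FieldPt F) (Ω : Type u) [Field Ω]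
    (w : Spec (.of Ω) ⟶ S) (a : Over.mk w ⟶ p.pt) :
    Points.mk (fieldPtOfHom Ω w ((yon S).map a ≫ p.toHom)) = Points.mk p := by
  refine Points.sound ⟨Ω, inferInstance, w, 𝟙 _, a, ?_⟩
  change F.obj.map (𝟙 _).op ((J S).uliftYonedaEquiv ((yon S).map a ≫ p.toHom)) = _
  rw [op_id, Functor.map_id_apply, ← (J S).uliftYonedaEquiv_naturality, FieldPt.uliftYonedaEquiv_toHom]

/-- Two field-valued points define the same point iff their morphisms agree after restriction to a common field. -/
theorem rel_iff_toHom {F : Sp S} (p q : FieldPt F) :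
    FieldPt.Rel p q ↔ ∃ (Ω : Type u) (_ : Field Ω) (w : Spec (.of Ω) ⟶ S) (a : Over.mk w ⟶ p.pt)
      (b : Over.mk w ⟶ q.pt), (yon S).map a ≫ p.toHom = (yon S).map b ≫ q.toHom := by
  constructor
  · rintro ⟨Ω, _, w, a, b, h⟩
    refine ⟨Ω, inferInstance, w, a, b, ?_⟩
    apply (J S).uliftYonedaEquiv.injective
    rw [← (J S).uliftYonedaEquiv_naturality, ← (J S).uliftYonedaEquiv_naturality,
      FieldPt.uliftYonedaEquiv_toHom, FieldPt.uliftYonedaEquiv_toHom]
    exact h
  · rintro ⟨Ω, _, w, a, b, h⟩
    refine ⟨Ω, inferInstance, w, a, b, ?_⟩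
    have := congrArg (J S).uliftYonedaEquiv h
    rw [← (J S).uliftYonedaEquiv_naturality, ← (J S).uliftYonedaEquiv_naturality,
      FieldPt.uliftYonedaEquiv_toHom, FieldPt.uliftYonedaEquiv_toHom] at this
    exact this

/-- Points of a fibre product of sheaves surject onto the fibre product of the sets of points. -/
theorem exists_point_of_isPullback {P F G H : Sp S} {fst : P ⟶ F} {snd : P ⟶ G} {f : F ⟶ H} {g : G ⟶ H}
    (hP : IsPullback fst snd f g) (x : Points F) (y : Points G)
    (hxy : Points.map f x = Points.map g y) :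
    ∃ z : Points P, Points.map fst z = x ∧ Points.map snd z = y := by
  induction x using Points.ind with | h p => ?_
  induction y using Points.ind with | h q => ?_
  rw [Points.map_mk, Points.map_mk, Points.mk_eq_mk_iff, rel_iff_toHom] at hxy
  obtain ⟨Ω, _, w, a, b, h⟩ := hxy
  rw [FieldPt.toHom_map, FieldPt.toHom_map] at h
  change Over.mk w ⟶ p.pt at a
  change Over.mk w ⟶ q.pt at b
  have h' : ((yon S).map a ≫ p.toHom) ≫ f = ((yon S).map b ≫ q.toHom) ≫ g :=
    (Category.assoc _ _ _).trans (h.trans (Category.assoc _ _ _).symm)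
  refine ⟨Points.mk (fieldPtOfHom Ω w (hP.lift _ _ h')), ?_, ?_⟩
  · rw [Points.map_mk, fieldPtOfHom_map, hP.lift_fst]
    exact mk_fieldPtOfHom_comp p Ω w a
  · rw [Points.map_mk, fieldPtOfHom_map, hP.lift_snd]
    exact mk_fieldPtOfHom_comp q Ω w b

/-- Functoriality of `ofPt` in the scheme. -/
theorem ofPt_yon_map_comp {F : Sp S} {T T' : Over S} (φ : T ⟶ T') (g : (yon S).obj T' ⟶ F) (t : ↥T.left) :
    Points.ofPt ((yon S).map φ ≫ g) t = Points.ofPt g (φ.left t) := by
  rw [Points.ofPt_eq_map_ofScheme, Points.map_comp, Points.ofPt_eq_map_ofScheme g]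
  congr 1
  exact Points.map_yon_map_apply φ t

/-- A representable surjective map from a representable sheaf is surjective on points. -/
theorem exists_ofPt_eq_of_repWith_surjective {F : Sp S} {U : Over S} (p : (yon S).obj U ⟶ F)
    (hp : RepWith @Surjective p) (x : Points F) : ∃ u : ↥U.left, Points.ofPt p u = x := by
  induction x using Points.ind with | h q => ?_
  have hs : Surjective (hp.rep.snd q.toHom).left := hp.property_snd q.toHom
  obtain ⟨v, -⟩ := hs.surj (IsLocalRing.closedPoint q.K)
  refine ⟨(hp.rep.fst' q.toHom).left v, ?_⟩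
  rw [← ofPt_yon_map_comp, hp.rep.map_fst', hp.rep.w, ofPt_yon_map_comp, Points.ofPt_toHom]

/-- A representable morphism which is surjective on points is representable-surjective. -/
theorem repWith_surjective_of_points_surjective {F G : Sp S} (f : F ⟶ G) (hf : Representable f)
    (hs : Function.Surjective (Points.map f)) : RepWith @Surjective f := by
  refine ⟨hf, fun T V g fst snd sq => ⟨fun (t : ↥T.left) => ?_⟩⟩
  change ∃ a : ↥V.left, snd.left a = t
  obtain ⟨y, hy⟩ := hs (Points.ofPt g t)
  rw [Points.ofPt_eq_map_ofScheme] at hy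
  obtain ⟨z, -, hz⟩ := exists_point_of_isPullback sq y (Points.ofScheme T t) hy
  refine ⟨Points.toScheme V z, ?_⟩
  apply (Points.schemeEquiv T).injective
  change Points.ofScheme T (snd.left (Points.toScheme V z)) = Points.ofScheme T t
  rw [← hz]
  conv_rhs => rw [← Points.ofScheme_toScheme V z]
  exact (Points.map_yon_map_apply snd (Points.toScheme V z)).symm

end Groth.Agent.H53
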