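import Groth.Agent.H53.Points

set_option autoImplicit false
universe u
open CategoryTheory CategoryTheory.Limits AlgebraicGeometry Opposite
open AlgSp

namespace Groth.Agent.H53

variable {S : Scheme.{u}}

/-- `RepWith` is monotone in the property. -/
theorem repWith_mono {P Q : MorphismProperty Scheme.{u}} (h : P ≤ Q) {F G : Sp S} (f : F ⟶ G)
    (hf : RepWith P f) : RepWith Q f :=
  ⟨hf.1, fun _ _ g fst snd sq => h _ (hf.2 g fst snd sq)⟩

/-- A single flat, locally finitely presented, surjective morphism generates a covering sieve. -/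
theorem sieve_mem_J_of_fppf {T V : Over S} (snd : V ⟶ T) (h1 : Flat snd.left)
    (h2 : LocallyOfFinitePresentation snd.left) (h3 : Surjective snd.left) :
    Sieve.generate (Presieve.singleton snd) ∈ J S T := by
  rw [GrothendieckTopology.mem_over_iff]
  refine GrothendieckTopology.superset_covering _ ?_
    (Precoverage.generate_mem_toGrothendieck (Scheme.Hom.singleton_mem_fppfPrecoverage snd.left))
  rw [Sieve.generate_le_iff]
  rintro W w ⟨⟩
  rw [Sieve.overEquiv_iff]
  refine ⟨V, Over.homMk (𝟙 _) (by simp), snd, ⟨⟩, ?_⟩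
  ext
  simp

/-- A representable morphism whose represented pullbacks are flat, locally of finite presentation and
surjective is locally surjective for the fppf topology. -/
theorem isLocallySurjective_of_repWith {F G : Sp S} (f : F ⟶ G) (h1 : RepWith @Flat f)
    (h2 : RepWith @LocallyOfFinitePresentation f) (h3 : RepWith @Surjective f) :
    Sheaf.IsLocallySurjective f := by
  refine ⟨fun {T} s => ?_⟩
  let g : (yon S).obj T ⟶ G := (J S).uliftYonedaEquiv.symm s
  have hR := sieve_mem_J_of_fppf (h1.rep.snd g) (h1.property_snd g)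
    (h2.property _ _ _ (h1.rep.isPullback g)) (h3.property _ _ _ (h1.rep.isPullback g))
  refine GrothendieckTopology.superset_covering _ ?_ hR
  rw [Sieve.generate_le_iff]
  rintro W w ⟨⟩
  refine ⟨(J S).uliftYonedaEquiv (h1.rep.fst g), ?_⟩
  have := congrArg (J S).uliftYonedaEquiv (h1.rep.w g)
  rw [(J S).uliftYonedaEquiv_comp, ← (J S).uliftYonedaEquiv_naturality, Equiv.apply_symm_apply] at this
  exact this

/-- A representable etale surjective morphism is an epimorphism of sheaves. -/
theorem epi_of_repWith_etale_surjective {F G : Sp S} (f : F ⟶ G) (h1 : RepWith @Etale f)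
    (h3 : RepWith @Surjective f) : Epi f := by
  have h1' : RepWith @Flat f := repWith_mono (fun _ _ g (_ : Etale g) => (inferInstance : Flat g)) f h1
  have h2' : RepWith @LocallyOfFinitePresentation f :=
    repWith_mono (fun _ _ g (_ : Etale g) => (inferInstance : LocallyOfFinitePresentation g)) f h1
  have := isLocallySurjective_of_repWith f h1' h2' h3
  infer_instance

/-- Local surjectivity in terms of maps from representables: every map from a representable lifts
on a covering sieve. -/
theorem exists_local_lift {F G : Sp S} (f : F ⟶ G) [Epi f] {T : Over S} (g : (yon S).obj T ⟶ G) :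
    ∃ R : Sieve T, R ∈ J S T ∧ ∀ ⦃W : Over S⦄ (w : W ⟶ T), R w →
      ∃ l : (yon S).obj W ⟶ F, l ≫ f = (yon S).map w ≫ g := by
  have hf : Sheaf.IsLocallySurjective f := (Sheaf.isLocallySurjective_iff_epi f).2 inferInstance
  refine ⟨_, Presheaf.imageSieve_mem (J S) f.hom (U := op T) ((J S).uliftYonedaEquiv g), ?_⟩
  rintro W w ⟨t, ht⟩
  refine ⟨(J S).uliftYonedaEquiv.symm t, ?_⟩
  apply (J S).uliftYonedaEquiv.injective
  rw [(J S).uliftYonedaEquiv_comp, Equiv.apply_symm_apply, ← (J S).uliftYonedaEquiv_naturality]
  exact ht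

/-- Conversely, a morphism all of whose target sections lift locally is an epimorphism. -/
theorem epi_of_local_lift {F G : Sp S} (f : F ⟶ G)
    (h : ∀ (T : Over S) (g : (yon S).obj T ⟶ G), ∃ R : Sieve T, R ∈ J S T ∧
      ∀ ⦃W : Over S⦄ (w : W ⟶ T), R w → ∃ l : (yon S).obj W ⟶ F, l ≫ f = (yon S).map w ≫ g) :
    Epi f := by
  have : Sheaf.IsLocallySurjective f := by
    refine ⟨fun {T} s => ?_⟩
    obtain ⟨R, hR, hl⟩ := h T ((J S).uliftYonedaEquiv.symm s)
    refine GrothendieckTopology.superset_covering _ ?_ hR
    intro W w hw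
    obtain ⟨l, hl⟩ := hl w hw
    refine ⟨(J S).uliftYonedaEquiv l, ?_⟩
    have := congrArg (J S).uliftYonedaEquiv hl
    rw [(J S).uliftYonedaEquiv_comp, ← (J S).uliftYonedaEquiv_naturality, Equiv.apply_symm_apply] at this
    exact this
  infer_instance

/-- A morphism of sheaves that is both a monomorphism and an epimorphism is an isomorphism. -/
theorem sp_isIso_of_mono_of_epi {F G : Sp S} (f : F ⟶ G) [Mono f] [Epi f] : IsIso f :=
  isIso_of_mono_of_epi f

/-- An etale morphism of algebraic spaces which is surjective on points is an epimorphism of sheaves. -/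
theorem epi_of_isEtaleMor_of_isSurjectiveMor {B D : Sp S} (hB : IsAlgSpace B) (f : B ⟶ D)
    (het : IsEtaleMor f) (hs : IsSurjectiveMor f) : Epi f := by
  obtain ⟨U, q, hq1, hq2⟩ := hB.atlas
  have h1 : RepWith @Etale (q ≫ f) := het q hq1
  have h2 : RepWith @Surjective (q ≫ f) := by
    refine repWith_surjective_of_points_surjective _ h1.1 fun x => ?_
    obtain ⟨y, rfl⟩ := hs x
    obtain ⟨u, rfl⟩ := exists_ofPt_eq_of_repWith_surjective q hq2 y
    exact ⟨Points.ofScheme U u, by rw [Points.map_comp, ← Points.ofPt_eq_map_ofScheme]⟩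
  have := epi_of_repWith_etale_surjective _ h1 h2
  exact epi_of_epi q f

end Groth.Agent.H53
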