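import Groth.Agent.H53.Points
import Groth.Agent.H53.Epi

set_option autoImplicit false
universe u
open CategoryTheory CategoryTheory.Limits AlgebraicGeometry Opposite
open AlgSp

namespace Groth.Agent.H53

variable {S : Scheme.{u}}

/-- The fibre product of two maps from representables, one of which is representable. -/
theorem exists_pullback_yon {F : Sp S} {U V : Over S} (a : (yon S).obj U ⟶ F) (b : (yon S).obj V ⟶ F)
    (hb : Representable b) :
    ∃ (W : Over S) (p : W ⟶ U) (q : W ⟶ V), IsPullback ((yon S).map p) ((yon S).map q) a b :=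
  ⟨_, _, _, (hb.isPullback' a).flip⟩

/-- The projection opposite to a `RepWith P` map in a pullback square of representables has `P`. -/
theorem prop_of_isPullback_yon {P : MorphismProperty Scheme.{u}} {F : Sp S} {U V W : Over S}
    {a : (yon S).obj U ⟶ F} {b : (yon S).obj V ⟶ F} {p : W ⟶ U} {q : W ⟶ V}
    (sq : IsPullback ((yon S).map p) ((yon S).map q) a b) (hb : RepWith P b) : P p.left :=
  hb.property a ((yon S).map q) p sq.flip

/-- Precomposing a representable etale map with an etale morphism of schemes. -/
theorem repWith_etale_map_comp {F : Sp S} {U W : Over S} (e : W ⟶ U) (he : Etale e.left)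
    (a : (yon S).obj U ⟶ F) (ha : RepWith @Etale a) : RepWith @Etale ((yon S).map e ≫ a) :=
  (RepWith @Etale).comp_mem _ _ ((repWith_yon_map_iff _ _).2 he) ha

/-- Points of a fibre product of representables over a sheaf. -/
theorem exists_pt_of_isPullback_yon {F : Sp S} {U V W : Over S}
    {a : (yon S).obj U ⟶ F} {b : (yon S).obj V ⟶ F} {p : W ⟶ U} {q : W ⟶ V}
    (sq : IsPullback ((yon S).map p) ((yon S).map q) a b) (u : ↥U.left) (v : ↥V.left)
    (h : Points.ofPt a u = Points.ofPt b v) : ∃ w : ↥W.left, p.left w = u ∧ q.left w = v := by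
  rw [Points.ofPt_eq_map_ofScheme a, Points.ofPt_eq_map_ofScheme b] at h
  obtain ⟨z, hz1, hz2⟩ := exists_point_of_isPullback sq _ _ h
  refine ⟨Points.toScheme W z, ?_, ?_⟩
  · apply (Points.schemeEquiv U).injective
    change Points.ofScheme U (p.left (Points.toScheme W z)) = Points.ofScheme U u
    rw [← hz1]
    conv_rhs => rw [← Points.ofScheme_toScheme W z]
    exact (Points.map_yon_map_apply p (Points.toScheme W z)).symm
  · apply (Points.schemeEquiv V).injective
    change Points.ofScheme V (q.left (Points.toScheme W z)) = Points.ofScheme V v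
    rw [← hz2]
    conv_rhs => rw [← Points.ofScheme_toScheme W z]
    exact (Points.map_yon_map_apply q (Points.toScheme W z)).symm

/-- Cancellation for representable etale maps from schemes. -/
theorem etale_left_of_repWith_etale {F : Sp S} {U V : Over S} (a : (yon S).obj U ⟶ F)
    (b : (yon S).obj V ⟶ F) (ha : RepWith @Etale a) (hb : RepWith @Etale b) (h : U ⟶ V)
    (w : (yon S).map h ≫ b = a) : Etale h.left := by
  obtain ⟨W, p, q, sq⟩ := exists_pullback_yon a b hb.rep
  have hp : Etale p.left := prop_of_isPullback_yon sq hb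
  have hq : Etale q.left := prop_of_isPullback_yon sq.flip ha
  have hl : (yon S).map (𝟙 U) ≫ a = (yon S).map h ≫ b := by
    rw [CategoryTheory.Functor.map_id, Category.id_comp, w]
  obtain ⟨σ, hσ⟩ := (yon S).map_surjective (sq.lift _ _ hl)
  have h1 : σ ≫ p = 𝟙 U := (yon S).map_injective (by rw [Functor.map_comp, hσ, sq.lift_fst])
  have h2 : σ ≫ q = h := (yon S).map_injective (by rw [Functor.map_comp, hσ, sq.lift_snd])
  have h1' : σ.left ≫ p.left = 𝟙 _ := by rw [← Over.comp_left, h1]; rfl
  have hσe : Etale σ.left := by
    refine MorphismProperty.of_postcomp (W := @Etale) (W' := @Etale) σ.left p.left hp ?_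
    rw [h1']; infer_instance
  have : h.left = σ.left ≫ q.left := by rw [← Over.comp_left, h2]
  rw [this]
  infer_instance

/-- An etale morphism of sheaves is etale on charts. -/
theorem locP_etale_of_isEtaleMor {F G : Sp S} (f : F ⟶ G) (hf : IsEtaleMor f) : LocP @Etale f := by
  intro U V a b h ha hb hcomm
  exact etale_left_of_repWith_etale (a ≫ f) b (hf a ha) hb h hcomm.symm

end Groth.Agent.H53
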