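import Groth.Agent.H53.SchemeLemmas
import Mathlib.AlgebraicGeometry.Morphisms.Basic

set_option autoImplicit false
universe u
open CategoryTheory CategoryTheory.Limits AlgebraicGeometry Opposite

namespace Groth.Agent.H53

/-- Two pullbacks of the same cospan: the second projections differ by an isomorphism. -/
theorem prop_snd_of_isPullback_of_isPullback {C : Type*} [Category C] (P : MorphismProperty C)
    [P.RespectsIso] {A A' X Y Z : C} {a : A ⟶ X} {b : A ⟶ Y} {a' : A' ⟶ X} {b' : A' ⟶ Y}
    {f : X ⟶ Z} {g : Y ⟶ Z} (h : IsPullback a b f g) (h' : IsPullback a' b' f g) (hb : P b) :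
    P b' := by
  have e : (h'.isoIsPullback _ _ h).hom ≫ b = b' := IsPullback.isoIsPullback_hom_snd _ _ h' h
  rw [← e]
  exact (P.cancel_left_of_respectsIso _ _).2 hb

/-- A property of morphisms of schemes that is Zariski local on the target and descends along fpqc
morphisms can be checked after base change to the members of a finite jointly surjective family
of flat morphisms of affine schemes. -/
theorem prop_of_fpqc_family (P : MorphismProperty Scheme.{u}) [IsZariskiLocalAtTarget P]
    [P.DescendsAlong (@Surjective ⊓ @Flat ⊓ @QuasiCompact)] {V Z : Scheme.{u}} [IsAffine Z]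
    (s : V ⟶ Z) {m : ℕ} (W : Fin m → Scheme.{u}) (c : ∀ j, W j ⟶ Z) [∀ j, IsAffine (W j)]
    [∀ j, Flat (c j)] (hs : ∀ z : Z, ∃ j, z ∈ Set.range (c j))
    (h : ∀ j, ∃ (Vj : Scheme.{u}) (a : Vj ⟶ V) (b : Vj ⟶ W j), IsPullback a b s (c j) ∧ P b) :
    P s := by
  have hc := sigmaDesc_fpqc W c hs
  refine MorphismProperty.DescendsAlong.of_isPullback (Q := @Surjective ⊓ @Flat ⊓ @QuasiCompact)
    (IsPullback.of_hasPullback (Sigma.desc c) s) hc ?_
  rw [IsZariskiLocalAtTarget.iff_of_openCover (P := P) (sigmaOpenCover W)]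
  intro j
  obtain ⟨Vj, a, b, sq, hb⟩ := h j
  have sq1 : IsPullback (pullback.fst (pullback.fst (Sigma.desc c) s) (Sigma.ι W j))
      (pullback.snd (pullback.fst (Sigma.desc c) s) (Sigma.ι W j))
      (pullback.fst (Sigma.desc c) s) (Sigma.ι W j) := IsPullback.of_hasPullback _ _
  have sq2 : IsPullback (pullback.snd (Sigma.desc c) s) (pullback.fst (Sigma.desc c) s) s
      (Sigma.desc c) := (IsPullback.of_hasPullback (Sigma.desc c) s).flip
  have sq3 := sq1.flip.paste_vert sq2.flip
  have e : Sigma.ι W j ≫ Sigma.desc c = c j := Sigma.ι_desc _ _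
  rw [e] at sq3
  exact prop_snd_of_isPullback_of_isPullback P sq sq3.flip hb

end Groth.Agent.H53
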