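import Groth.Agent.H53.Basic
import Groth.Agent.H53.FpqcLocal

set_option autoImplicit false
universe u
open CategoryTheory CategoryTheory.Limits AlgebraicGeometry Opposite
open AlgSp

namespace Groth.Agent.H53

variable {S : Scheme.{u}}

/-- If `d ≫ ι` is a pullback-compatible composite with `ι` a monomorphism, squares over `d ≫ ι`
are squares over `d`. -/
theorem isPullback_of_comp_mono {C : Type*} [Category C] {P A B T D : C} {fst : P ⟶ A} {snd : P ⟶ T}
    {d : A ⟶ B} {g : T ⟶ B} (ι : B ⟶ D) [Mono ι] (h : IsPullback fst snd (d ≫ ι) (g ≫ ι)) :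
    IsPullback fst snd d g := by
  have w : fst ≫ d = snd ≫ g := by
    rw [← cancel_mono ι, Category.assoc, Category.assoc]; exact h.w
  refine ⟨⟨w⟩, ⟨PullbackCone.IsLimit.mk _
    (fun s => h.lift s.fst s.snd (by rw [← Category.assoc, ← Category.assoc, s.condition]))
    (fun s => h.lift_fst _ _ _) (fun s => h.lift_snd _ _ _)
    (fun s m h1 h2 => h.hom_ext (by rw [h1, h.lift_fst]) (by rw [h2, h.lift_snd]))⟩⟩

/-- A representable morphism `d` of sheaves has `P` (in the representable sense) as soon as it
has `P` after base change to the members of suitable finite flat affine families over every affine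
test scheme.  Here `P` is Zariski local on the target and descends along fpqc morphisms. -/
theorem repWith_of_fpqc_local (P : MorphismProperty Scheme.{u}) [IsZariskiLocalAtTarget P]
    [P.DescendsAlong (@Surjective ⊓ @Flat ⊓ @QuasiCompact)] {A B : Sp S} (d : A ⟶ B)
    (hd : Representable d)
    (H : ∀ (Z : Over S), IsAffine Z.left → ∀ t : (yon S).obj Z ⟶ B,
      ∃ (m : ℕ) (W : Fin m → Over S) (c : ∀ j, W j ⟶ Z),
        (∀ j, IsAffine (W j).left) ∧ (∀ j, Flat (c j).left) ∧
        (∀ z : ↥Z.left, ∃ j, z ∈ Set.range (c j).left) ∧
        ∀ j (V' : Over S) (fst' : (yon S).obj V' ⟶ A) (s' : V' ⟶ W j),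
          IsPullback fst' ((yon S).map s') d ((yon S).map (c j) ≫ t) → P s'.left) :
    RepWith P d := by
  refine ⟨hd, fun {U V} g fst snd sq => ?_⟩
  change P snd.left
  rw [IsZariskiLocalAtTarget.iff_of_openCover (P := P) U.left.affineCover]
  intro α
  have hZ : IsAffine (overOf U (U.left.affineCover.f α)).left :=
    Scheme.isAffine_affineCover U.left α
  obtain ⟨m, W, c, hW, hc, hs, hP⟩ := H _ hZ ((yon S).map (overHom U (U.left.affineCover.f α)) ≫ g)
  -- the pullback of `snd` along the affine open, over `S`
  have sqZ : IsPullback (pullback.fst snd (overHom U (U.left.affineCover.f α)))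
      (pullback.snd snd (overHom U (U.left.affineCover.f α))) snd
      (overHom U (U.left.affineCover.f α)) := IsPullback.of_hasPullback _ _
  have sqZ' := sqZ.map (Over.forget S)
  have sqα : IsPullback (pullback.fst snd.left (U.left.affineCover.f α))
      (pullback.snd snd.left (U.left.affineCover.f α)) snd.left (U.left.affineCover.f α) :=
    IsPullback.of_hasPullback _ _
  refine prop_snd_of_isPullback_of_isPullback P sqZ' sqα ?_
  have : IsAffine ((Over.forget S).obj (overOf U (U.left.affineCover.f α))) := hZ
  have : ∀ j, IsAffine ((fun j => (W j).left) j) := hW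
  have : ∀ j, Flat ((fun j => (c j).left) j) := hc
  refine prop_of_fpqc_family P _ (fun j => (W j).left) (fun j => (c j).left) hs fun j => ?_
  have sqj : IsPullback (pullback.fst (pullback.snd snd (overHom U (U.left.affineCover.f α))) (c j))
      (pullback.snd (pullback.snd snd (overHom U (U.left.affineCover.f α))) (c j))
      (pullback.snd snd (overHom U (U.left.affineCover.f α))) (c j) := IsPullback.of_hasPullback _ _
  refine ⟨_, _, _, sqj.map (Over.forget S), ?_⟩
  refine hP j _ ((yon S).map (pullback.fst (pullback.snd snd (overHom U (U.left.affineCover.f α))) (c j)) ≫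
    (yon S).map (pullback.fst snd (overHom U (U.left.affineCover.f α))) ≫ fst) _ ?_
  have p1 := (sqZ.map (yon S)).paste_horiz sq
  have p2 := (sqj.map (yon S)).flip.paste_vert p1.flip
  exact p2.flip

/-- The diagonal of a base change is the base change of the diagonal. -/
theorem isPullback_diagonal_of_isPullback {C : Type*} [Category C] [HasPullbacks C] {X' X Y' Y : C}
    {q : X' ⟶ X} {p : X' ⟶ Y'} {f : X ⟶ Y} {g : Y' ⟶ Y} (sq : IsPullback q p f g) :
    IsPullback q (pullback.diagonal p) (pullback.diagonal f)
      (pullback.map p p f f q q g sq.w.symm sq.w.symm) := by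
  have key : ∀ s : PullbackCone (pullback.diagonal f) (pullback.map p p f f q q g sq.w.symm sq.w.symm),
      s.snd ≫ pullback.fst p p = s.snd ≫ pullback.snd p p := by
    intro s
    have h1 := s.condition =≫ pullback.fst f f
    have h2 := s.condition =≫ pullback.snd f f
    simp only [Category.assoc, pullback.diagonal_fst, pullback.diagonal_snd, Category.comp_id,
      pullback.lift_fst, pullback.lift_snd, pullback.map] at h1 h2
    apply sq.hom_ext
    · rw [Category.assoc, Category.assoc, ← h1, ← h2]
    · rw [Category.assoc, Category.assoc, pullback.condition]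
  refine ⟨⟨?_⟩, ⟨PullbackCone.IsLimit.mk _ (fun s => s.snd ≫ pullback.fst p p) ?_ ?_ ?_⟩⟩
  · apply pullback.hom_ext
    · simp only [Category.assoc, pullback.diagonal_fst, Category.comp_id, pullback.map, pullback.lift_fst]
      rw [pullback.diagonal_fst_assoc]
    · simp only [Category.assoc, pullback.diagonal_snd, Category.comp_id, pullback.map, pullback.lift_snd]
      rw [pullback.diagonal_snd_assoc]
  · intro s
    have h1 := s.condition =≫ pullback.fst f f
    simp only [Category.assoc, pullback.diagonal_fst, Category.comp_id,
      pullback.lift_fst, pullback.map] at h1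
    rw [Category.assoc, ← h1]
  · intro s
    apply pullback.hom_ext
    · simp
    · simp only [Category.assoc, pullback.diagonal_snd, Category.comp_id]
      exact key s
  · intro s m h1 h2
    rw [← h2]; simp

/-- The relative diagonal of a morphism whose source has representable diagonal is representable. -/
theorem representable_diagonal {X Y : Sp S} (hX : Representable (Limits.diag X)) (f : X ⟶ Y) :
    Representable (pullback.diagonal f) := by
  intro T g
  have : Mono (prod.lift (pullback.fst f f) (pullback.snd f f)) := by
    refine ⟨fun a b hab => ?_⟩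
    have h1 := hab =≫ prod.fst
    have h2 := hab =≫ prod.snd
    simp only [Category.assoc, prod.lift_fst, prod.lift_snd] at h1 h2
    exact pullback.hom_ext h1 h2
  have e : Limits.diag X = pullback.diagonal f ≫ prod.lift (pullback.fst f f) (pullback.snd f f) := by
    apply Limits.prod.hom_ext <;> simp
  obtain ⟨V, snd, fst, sq⟩ := hX (g ≫ prod.lift (pullback.fst f f) (pullback.snd f f))
  rw [e] at sq
  exact ⟨_, _, _, isPullback_of_comp_mono _ sq⟩

end Groth.Agent.H53
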