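import Groth.Agent.H53.LocSource
import Groth.Agent.H53.LocalBase

universe u
open CategoryTheory CategoryTheory.Limits AlgebraicGeometry Opposite AlgSp

namespace Groth.Agent.H53

variable {S : Scheme.{u}}

/-- Over an affine test scheme, a surjective etale chart admits a finite refinement by affine
schemes etale over the test scheme. -/
theorem exists_finite_affine_etale_cover {B : Sp S} {V : Over S} (b : (yon S).obj V ⟶ B)
    (hb1 : RepWith @Etale b) (hb2 : RepWith @Surjective b)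
    (Z : Over S) (hZ : IsAffine Z.left) (t : (yon S).obj Z ⟶ B) :
    ∃ (m : ℕ) (W : Fin m → Over S) (c : ∀ j, W j ⟶ Z) (l : ∀ j, W j ⟶ V),
      (∀ j, IsAffine (W j).left) ∧ (∀ j, Etale (c j).left) ∧
      (∀ z : ↥Z.left, ∃ j, z ∈ Set.range (c j).left) ∧
      ∀ j, (yon S).map (c j) ≫ t = (yon S).map (l j) ≫ b := by
  have sq := hb1.rep.isPullback t
  obtain ⟨l₀, hl₀⟩ := (yon S).map_surjective (hb1.rep.fst t)
  have he1 : Etale (hb1.rep.snd t).left := hb1.property_snd t
  have he2 : Surjective (hb1.rep.snd t).left := hb2.property _ _ _ sq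
  have : CompactSpace ↥Z.left := inferInstance
  obtain ⟨V₀, hV₀, hV₀'⟩ := exists_compact_open_surjective (hb1.rep.snd t).left
  obtain ⟨s, hs, hsU⟩ := isCompact_iff_finite_and_eq_biUnion_affineOpens.mp hV₀
  have := hs.to_subtype
  obtain ⟨m, ⟨φ⟩⟩ := Finite.exists_equiv_fin ↥s
  refine ⟨m, fun j => overOf (hb1.rep.pullback t) ((φ.symm j).1.1.ι),
    fun j => overHom (hb1.rep.pullback t) ((φ.symm j).1.1.ι) ≫ hb1.rep.snd t,
    fun j => overHom (hb1.rep.pullback t) ((φ.symm j).1.1.ι) ≫ l₀,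
    fun j => (φ.symm j).1.2, fun j => ?_, fun z => ?_, fun j => ?_⟩
  · change Etale ((φ.symm j).1.1.ι ≫ (hb1.rep.snd t).left)
    infer_instance
  · have hz : z ∈ (hb1.rep.snd t).left '' (V₀ : Set _) := by rw [hV₀']; trivial
    obtain ⟨y, hy, rfl⟩ := hz
    rw [hsU] at hy
    simp only [TopologicalSpace.Opens.mem_iSup, SetLike.mem_coe] at hy
    obtain ⟨i, hi, hyi⟩ := hy
    refine ⟨φ ⟨i, hi⟩, ⟨⟨y, ?_⟩, ?_⟩⟩
    · rw [Equiv.symm_apply_apply]; exact hyi
    · rfl
  · rw [Functor.map_comp, Functor.map_comp, Category.assoc, Category.assoc, ← sq.w, hl₀]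

end Groth.Agent.H53
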