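import Groth.Agent.H53.FlatFamily
import Groth.Agent.H53.EtaleCover

universe u
open CategoryTheory CategoryTheory.Limits AlgebraicGeometry Opposite AlgSp

namespace Groth.Agent.H53

variable {S : Scheme.{u}}

/-- Over a test scheme mapping to an algebraic space there is a jointly surjective family of
affine schemes etale over the test scheme, each of which maps to an affine etale chart of the
space. -/
theorem exists_affine_etale_refinement {T' : Sp S} (hT' : IsAlgSpace T') (V : Over S)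
    (t : (yon S).obj V ⟶ T') :
    ∃ (ι : Type u) (P : ι → Over S) (c : ∀ k, P k ⟶ V) (Z : ι → Over S)
      (β : ∀ k, (yon S).obj (Z k) ⟶ T') (l : ∀ k, P k ⟶ Z k),
      (∀ k, IsAffine (P k).left) ∧ (∀ k, IsAffine (Z k).left) ∧ (∀ k, RepWith @Etale (β k)) ∧
      (∀ k, Etale (c k).left) ∧ (∀ z : ↥V.left, ∃ k, z ∈ Set.range (c k).left) ∧
      ∀ k, (yon S).map (c k) ≫ t = (yon S).map (l k) ≫ β k := by
  obtain ⟨U, b, hb1, hb2⟩ := hT'.atlas
  have sq := hb1.rep.isPullback t
  obtain ⟨l₀, hl₀⟩ := (yon S).map_surjective (hb1.rep.fst t)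
  have he1 : Etale (hb1.rep.snd t).left := hb1.property_snd t
  have he2 : Surjective (hb1.rep.snd t).left := hb2.property _ _ _ sq
  let Q : Over S := hb1.rep.pullback t
  let 𝒰 := U.left.affineCover
  have hex : ∀ x : ↥Q.left, ∃ O : Q.left.Opens, O ∈ Q.left.affineOpens ∧ x ∈ O ∧
      O ≤ l₀.left ⁻¹ᵁ (𝒰.f (𝒰.idx (l₀.left x))).opensRange := by
    intro x
    have hx : x ∈ l₀.left ⁻¹ᵁ (𝒰.f (𝒰.idx (l₀.left x))).opensRange := 𝒰.covers (l₀.left x)
    obtain ⟨_, ⟨O, hO, rfl⟩, hxO, hle⟩ :=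
      Q.left.isBasis_affineOpens.exists_subset_of_mem_open hx (TopologicalSpace.Opens.isOpen _)
    exact ⟨O, hO, hxO, hle⟩
  choose O hO hxO hle using hex
  have hrange : ∀ x : ↥Q.left, Set.range ((O x).ι ≫ l₀.left) ⊆
      Set.range (𝒰.f (𝒰.idx (l₀.left x))) := by
    rintro x _ ⟨y, rfl⟩
    exact hle x y.2
  let lft : ∀ x : ↥Q.left, (O x : Scheme.{u}) ⟶ 𝒰.X (𝒰.idx (l₀.left x)) := fun x =>
    IsOpenImmersion.lift (𝒰.f (𝒰.idx (l₀.left x))) ((O x).ι ≫ l₀.left) (hrange x)
  have hlft : ∀ x, lft x ≫ 𝒰.f (𝒰.idx (l₀.left x)) = (O x).ι ≫ l₀.left := fun x =>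
    IsOpenImmersion.lift_fac _ _ _
  refine ⟨↥Q.left, fun x => overOf Q (O x).ι, fun x => overHom Q (O x).ι ≫ hb1.rep.snd t,
    fun x => overOf U (𝒰.f (𝒰.idx (l₀.left x))),
    fun x => (yon S).map (overHom U (𝒰.f (𝒰.idx (l₀.left x)))) ≫ b,
    fun x => Over.homMk (lft x) ?_, fun x => hO x, fun x => Scheme.isAffine_affineCover U.left _,
    fun x => repWith_etale_map_comp _ (by change Etale (𝒰.f _); infer_instance) b hb1,
    fun x => ?_, fun z => ?_, fun x => ?_⟩
  · change lft x ≫ 𝒰.f (𝒰.idx (l₀.left x)) ≫ U.hom = (O x).ι ≫ Q.hom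
    rw [← Category.assoc, hlft, Category.assoc, Over.w l₀]
  · change Etale ((O x).ι ≫ (hb1.rep.snd t).left)
    infer_instance
  · obtain ⟨x, rfl⟩ := he2.surj z
    exact ⟨x, ⟨⟨x, hxO x⟩, rfl⟩⟩
  · have e : (Over.homMk (lft x) (by
        change lft x ≫ 𝒰.f (𝒰.idx (l₀.left x)) ≫ U.hom = (O x).ι ≫ Q.hom
        rw [← Category.assoc, hlft, Category.assoc, Over.w l₀]) :
          overOf Q (O x).ι ⟶ overOf U (𝒰.f (𝒰.idx (l₀.left x)))) ≫
        overHom U (𝒰.f (𝒰.idx (l₀.left x))) = overHom Q (O x).ι ≫ l₀ := by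
      ext
      exact hlft x
    rw [← Category.assoc, ← Functor.map_comp, e, Functor.map_comp, Functor.map_comp,
      Category.assoc, Category.assoc, ← sq.w, hl₀]


/-- One chart of the base change argument: over an affine `P` etale-locally mapping to an affine
etale chart `Z` of `T'`, the pullback of a first order thickening is a square-zero closed
immersion dominating the pullback to `V`. -/
theorem exists_sqZero_over_chart {T T' : Sp S} {j : T ⟶ T'} (hj : IsFOThickMor j)
    {V W : Over S} (t : (yon S).obj V ⟶ T') (fst : (yon S).obj W ⟶ T) (snd : W ⟶ V)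
    (sq : IsPullback fst ((yon S).map snd) j t) {P Z : Over S} (hP : IsAffine P.left)
    (hZ : IsAffine Z.left) (c : P ⟶ V) (β : (yon S).obj Z ⟶ T') (hβ : RepWith @Etale β)
    (l : P ⟶ Z) (hcomm : (yon S).map c ≫ t = (yon S).map l ≫ β) :
    ∃ (Wk : Over S) (ik : Wk ⟶ P) (q : Wk ⟶ W), ik ≫ c = q ≫ snd ∧
      IsClosedImmersion ik.left ∧ sqZero ik.left := by
  have hrep : Representable j := hj.1.rep
  have sq' := hrep.isPullback β
  have hsz' : sqZero (hrep.snd β).left := hj.2 β (hrep.fst β) (hrep.snd β) hZ hβ sq'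
  have hth' : thick (hrep.snd β).left := hj.1.property β _ _ sq'
  have sqk := hrep.isPullback ((yon S).map l ≫ β)
  have hthk : thick (hrep.snd ((yon S).map l ≫ β)).left := hj.1.property _ _ _ sqk
  obtain ⟨m, hm1, hm2⟩ : ∃ m, m ≫ hrep.fst β = hrep.fst ((yon S).map l ≫ β) ∧
      m ≫ (yon S).map (hrep.snd β) = (yon S).map (hrep.snd ((yon S).map l ≫ β)) ≫ (yon S).map l :=
    ⟨sq'.lift _ _ (by rw [sqk.w, Category.assoc]), sq'.lift_fst _ _ _, sq'.lift_snd _ _ _⟩
  obtain ⟨m₀, rfl⟩ := (yon S).map_surjective m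
  have sqL : IsPullback ((yon S).map m₀) ((yon S).map (hrep.snd ((yon S).map l ≫ β)))
      ((yon S).map (hrep.snd β)) ((yon S).map l) :=
    IsPullback.of_right (by rw [hm1]; exact sqk) hm2 sq'
  have sqL' : IsPullback m₀ (hrep.snd ((yon S).map l ≫ β)) (hrep.snd β) l :=
    IsPullback.of_map (yon S) ((yon S).map_injective (by
      rw [Functor.map_comp, Functor.map_comp]; exact sqL.w)) sqL
  have sqL'' := sqL'.map (Over.forget S)
  have : IsClosedImmersion (hrep.snd β).left := hth'.1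
  have hszk : sqZero (hrep.snd ((yon S).map l ≫ β)).left :=
    sqZero_of_isPullback_of_isAffine (hrep.snd β).left hsz' l.left m₀.left
      (hrep.snd ((yon S).map l ≫ β)).left sqL''
  obtain ⟨q, hq1, hq2⟩ : ∃ q, q ≫ fst = hrep.fst ((yon S).map l ≫ β) ∧
      q ≫ (yon S).map snd = (yon S).map (hrep.snd ((yon S).map l ≫ β)) ≫ (yon S).map c :=
    ⟨sq.lift _ _ (by rw [sqk.w, Category.assoc, hcomm]), sq.lift_fst _ _ _, sq.lift_snd _ _ _⟩
  obtain ⟨q₀, rfl⟩ := (yon S).map_surjective q
  refine ⟨hrep.pullback ((yon S).map l ≫ β), hrep.snd ((yon S).map l ≫ β), q₀, ?_, hthk.1, hszk⟩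
  apply (yon S).map_injective
  rw [Functor.map_comp, Functor.map_comp, hq2]

/-- A first order thickening of algebraic spaces pulls back to a square-zero closed immersion
along an ARBITRARY map from an affine scheme (not only along etale charts). -/
theorem sqZero_of_isPullback_of_isFOThickMor {T T' : Sp S} {j : T ⟶ T'} (hj : IsFOThickMor j)
    (hT' : IsAlgSpace T') {V W : Over S} (hV : IsAffine V.left) (t : (yon S).obj V ⟶ T')
    (fst : (yon S).obj W ⟶ T) (snd : W ⟶ V) (sq : IsPullback fst ((yon S).map snd) j t) :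
    sqZero snd.left := by
  have hth : thick snd.left := hj.1.property t fst snd sq
  have : IsClosedImmersion snd.left := hth.1
  obtain ⟨ι, P, c, Z, β, l, hP, hZ, hβ, hc, hsurj, hcomm⟩ := exists_affine_etale_refinement hT' V t
  choose Wk ik q h1 h2 h3 using fun k =>
    exists_sqZero_over_chart hj t fst snd sq (hP k) (hZ k) (c k) (β k) (hβ k) (l k) (hcomm k)
  have : ∀ k, Flat (c k).left := fun k => by
    have := hc k
    infer_instance
  exact sqZero_of_flat_family snd.left (fun k => (P k).left) (fun k => (c k).left) hsurj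
    (fun k => (Wk k).left) (fun k => (ik k).left) (fun k => (q k).left)
    (fun k => by rw [← Over.comp_left, ← Over.comp_left, h1 k]) h3


/-- First order thickenings of algebraic spaces are stable under arbitrary base change. -/
theorem isFOThickMor_of_isPullback {T T' R R' : Sp S} {j : T ⟶ T'} (hj : IsFOThickMor j)
    (hT' : IsAlgSpace T') {j' : R ⟶ R'} {p : R ⟶ T} {p' : R' ⟶ T'} (sq : IsPullback p j' j p') :
    IsFOThickMor j' := by
  refine ⟨MorphismProperty.of_isPullback (P := AlgSp.RepWith AlgSp.thick) sq hj.1, ?_⟩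
  intro V W b fst snd hV hb sq₂
  exact sqZero_of_isPullback_of_isFOThickMor hj hT' hV (b ≫ p') (fst ≫ p) snd (sq₂.paste_horiz sq)

end Groth.Agent.H53
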