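import Groth.Agent.H53.EtaleLiftRing
import Groth.Agent.H53.ThickBC

universe u
open CategoryTheory CategoryTheory.Limits AlgebraicGeometry Opposite AlgSp
open scoped TensorProduct

namespace Groth.Agent.H53

set_option backward.isDefEq.respectTransparency false in
/-- Local lifting of etale morphisms along a square-zero closed immersion into an affine scheme:
around every point, an etale `P₀ ⟶ T` is the base change of an etale `P' ⟶ T'` with `P'`
affine. -/
theorem exists_etale_lift_nhd {T T' P₀ : Scheme.{u}} [IsAffine T'] (j : T ⟶ T')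
    [IsClosedImmersion j] (hj : j.ker * j.ker = ⊥) (p₀ : P₀ ⟶ T) [Etale p₀] (x : P₀) :
    ∃ (U P' : Scheme.{u}) (o : U ⟶ P₀) (π : P' ⟶ T') (i : U ⟶ P'),
      IsAffine U ∧ IsAffine P' ∧ Etale π ∧ x ∈ Set.range o ∧ IsPullback i (o ≫ p₀) π j := by
  obtain ⟨hT, hsurj⟩ := IsClosedImmersion.isAffine_surjective_of_isAffine j
  let _ : Algebra Γ(T', ⊤) Γ(T, ⊤) := j.appTop.hom.toAlgebra
  have hker : RingHom.ker (algebraMap Γ(T', ⊤) Γ(T, ⊤)) ^ 2 = ⊥ :=
    Groth.Agent.H8.ker_appTop_sq_eq_bot j hj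
  obtain ⟨_, ⟨V, hV, rfl⟩, hxV, -⟩ :=
    P₀.isBasis_affineOpens.exists_subset_of_mem_open (Set.mem_univ x) isOpen_univ
  have hV' : IsAffineOpen V := hV
  have hle : V ≤ p₀ ⁻¹ᵁ ⊤ := le_top
  let ψ : Γ(T, ⊤) →+* Γ(P₀, V) := (p₀.appLE ⊤ V hle).hom
  have hψ : ψ.Etale :=
    HasRingHomProperty.appLE (P := @Etale) p₀ inferInstance ⟨⊤, isAffineOpen_top T⟩ ⟨V, hV'⟩ hle
  let _ : Algebra Γ(T, ⊤) Γ(P₀, V) := ψ.toAlgebra
  have : Algebra.Etale Γ(T, ⊤) Γ(P₀, V) := hψ
  let q := hV'.primeIdealOf ⟨x, hxV⟩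
  obtain ⟨f, hf, B', _, _, hB', ⟨e⟩⟩ := exists_etale_lift_away hsurj hker q.asIdeal
  let θ' : Γ(P₀, V) →+* Localization.Away f := algebraMap Γ(P₀, V) (Localization.Away f)
  let inl : Γ(T, ⊤) →+* Γ(T, ⊤) ⊗[Γ(T', ⊤)] B' := Algebra.TensorProduct.includeLeftRingHom
  let inr : B' →+* Γ(T, ⊤) ⊗[Γ(T', ⊤)] B' :=
    (Algebra.TensorProduct.includeRight : B' →ₐ[Γ(T', ⊤)] Γ(T, ⊤) ⊗[Γ(T', ⊤)] B').toRingHom
  have hθ : (e.toRingHom.comp θ').comp ψ = inl := by
    ext r
    change e (algebraMap Γ(P₀, V) (Localization.Away f) (algebraMap Γ(T, ⊤) Γ(P₀, V) r)) = _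
    rw [← IsScalarTower.algebraMap_apply, e.commutes]
    rfl
  let o : Spec (.of (Γ(T, ⊤) ⊗[Γ(T', ⊤)] B')) ⟶ P₀ :=
    Spec.map (CommRingCat.ofHom e.toRingHom) ≫ Spec.map (CommRingCat.ofHom θ') ≫ hV'.fromSpec
  have ho : o ≫ p₀ = Spec.map (CommRingCat.ofHom inl) ≫ T.isoSpec.inv := by
    simp only [o, Category.assoc]
    rw [← IsAffineOpen.SpecMap_appLE_fromSpec p₀ (isAffineOpen_top T) hV' hle,
      IsAffineOpen.fromSpec_top, ← Spec.map_comp_assoc, ← Spec.map_comp_assoc]
    congr 2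
    ext r
    exact congr($hθ r)
  have hpush := CommRingCat.isPushout_tensorProduct Γ(T', ⊤) Γ(T, ⊤) B'
  have hpull := (isPullback_SpecMap_of_isPushout _ _ _ _ hpush).flip
  refine ⟨Spec (.of (Γ(T, ⊤) ⊗[Γ(T', ⊤)] B')), Spec (.of B'), o,
    Spec.map (CommRingCat.ofHom (algebraMap Γ(T', ⊤) B')) ≫ T'.isoSpec.inv,
    Spec.map (CommRingCat.ofHom inr), inferInstance, inferInstance, ?_, ?_, ?_⟩
  · have : Etale (Spec.map (CommRingCat.ofHom (algebraMap Γ(T', ⊤) B'))) := by
      rw [HasRingHomProperty.Spec_iff (P := @Etale)]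
      exact (RingHom.etale_algebraMap).2 hB'
    infer_instance
  · have hq : q ∈ Set.range (PrimeSpectrum.comap θ') := by
      rw [PrimeSpectrum.localization_away_comap_range (Localization.Away f) f]
      exact hf
    obtain ⟨y, hy⟩ := hq
    have : IsIso (Spec.map (CommRingCat.ofHom e.toRingHom)) := by
      have : IsIso (CommRingCat.ofHom e.toRingHom) := e.toRingEquiv.toCommRingCatIso.isIso_hom
      infer_instance
    obtain ⟨z, hz⟩ := (ConcreteCategory.bijective_of_isIso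
      (Spec.map (CommRingCat.ofHom e.toRingHom)).base).2 y
    refine ⟨z, ?_⟩
    have h1 : o z = hV'.fromSpec ((Spec.map (CommRingCat.ofHom θ')) ((Spec.map (CommRingCat.ofHom e.toRingHom)) z)) := rfl
    rw [h1]
    have h2 : (Spec.map (CommRingCat.ofHom e.toRingHom)) z = y := hz
    rw [h2]
    have h3 : (Spec.map (CommRingCat.ofHom θ')) y = q := hy
    rw [h3]
    exact hV'.fromSpec_primeIdealOf ⟨x, hxV⟩
  · refine hpull.of_iso (Iso.refl _) (Iso.refl _) T.isoSpec.symm T'.isoSpec.symm ?_ ?_ ?_ ?_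
    · simp
      rfl
    · simp only [Iso.refl_hom, Category.id_comp, Iso.symm_hom]
      exact ho.symm
    · simp
    · simp only [Iso.symm_hom]
      exact Scheme.isoSpec_inv_naturality j


variable {S : Scheme.{u}}

/-- The covering condition of `desc_of_family` / `hom_ext_of_family` for a jointly surjective
family of flat, locally finitely presented morphisms of schemes over `S`. -/
theorem cover_of_family {T' : Over S} {ι : Type u} (P' : ι → Over S) (π : ∀ k, P' k ⟶ T')
    (h1 : ∀ k, Flat (π k).left) (h2 : ∀ k, LocallyOfFinitePresentation (π k).left)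
    (hs : ∀ z : ↥T'.left, ∃ k, z ∈ Set.range (π k).left)
    (V : Over S) (t : (yon S).obj V ⟶ (yon S).obj T') :
    ∃ R : Sieve V, R ∈ J S V ∧ ∀ ⦃W : Over S⦄ (w : W ⟶ V), R w →
      ∃ (k : ι) (g : W ⟶ P' k), (yon S).map g ≫ (yon S).map (π k) = (yon S).map w ≫ t := by
  obtain ⟨t₀, rfl⟩ := (yon S).map_surjective t
  let 𝒱 : Scheme.Cover.{u} Scheme.fppfPrecoverage V.left :=
    Scheme.Cover.mkOfCovers (P := @Flat ⊓ @LocallyOfFinitePresentation) ι
      (fun k => pullback t₀.left (π k).left) (fun k => pullback.fst t₀.left (π k).left)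
      (fun x => by
        obtain ⟨k, y, hy⟩ := hs (t₀.left x)
        obtain ⟨z, hz1, -⟩ := Scheme.Pullback.exists_preimage_pullback x y hy.symm
        exact ⟨k, z, hz1⟩)
      (fun k => ⟨inferInstance, inferInstance⟩)
  refine ⟨(Sieve.overEquiv V).symm (Sieve.generate (Presieve.ofArrows _ 𝒱.f)),
    GrothendieckTopology.overEquiv_symm_mem_over _ _ _
      (Precoverage.generate_mem_toGrothendieck 𝒱.mem₀), fun W w hw => ?_⟩
  have aux : ∀ (k : ι) (v : W.left ⟶ pullback t₀.left (π k).left),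
      v ≫ pullback.fst t₀.left (π k).left = w.left →
      ∃ (k : ι) (g : W ⟶ P' k), (yon S).map g ≫ (yon S).map (π k) = (yon S).map w ≫ (yon S).map t₀ := by
    intro k v hv'
    have hOver : (v ≫ pullback.snd t₀.left (π k).left) ≫ (P' k).hom = W.hom := by
      rw [← Over.w (π k), Category.assoc, ← Category.assoc (pullback.snd _ _), ← pullback.condition,
        Category.assoc, ← Category.assoc v, hv', Over.w t₀, Over.w w]
    refine ⟨k, Over.homMk (v ≫ pullback.snd t₀.left (π k).left) hOver, ?_⟩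
    rw [← Functor.map_comp, ← Functor.map_comp]
    congr 1
    ext
    change (v ≫ pullback.snd t₀.left (π k).left) ≫ (π k).left = w.left ≫ t₀.left
    rw [Category.assoc, ← pullback.condition, ← Category.assoc, hv']
  rw [Sieve.overEquiv_symm_iff] at hw
  obtain ⟨V', v, _, ⟨k⟩, hv⟩ := hw
  exact aux k v hv


/-- Local lifting through a representable etale surjection along a square-zero thickening of an
affine scheme: etale locally on the thickened scheme `T'`, a map `h_T ⟶ G` lifts to `F`. -/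
theorem exists_local_lift_of_thick {F G : Sp S} (a : F ⟶ G) (ha : RepWith @Etale a)
    (ha' : RepWith @Surjective a) {T T' : Over S} (j : T ⟶ T') (hT' : IsAffine T'.left)
    (h1 : thick j.left) (h2 : sqZero j.left) (top : (yon S).obj T ⟶ G) :
    ∃ (ι : Type u) (P' P : ι → Over S) (π : ∀ k, P' k ⟶ T') (i : ∀ k, P k ⟶ P' k)
      (ρ : ∀ k, P k ⟶ T) (s : ∀ k, (yon S).obj (P k) ⟶ F),
      (∀ k, IsAffine (P' k).left) ∧ (∀ k, Etale (π k).left) ∧
      (∀ z : ↥T'.left, ∃ k, z ∈ Set.range (π k).left) ∧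
      (∀ z : ↥T.left, ∃ k, z ∈ Set.range (ρ k).left) ∧
      (∀ k, IsPullback (i k) (ρ k) (π k) j) ∧
      (∀ k, s k ≫ a = (yon S).map (ρ k) ≫ top) := by
  have sq := ha.rep.isPullback top
  have he : Etale (ha.rep.snd top).left := ha.property_snd top
  have hs : Surjective (ha.rep.snd top).left := ha'.property _ _ _ sq
  have : IsClosedImmersion j.left := h1.1
  have hjs : Function.Surjective j.left := h1.2.surj
  choose U P' o π i hU hP' hπ hx hpb using fun x : ↥(ha.rep.pullback top).left =>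
    exists_etale_lift_nhd j.left h2 (ha.rep.snd top).left x
  have hw : ∀ x, i x ≫ π x ≫ T'.hom = (o x ≫ (ha.rep.snd top).left) ≫ T.hom := fun x => by
    rw [← Category.assoc, (hpb x).w, Category.assoc, Over.w j]
  have hw' : ∀ x, o x ≫ (ha.rep.pullback top).hom = (o x ≫ (ha.rep.snd top).left) ≫ T.hom :=
    fun x => by rw [Category.assoc, Over.w (ha.rep.snd top)]
  refine ⟨↥(ha.rep.pullback top).left, fun x => overOf T' (π x),
    fun x => overOf T (o x ≫ (ha.rep.snd top).left), fun x => overHom T' (π x),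
    fun x => Over.homMk (i x) (hw x), fun x => overHom T (o x ≫ (ha.rep.snd top).left),
    fun x => (yon S).map (Over.homMk (o x) (hw' x) :
      overOf T (o x ≫ (ha.rep.snd top).left) ⟶ ha.rep.pullback top) ≫ ha.rep.fst top,
    fun x => hP' x, fun x => hπ x, fun z => ?_, fun z => ?_, fun x => ?_, fun x => ?_⟩
  · obtain ⟨t, rfl⟩ := hjs z
    obtain ⟨x, rfl⟩ := hs.surj t
    obtain ⟨y, hy⟩ := hx x
    refine ⟨x, ⟨(i x) y, ?_⟩⟩
    change (i x ≫ π x) y = _
    rw [(hpb x).w]
    exact congrArg (fun p => j.left ((ha.rep.snd top).left p)) hy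
  · obtain ⟨x, rfl⟩ := hs.surj z
    obtain ⟨y, hy⟩ := hx x
    refine ⟨x, ⟨y, ?_⟩⟩
    exact congrArg (fun p => (ha.rep.snd top).left p) hy
  · refine IsPullback.of_map (Over.forget S) ?_ (hpb x)
    ext
    exact (hpb x).w
  · rw [Category.assoc, sq.w, ← Category.assoc, ← Functor.map_comp]
    congr 2

end Groth.Agent.H53
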