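import Groth.Agent.H53.Epi
import Mathlib.CategoryTheory.Sites.RegularEpi

universe u
open CategoryTheory CategoryTheory.Limits AlgebraicGeometry Opposite AlgSp

namespace Groth.Agent.H53

variable {S : Scheme.{u}}

theorem sp_hom_mk {T F : Sp S} (l : ∀ V : Over S, ((yon S).obj V ⟶ T) → ((yon S).obj V ⟶ F))
    (nat : ∀ (V' V : Over S) (v : V' ⟶ V) (t : (yon S).obj V ⟶ T),
      l V' ((yon S).map v ≫ t) = (yon S).map v ≫ l V t) :
    ∃ L : T ⟶ F, ∀ (V : Over S) (t : (yon S).obj V ⟶ T), t ≫ L = l V t := by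
  let φ : T.obj ⟶ F.obj :=
    { app := fun V => TypeCat.ofHom fun s => (J S).uliftYonedaEquiv (l V.unop ((J S).uliftYonedaEquiv.symm s))
      naturality := by
        intro V V' v
        ext s
        change (J S).uliftYonedaEquiv (l (unop V') ((J S).uliftYonedaEquiv.symm (T.obj.map v s))) =
          F.obj.map v ((J S).uliftYonedaEquiv (l (unop V) ((J S).uliftYonedaEquiv.symm s)))
        rw [(J S).uliftYonedaEquiv_naturality', ← nat]
        congr 2
        rw [(J S).uliftYonedaEquiv_symm_naturality_left]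
        rfl }
  refine ⟨⟨φ⟩, fun V t => ?_⟩
  apply (J S).uliftYonedaEquiv.injective
  rw [(J S).uliftYonedaEquiv_comp]
  change (J S).uliftYonedaEquiv (l V ((J S).uliftYonedaEquiv.symm ((J S).uliftYonedaEquiv t))) = _
  rw [Equiv.symm_apply_apply]

/-- A jointly (locally) surjective family of maps from representables is jointly epimorphic. -/
theorem hom_ext_of_family {T F : Sp S} {ι : Type*} (Z : ι → Over S) (b : ∀ α, (yon S).obj (Z α) ⟶ T)
    (hcov : ∀ (V : Over S) (t : (yon S).obj V ⟶ T), ∃ R : Sieve V, R ∈ J S V ∧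
      ∀ ⦃W : Over S⦄ (w : W ⟶ V), R w →
        ∃ (α : ι) (g : W ⟶ Z α), (yon S).map g ≫ b α = (yon S).map w ≫ t)
    (L L' : T ⟶ F) (h : ∀ α, b α ≫ L = b α ≫ L') : L = L' := by
  refine sp_hom_ext fun V t => ?_
  obtain ⟨R, hR, hlift⟩ := hcov V t
  refine yon_hom_ext_of_sieve _ _ R hR fun W w hw => ?_
  obtain ⟨α, g, hg⟩ := hlift w hw
  rw [← Category.assoc, ← Category.assoc, ← hg, Category.assoc, Category.assoc, h]

/-- Descent of morphisms along a jointly locally surjective family of maps from representables: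
a compatible family of maps `m α : h_{Z α} ⟶ F` descends to `T`. -/
theorem desc_of_family {T F : Sp S} {ι : Type*} (Z : ι → Over S) (b : ∀ α, (yon S).obj (Z α) ⟶ T)
    (hcov : ∀ (V : Over S) (t : (yon S).obj V ⟶ T), ∃ R : Sieve V, R ∈ J S V ∧
      ∀ ⦃W : Over S⦄ (w : W ⟶ V), R w →
        ∃ (α : ι) (g : W ⟶ Z α), (yon S).map g ≫ b α = (yon S).map w ≫ t)
    (m : ∀ α, (yon S).obj (Z α) ⟶ F)
    (hm : ∀ (W : Over S) (α β : ι) (g₁ : W ⟶ Z α) (g₂ : W ⟶ Z β),
      (yon S).map g₁ ≫ b α = (yon S).map g₂ ≫ b β →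
        (yon S).map g₁ ≫ m α = (yon S).map g₂ ≫ m β) :
    ∃ L : T ⟶ F, ∀ α, b α ≫ L = m α := by
  classical
  let R : ∀ (V : Over S) (t : (yon S).obj V ⟶ T), Sieve V := fun V t =>
    { arrows := fun W w => ∃ (α : ι) (g : W ⟶ Z α), (yon S).map g ≫ b α = (yon S).map w ≫ t
      downward_closed := by
        rintro W W' w ⟨α, g, hg⟩ w'
        exact ⟨α, w' ≫ g, by
          rw [Functor.map_comp, Category.assoc, hg, Functor.map_comp, Category.assoc]⟩ }
  have hR : ∀ V t, R V t ∈ J S V := fun V t => by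
    obtain ⟨R', hR', h⟩ := hcov V t
    exact (J S).superset_covering (fun W w hw => h w hw) hR'
  have hF : Presieve.IsSheaf (J S) F.obj := (isSheaf_iff_isSheaf_of_type _ _).1 F.property
  let x : ∀ V t, Presieve.FamilyOfElements F.obj (R V t).arrows := fun V t W w hw =>
    (J S).uliftYonedaEquiv ((yon S).map hw.choose_spec.choose ≫ m hw.choose)
  have hx : ∀ V t, (x V t).Compatible := by
    intro V t W₁ W₂ W g₁ g₂ w₁ w₂ h₁ h₂ hcomm
    change F.obj.map g₁.op ((J S).uliftYonedaEquiv _) = F.obj.map g₂.op ((J S).uliftYonedaEquiv _)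
    rw [(J S).uliftYonedaEquiv_naturality, (J S).uliftYonedaEquiv_naturality]
    congr 1
    rw [← Category.assoc, ← Category.assoc, ← Functor.map_comp, ← Functor.map_comp]
    apply hm
    rw [Functor.map_comp, Functor.map_comp, Category.assoc, Category.assoc,
      h₁.choose_spec.choose_spec, h₂.choose_spec.choose_spec, ← Category.assoc, ← Category.assoc,
      ← Functor.map_comp, ← Functor.map_comp, hcomm]
  let l : ∀ V, ((yon S).obj V ⟶ T) → ((yon S).obj V ⟶ F) := fun V t =>
    (J S).uliftYonedaEquiv.symm ((hF (R V t) (hR V t)).amalgamate (x V t) (hx V t))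
  have hl : ∀ (V : Over S) (t : (yon S).obj V ⟶ T) (W : Over S) (w : W ⟶ V) (α : ι) (g : W ⟶ Z α),
      (yon S).map g ≫ b α = (yon S).map w ≫ t → (yon S).map w ≫ l V t = (yon S).map g ≫ m α := by
    intro V t W w α g hg
    have hw : (R V t).arrows w := ⟨α, g, hg⟩
    change (yon S).map w ≫ (J S).uliftYonedaEquiv.symm _ = _
    rw [(J S).uliftYonedaEquiv_symm_naturality_left,
      (hF (R V t) (hR V t)).valid_glue (hx V t) w hw]
    change (J S).uliftYonedaEquiv.symm ((J S).uliftYonedaEquiv _) = _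
    rw [Equiv.symm_apply_apply]
    apply hm
    rw [hw.choose_spec.choose_spec, hg]
  obtain ⟨L, hL⟩ := sp_hom_mk l (by
    intro V' V v t
    refine yon_hom_ext_of_sieve _ _ (R V' ((yon S).map v ≫ t)) (hR _ _) ?_
    rintro W w ⟨α, g, hg⟩
    rw [hl V' _ W w α g hg, ← Category.assoc, ← Functor.map_comp]
    rw [hl V t W (w ≫ v) α g (by rw [hg, Functor.map_comp, Category.assoc])])
  refine ⟨L, fun α => ?_⟩
  rw [hL]
  have := hl (Z α) (b α) (Z α) (𝟙 _) α (𝟙 _) rfl
  simpa using this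

/-- The covering condition of `desc_of_family` for the members of an open cover of an atlas. -/
theorem cover_of_atlas {T : Sp S} {U : Over S} (c : (yon S).obj U ⟶ T) [Epi c]
    (𝒰 : Scheme.OpenCover.{u} U.left) (V : Over S) (t : (yon S).obj V ⟶ T) :
    ∃ R : Sieve V, R ∈ J S V ∧ ∀ ⦃W : Over S⦄ (w : W ⟶ V), R w →
      ∃ (i : 𝒰.I₀) (g : W ⟶ overOf U (𝒰.f i)),
        (yon S).map g ≫ ((yon S).map (overHom U (𝒰.f i)) ≫ c) = (yon S).map w ≫ t := by
  obtain ⟨R₀, hR₀, hlift⟩ := exists_local_lift c t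
  let R : Sieve V :=
    { arrows := fun W w => ∃ (i : 𝒰.I₀) (g : W ⟶ overOf U (𝒰.f i)),
        (yon S).map g ≫ ((yon S).map (overHom U (𝒰.f i)) ≫ c) = (yon S).map w ≫ t
      downward_closed := by
        rintro W W' w ⟨α, g, hg⟩ w'
        exact ⟨α, w' ≫ g, by
          rw [Functor.map_comp, Category.assoc, hg, Functor.map_comp, Category.assoc]⟩ }
  refine ⟨R, (J S).transitive hR₀ R fun W w hw => ?_, fun W w hw => hw⟩
  obtain ⟨l, hl⟩ := hlift w hw
  obtain ⟨g, rfl⟩ := (yon S).map_surjective l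
  let 𝒱 := openCoverToFppf (𝒰.pullback₁ g.left)
  refine (J S).superset_covering ?_ (GrothendieckTopology.overEquiv_symm_mem_over _ _ _
    (Precoverage.generate_mem_toGrothendieck 𝒱.mem₀) :
      (Sieve.overEquiv W).symm (Sieve.generate (Presieve.ofArrows _ 𝒱.f)) ∈ J S W)
  intro W' w' hw'
  have aux : ∀ (i : 𝒰.I₀) (v : W'.left ⟶ pullback g.left (𝒰.f i)),
      v ≫ pullback.fst g.left (𝒰.f i) = w'.left → (R.pullback w).arrows w' := by
    intro i v hv'
    have hOver : (v ≫ pullback.snd g.left (𝒰.f i)) ≫ (overOf U (𝒰.f i)).hom = W'.hom := by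
      change (v ≫ pullback.snd g.left (𝒰.f i)) ≫ (𝒰.f i ≫ U.hom) = W'.hom
      rw [Category.assoc, ← pullback.condition_assoc, ← Category.assoc, hv', Over.w g, Over.w w']
    refine ⟨i, Over.homMk (v ≫ pullback.snd g.left (𝒰.f i)) hOver, ?_⟩
    have e : (Over.homMk (v ≫ pullback.snd g.left (𝒰.f i)) hOver :
          W' ⟶ overOf U (𝒰.f i)) ≫ overHom U (𝒰.f i) = w' ≫ g := by
      ext
      change (v ≫ pullback.snd g.left (𝒰.f i)) ≫ 𝒰.f i = w'.left ≫ g.left
      rw [Category.assoc, ← pullback.condition, ← Category.assoc, hv']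
    rw [← Category.assoc, ← Functor.map_comp, e, Functor.map_comp, Category.assoc, hl,
      Functor.map_comp, Category.assoc]
  rw [Sieve.overEquiv_symm_iff] at hw'
  obtain ⟨V', v, _, ⟨i⟩, hv⟩ := hw'
  exact aux i v hv

/-- Descent of a morphism along an epimorphism from a representable sheaf; the cocycle condition
only needs to be checked on affine test schemes. -/
theorem desc_of_epi {T F : Sp S} {U : Over S} (c : (yon S).obj U ⟶ T) [Epi c]
    (m : (yon S).obj U ⟶ F)
    (hm : ∀ (W : Over S) (g₁ g₂ : W ⟶ U), IsAffine W.left →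
      (yon S).map g₁ ≫ c = (yon S).map g₂ ≫ c → (yon S).map g₁ ≫ m = (yon S).map g₂ ≫ m) :
    ∃ l : T ⟶ F, c ≫ l = m := by
  obtain ⟨L, hL⟩ := desc_of_family (ι := PUnit.{1}) (fun _ => U) (fun _ => c)
    (fun V t => by
      obtain ⟨R, hR, h⟩ := exists_local_lift c t
      refine ⟨R, hR, fun W w hw => ?_⟩
      obtain ⟨l, hl⟩ := h w hw
      obtain ⟨g, rfl⟩ := (yon S).map_surjective l
      exact ⟨PUnit.unit, g, hl⟩)
    (fun _ => m)
    (fun W _ _ g₁ g₂ hg => by
      refine yon_hom_ext_of_affine _ _ fun Z z hZ => ?_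
      rw [← Category.assoc, ← Category.assoc, ← Functor.map_comp, ← Functor.map_comp]
      refine hm Z _ _ hZ ?_
      rw [Functor.map_comp, Functor.map_comp, Category.assoc, Category.assoc, hg])
  exact ⟨L, hL PUnit.unit⟩

end Groth.Agent.H53
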