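import Groth.Agent.H53.Charts

/-! The chart square of a morphism of sheaves with respect to charts of source and target. -/

set_option autoImplicit false
universe u

open CategoryTheory CategoryTheory.Limits AlgebraicGeometry Opposite
open AlgSp

namespace Groth.Agent.H53

variable {S : Scheme.{u}}

/-- Given `f : X ⟶ Y`, an etale chart `a` of `X` and an etale chart `b` of `Y`, there is a scheme `Q` with an etale map
`q : Q ⟶ U` and a map `h : Q ⟶ V` with `(h_q ≫ a) ≫ f = h_h ≫ b`; `q` is surjective when `b` is, and `h` is surjective when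
`f` is surjective on points and `a` is surjective. -/
theorem exists_chart_square {X Y : Sp S} (f : X ⟶ Y) {U V : Over S} (a : (yon S).obj U ⟶ X)
    (b : (yon S).obj V ⟶ Y) (ha : RepWith @Etale a) (hb : RepWith @Etale b) :
    ∃ (Q : Over S) (q : Q ⟶ U) (h : Q ⟶ V), Etale q.left ∧
      RepWith @Etale ((yon S).map q ≫ a) ∧
      ((yon S).map q ≫ a) ≫ f = (yon S).map h ≫ b ∧
      (RepWith @Surjective b → Surjective q.left) ∧
      (RepWith @Surjective a → IsSurjectiveMor f → Surjective h.left) := by
  have sq := hb.rep.isPullback' (a ≫ f)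
  have hq : Etale (hb.rep.snd (a ≫ f)).left := hb.property_snd (a ≫ f)
  refine ⟨hb.rep.pullback (a ≫ f), hb.rep.snd (a ≫ f), hb.rep.fst' (a ≫ f), hq,
    repWith_etale_map_comp _ hq a ha, ?_, ?_, ?_⟩
  · rw [Category.assoc]; exact sq.w.symm
  · intro hbs
    exact hbs.property_snd (a ≫ f)
  · intro has hfs
    refine ⟨fun v => ?_⟩
    obtain ⟨x, hx⟩ := hfs (Points.ofPt b v)
    obtain ⟨u, rfl⟩ := exists_ofPt_eq_of_repWith_surjective a has x
    rw [Points.map_ofPt] at hx
    obtain ⟨w, hw1, -⟩ := exists_pt_of_isPullback_yon sq v u hx.symm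
    exact ⟨w, hw1⟩

end Groth.Agent.H53
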