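import Groth.Agent.H53.LargestOpen

/-! Topology of thickenings of algebraic spaces. -/

set_option autoImplicit false
universe u

open CategoryTheory CategoryTheory.Limits AlgebraicGeometry Opposite
open AlgSp

namespace Groth.Agent.H53

variable {S : Scheme.{u}}

theorem thick_le_mono :
    (thick : MorphismProperty Scheme.{u}) ≤ MorphismProperty.monomorphisms Scheme.{u} := by
  intro X Y f hf
  have : IsClosedImmersion f := hf.1
  exact (inferInstance : Mono f)

theorem mono_of_isThickMor {F G : Sp S} (i : F ⟶ G) (hi : IsThickMor i) : Mono i :=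
  Groth.Agent.H49.mono_of_repWith_mono thick_le_mono i hi

theorem injective_points_of_isThickMor {F G : Sp S} (i : F ⟶ G) (hi : IsThickMor i) :
    Function.Injective (Points.map i) :=
  haveI := mono_of_isThickMor i hi
  Groth.Agent.H51.injective_map_of_mono i

theorem surjective_points_of_isThickMor {F G : Sp S} (i : F ⟶ G) (hi : IsThickMor i) :
    Function.Surjective (Points.map i) :=
  Groth.Agent.H49.points_surjective_of_repWith_surjective i
    (repWith_mono (fun _ _ _ h => h.2) i hi)

/-- A thickening is an open map on points. -/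
theorem isOpenMap_points_of_isThickMor {F G : Sp S} (i : F ⟶ G) (hi : IsThickMor i) :
    IsOpenMap (Points.map i) := by
  intro A hA
  rw [Points.isOpen_iff]
  intro T g
  have sq := hi.rep.isPullback g
  have hth : thick (hi.rep.snd g).left := hi.property_snd g
  have hcl : IsClosedImmersion (hi.rep.snd g).left := hth.1
  have hsurj : Surjective (hi.rep.snd g).left := hth.2
  have e : Points.ofPt g ⁻¹' (Points.map i '' A) =
      (hi.rep.snd g).left '' (Points.ofPt (hi.rep.fst g) ⁻¹' A) := by
    ext t
    constructor
    · rintro ⟨a, ha, hat⟩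
      obtain ⟨v, rfl⟩ := hsurj.surj t
      refine ⟨v, ?_, rfl⟩
      have h1 : Points.map i (Points.ofPt (hi.rep.fst g) v) = Points.map i a := by
        rw [Points.map_ofPt, sq.w, ofPt_yon_map_comp, hat]
      rw [Set.mem_preimage, injective_points_of_isThickMor i hi h1]
      exact ha
    · rintro ⟨v, hv, rfl⟩
      refine ⟨Points.ofPt (hi.rep.fst g) v, hv, ?_⟩
      rw [Points.map_ofPt, sq.w, ofPt_yon_map_comp]
  rw [e]
  have hemb := (hi.rep.snd g).left.isClosedEmbedding.isEmbedding
  exact (hemb.toHomeomorphOfSurjective hsurj.surj).isOpenMap _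
    (hA.preimage (Points.continuous_ofPt _))

end Groth.Agent.H53
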