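import Groth.Agent.H53.ElemDist
import Groth.Agent.H53.ThickBC
import Groth.Agent.H53.ThickTop
import Groth.Agent.H49.Thickening

/-! First order infinitesimal neighbourhoods are universal first order thickenings. -/

set_option autoImplicit false
universe u

open CategoryTheory CategoryTheory.Limits AlgebraicGeometry Opposite
open AlgSp

namespace Groth.Agent.H53

variable {S : Scheme.{u}}

set_option backward.isDefEq.respectTransparency false in
/-- If the ideal of `W₁` in an affine scheme `Q` is the square of the ideal of `W ⊂ W₁`, then `W ⊂ W₁` has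
square-zero ideal. -/
theorem sqZero_of_ker_eq_sq {W W₁ Q : Scheme.{u}} [IsAffine Q] (ι : W ⟶ W₁) (ζ₁ : W₁ ⟶ Q)
    [IsClosedImmersion ζ₁] [IsClosedImmersion (ι ≫ ζ₁)] (h : ζ₁.ker = (ι ≫ ζ₁).ker ^ 2) :
    ι.ker * ι.ker = ⊥ := by
  have hι : IsClosedImmersion ι := IsClosedImmersion.of_comp_isClosedImmersion ι ζ₁
  obtain ⟨hW₁, hsurj⟩ := IsClosedImmersion.isAffine_surjective_of_isAffine ζ₁
  apply Scheme.IdealSheafData.ext_of_isAffine
  have h1 : ι.ker.ideal ⟨⊤, isAffineOpen_top _⟩ = RingHom.ker ι.appTop.hom :=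
    ι.ker_apply ⟨⊤, isAffineOpen_top _⟩
  have h3 : ζ₁.ker.ideal ⟨⊤, isAffineOpen_top _⟩ = RingHom.ker ζ₁.appTop.hom :=
    ζ₁.ker_apply ⟨⊤, isAffineOpen_top _⟩
  have h4 : (ι ≫ ζ₁).ker.ideal ⟨⊤, isAffineOpen_top _⟩ = RingHom.ker (ι ≫ ζ₁).appTop.hom :=
    (ι ≫ ζ₁).ker_apply ⟨⊤, isAffineOpen_top _⟩
  have h2 := congr($(h).ideal ⟨⊤, isAffineOpen_top Q⟩)
  rw [Scheme.IdealSheafData.ideal_pow, Pi.pow_apply, h3, h4] at h2
  rw [Scheme.IdealSheafData.ideal_mul, Pi.mul_apply, h1]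
  change _ = ⊥
  rw [eq_bot_iff, Ideal.mul_le]
  intro x hx y hy
  obtain ⟨x', rfl⟩ := hsurj x
  obtain ⟨y', rfl⟩ := hsurj y
  have hx' : x' ∈ RingHom.ker (ι ≫ ζ₁).appTop.hom := by
    rw [RingHom.mem_ker, Scheme.Hom.comp_appTop, CommRingCat.hom_comp, RingHom.comp_apply]
    exact hx
  have hy' : y' ∈ RingHom.ker (ι ≫ ζ₁).appTop.hom := by
    rw [RingHom.mem_ker, Scheme.Hom.comp_appTop, CommRingCat.hom_comp, RingHom.comp_apply]
    exact hy
  have : x' * y' ∈ RingHom.ker ζ₁.appTop.hom := by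
    rw [h2, pow_two]
    exact Ideal.mul_mem_mul hx' hy'
  rw [Ideal.mem_bot, ← map_mul]
  exact this

/-- If the ideal of `W₁` in `Q` is the square of the ideal of `W ⊂ W₁`, then `W ⟶ W₁` is surjective. -/
theorem surjective_of_ker_eq_sq {W W₁ Q : Scheme.{u}} (ι : W ⟶ W₁) (ζ₁ : W₁ ⟶ Q)
    [IsClosedImmersion ζ₁] [IsClosedImmersion (ι ≫ ζ₁)] (h : ζ₁.ker = (ι ≫ ζ₁).ker ^ 2) :
    Surjective ι := by
  refine ⟨fun w₁ => ?_⟩
  have h1 : ζ₁ w₁ ∈ (ζ₁.ker.support : Set Q) := ζ₁.range_subset_ker_support ⟨w₁, rfl⟩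
  rw [h, Scheme.IdealSheafData.support_pow _ 2 (by norm_num), Scheme.Hom.support_ker,
    (ι ≫ ζ₁).isClosedEmbedding.isClosed_range.closure_eq] at h1
  obtain ⟨w, hw⟩ := h1
  refine ⟨w, ζ₁.isClosedEmbedding.injective ?_⟩
  rw [← hw]
  simp

/-- The chart data of a first order infinitesimal neighbourhood over an affine etale chart. -/
theorem exists_infNbhd_chart {Z U Z₁ : Sp S} {c : Z ⟶ U} {j : Z ⟶ Z₁} {k : Z₁ ⟶ U}
    (hN : IsInfNbhd 1 c j k) {Q : Over S} (hQ : IsAffine Q.left) (β : (yon S).obj Q ⟶ U)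
    (hβ : RepWith @Etale β) :
    ∃ (W W₁ : Over S) (ι : W ⟶ W₁) (ζ₁ : W₁ ⟶ Q) (fst : (yon S).obj W ⟶ Z)
      (fst₁ : (yon S).obj W₁ ⟶ Z₁),
      IsPullback fst₁ ((yon S).map ζ₁) k β ∧ IsPullback fst ((yon S).map (ι ≫ ζ₁)) c β ∧
      IsPullback fst ((yon S).map ι) j fst₁ ∧
      IsClosedImmersion ζ₁.left ∧ IsClosedImmersion ι.left ∧ Surjective ι.left ∧ sqZero ι.left ∧
      IsAffine W₁.left ∧ ζ₁.left.ker = (ι.left ≫ ζ₁.left).ker ^ 2 := by
  obtain ⟨hjk, hc, hk, hker⟩ := hN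
  have sq₁ := hk.rep.isPullback β
  have sq₀ := hc.rep.isPullback β
  obtain ⟨ι, hι⟩ := (yon S).map_surjective (sq₁.lift (hc.rep.fst β ≫ j) ((yon S).map (hc.rep.snd β))
    (by rw [Category.assoc, hjk, sq₀.w]))
  have hι₁ : (yon S).map ι ≫ hk.rep.fst β = hc.rep.fst β ≫ j := by rw [hι, sq₁.lift_fst]
  have hι₂ : ι ≫ hk.rep.snd β = hc.rep.snd β :=
    (yon S).map_injective (by rw [Functor.map_comp, hι, sq₁.lift_snd])
  have hζ₁ : IsClosedImmersion (hk.rep.snd β).left := hk.property_snd β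
  have hζ : IsClosedImmersion (ι.left ≫ (hk.rep.snd β).left) := by
    rw [← Over.comp_left, hι₂]
    exact hc.property_snd β
  have hkk : (hk.rep.snd β).left.ker = (ι.left ≫ (hk.rep.snd β).left).ker ^ 2 := by
    have := hker β (hc.rep.fst β) (hc.rep.snd β) (hk.rep.fst β) (hk.rep.snd β) hQ hβ sq₀ sq₁
    rw [← Over.comp_left, hι₂]
    exact this
  have : IsAffine Q.left := hQ
  refine ⟨hc.rep.pullback β, hk.rep.pullback β, ι, hk.rep.snd β, hc.rep.fst β, hk.rep.fst β, sq₁, ?_,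
    ?_, hζ₁, IsClosedImmersion.of_comp_isClosedImmersion ι.left (hk.rep.snd β).left,
    surjective_of_ker_eq_sq ι.left (hk.rep.snd β).left hkk,
    sqZero_of_ker_eq_sq ι.left (hk.rep.snd β).left hkk,
    (IsClosedImmersion.isAffine_surjective_of_isAffine (hk.rep.snd β).left).1, hkk⟩
  · rw [hι₂]; exact sq₀
  · refine IsPullback.of_bot ?_ hι₁.symm sq₁
    rw [← Functor.map_comp, hι₂, hjk]
    exact sq₀

/-- Through every point of an algebraic space there is an affine etale chart. -/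
theorem exists_affine_chart_through {U : Sp S} (hU : IsAlgSpace U) (x : Points U) :
    ∃ (Q : Over S) (β : (yon S).obj Q ⟶ U) (q : ↥Q.left), IsAffine Q.left ∧ RepWith @Etale β ∧
      Points.ofPt β q = x := by
  obtain ⟨A, a, ha1, ha2⟩ := hU.atlas
  obtain ⟨a₀, rfl⟩ := exists_ofPt_eq_of_repWith_surjective a ha2 x
  obtain ⟨q, hq⟩ := A.left.affineCover.covers a₀
  refine ⟨overOf A (A.left.affineCover.f _), (yon S).map (overHom A (A.left.affineCover.f _)) ≫ a, q,
    Scheme.isAffine_affineCover A.left _,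
    repWith_etale_map_comp _ (by change Etale (A.left.affineCover.f _); infer_instance) a ha1, ?_⟩
  rw [ofPt_yon_map_comp]
  exact congrArg _ hq

/-- The first order infinitesimal neighbourhood is a thickening. -/
theorem isThickMor_of_isInfNbhd {Z U Z₁ : Sp S} (hU : IsAlgSpace U) {c : Z ⟶ U} {j : Z ⟶ Z₁}
    {k : Z₁ ⟶ U} (hN : IsInfNbhd 1 c j k) : IsThickMor j := by
  have hkm : Mono k := Groth.Agent.H49.mono_of_repWith_mono
    (fun _ _ g (_ : IsClosedImmersion g) => (inferInstance : Mono g)) k hN.2.2.1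
  have hjc : RepWith @IsClosedImmersion j :=
    Groth.Agent.H51.repWith_of_comp_mono j k (by rw [hN.1]; exact hN.2.1)
  have hs : Function.Surjective (Points.map j) := by
    intro z₁
    obtain ⟨Q, β, q, hQ, hβ, hq⟩ := exists_affine_chart_through hU (Points.map k z₁)
    obtain ⟨W, W₁, ι, ζ₁, fst, fst₁, sq₁, sq₀, sqj, -, -, hιs, -, -, -⟩ :=
      exists_infNbhd_chart hN hQ β hβ
    rw [Points.ofPt_eq_map_ofScheme] at hq
    obtain ⟨w₁', hw₁, -⟩ := exists_point_of_isPullback sq₁ z₁ (Points.ofScheme Q q) hq.symm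
    obtain ⟨w, hw⟩ := hιs.surj (Points.toScheme W₁ w₁')
    refine ⟨Points.ofPt fst w, ?_⟩
    rw [Points.map_ofPt, sqj.w, ofPt_yon_map_comp, hw, Points.ofPt_eq_map_ofScheme,
      Points.ofScheme_toScheme, hw₁]
  have hjs := repWith_surjective_of_points_surjective j hjc.rep hs
  exact ⟨hjc.rep, fun _ _ g fst snd sq => ⟨hjc.property g fst snd sq, hjs.property g fst snd sq⟩⟩

/-- The first order infinitesimal neighbourhood is a first order thickening. -/
theorem isFOThickMor_of_isInfNbhd {Z U Z₁ : Sp S} (hU : IsAlgSpace U) {c : Z ⟶ U} {j : Z ⟶ Z₁}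
    {k : Z₁ ⟶ U} (hN : IsInfNbhd 1 c j k) : IsFOThickMor j := by
  have hth := isThickMor_of_isInfNbhd hU hN
  refine ⟨hth, ?_⟩
  intro V₁ W b₁ fst snd hV₁ hb₁ sq
  have hcl : IsClosedImmersion snd.left := (hth.property b₁ fst snd sq).1
  obtain ⟨ι', P, cP, Q, β, l, hP, hQ, hβ, hcP, hsurj, hcomm⟩ :=
    exists_affine_etale_refinement hU V₁ (b₁ ≫ k)
  have key : ∀ i, ∃ (Wk : Over S) (ik : Wk ⟶ P i) (q : Wk ⟶ W), ik ≫ cP i = q ≫ snd ∧
      IsClosedImmersion ik.left ∧ sqZero ik.left := by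
    intro i
    obtain ⟨W₀, W₁, ι, ζ₁, fst₀, fst₁, sq₁, sq₀, sqj, hζ₁, hι, hιs, hιz, hW₁, -⟩ :=
      exists_infNbhd_chart hN (hQ i) (β i) (hβ i)
    obtain ⟨lam', hlam1, hlam2⟩ := sq₁.exists_lift ((yon S).map (cP i) ≫ b₁) ((yon S).map (l i))
      (by rw [Category.assoc, hcomm i])
    obtain ⟨lam, rfl⟩ := (yon S).map_surjective lam'
    have PB := IsPullback.of_hasPullback ι lam
    obtain ⟨q', hq1, hq2⟩ := sq.exists_lift ((yon S).map (pullback.fst ι lam) ≫ fst₀)
      ((yon S).map (pullback.snd ι lam ≫ cP i)) (by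
        rw [Category.assoc, sqj.w, ← Category.assoc, ← Functor.map_comp, PB.w, Functor.map_comp,
          Category.assoc, hlam1, Functor.map_comp, Category.assoc])
    obtain ⟨q, rfl⟩ := (yon S).map_surjective q'
    have : IsAffine W₁.left := hW₁
    have : IsAffine (P i).left := hP i
    refine ⟨pullback ι lam, pullback.snd ι lam, q,
      (yon S).map_injective (by rw [(yon S).map_comp q snd, hq2]), ?_, ?_⟩
    · exact MorphismProperty.of_isPullback (PB.map (Over.forget S)) hι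
    · exact sqZero_of_isPullback_of_isAffine ι.left hιz lam.left (pullback.fst ι lam).left
        (pullback.snd ι lam).left (PB.map (Over.forget S))
  choose Wk ik q h1 h2 h3 using key
  have : ∀ i, Flat (cP i).left := fun i => by
    have := hcP i
    infer_instance
  have : IsAffine V₁.left := hV₁
  have : ∀ i, IsAffine ((fun i => (P i).left) i) := hP
  have : ∀ i, IsClosedImmersion ((fun i => (ik i).left) i) := h2
  exact sqZero_of_flat_family snd.left (fun i => (P i).left) (fun i => (cP i).left) hsurj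
    (fun i => (Wk i).left) (fun i => (ik i).left) (fun i => (q i).left)
    (fun i => by rw [← Over.comp_left, ← Over.comp_left, h1 i]) h3

/-- A morphism from an algebraic space factors through a monomorphism of sheaves as soon as it does
so on every affine etale chart. -/
theorem exists_factor_of_charts {F G T' : Sp S} (hT' : IsAlgSpace T') (f : F ⟶ G) [Mono f]
    (b : T' ⟶ G)
    (H : ∀ (O : Over S) (β : (yon S).obj O ⟶ T'), IsAffine O.left → RepWith @Etale β →
      ∃ m : (yon S).obj O ⟶ F, m ≫ f = β ≫ b) : ∃ b₀ : T' ⟶ F, b₀ ≫ f = b := by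
  obtain ⟨A, a, ha1, ha2⟩ := hT'.atlas
  have : Epi a := epi_of_repWith_etale_surjective a ha1 ha2
  have hcov := cover_of_atlas a A.left.affineCover
  have Hi : ∀ i, ∃ m : (yon S).obj (overOf A (A.left.affineCover.f i)) ⟶ F,
      m ≫ f = ((yon S).map (overHom A (A.left.affineCover.f i)) ≫ a) ≫ b := fun i =>
    H _ _ (Scheme.isAffine_affineCover A.left i)
      (repWith_etale_map_comp _ (by change Etale (A.left.affineCover.f i); infer_instance) a ha1)
  choose m hm using Hi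
  obtain ⟨L, hL⟩ := desc_of_family (fun i => overOf A (A.left.affineCover.f i))
    (fun i => (yon S).map (overHom A (A.left.affineCover.f i)) ≫ a) hcov m (by
      intro W i i' g₁ g₂ hg
      rw [← cancel_mono f, Category.assoc, Category.assoc, hm, hm, ← Category.assoc, hg,
        Category.assoc])
  refine ⟨L, ?_⟩
  refine hom_ext_of_family _ _ hcov _ _ fun i => ?_
  rw [← Category.assoc, hL, hm]

/-- A morphism from a thickening `T'` of `T` whose restriction to `T` factors through an open subspace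
factors through that open subspace. -/
theorem exists_factor_openImmersion {T T' U X : Sp S} (hT' : IsAlgSpace T') (t : T ⟶ T')
    (ht : IsThickMor t) (u : U ⟶ X) (hu : RepWith @IsOpenImmersion u) (b : T' ⟶ X) (a₀ : T ⟶ U)
    (h : t ≫ b = a₀ ≫ u) : ∃ b₀ : T' ⟶ U, b₀ ≫ u = b := by
  have : Mono u := Groth.Agent.H52.mono_of_repWith_isOpenImmersion u hu
  refine exists_factor_of_charts hT' u b fun O β hO hβ => ?_
  have sq := hu.rep.isPullback (β ≫ b)
  have hopen : IsOpenImmersion (hu.rep.snd (β ≫ b)).left := hu.property_snd _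
  have hsurj : Function.Surjective (hu.rep.snd (β ≫ b)).left := fun o => by
    obtain ⟨x, hx⟩ := surjective_points_of_isThickMor t ht (Points.ofPt β o)
    apply mem_range_left_of_isPullback sq o
    refine ⟨Points.map a₀ x, ?_⟩
    rw [← Points.map_comp, ← h, Points.map_comp, hx, Points.map_ofPt]
  have hepi : Epi (hu.rep.snd (β ≫ b)).left.base := (TopCat.epi_iff_surjective _).2 hsurj
  have hiso : IsIso (hu.rep.snd (β ≫ b)).left := IsOpenImmersion.isIso _
  have hiso' : IsIso (hu.rep.snd (β ≫ b)) :=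
    haveI : IsIso ((Over.forget S).map (hu.rep.snd (β ≫ b))) := hiso
    isIso_of_reflects_iso _ (Over.forget S)
  exact ⟨(yon S).map (inv (hu.rep.snd (β ≫ b))) ≫ hu.rep.fst (β ≫ b), by
    rw [Category.assoc, sq.w, ← Category.assoc, ← Functor.map_comp, IsIso.inv_hom_id,
      CategoryTheory.Functor.map_id, Category.id_comp]⟩

/-- Kernel of the base change of a closed immersion between affine schemes, on global sections. -/
theorem ker_appTop_le_map_of_isPullback {Z Z' W Y' : Scheme.{u}} {i : Z ⟶ Z'} {g : Y' ⟶ Z'}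
    {i' : W ⟶ Y'} {g' : W ⟶ Z} [IsClosedImmersion i] [IsAffine Z'] [IsAffine Y']
    (sq : IsPullback i' g' g i) (s : Γ(Y', ⊤)) (hs : i'.appTop.hom s = 0) :
    s ∈ (RingHom.ker i.appTop.hom).map g.appTop.hom := by
  have := Groth.Agent.H49.ker_app_le_map_of_isPullback sq ⊤ (isAffineOpen_top Z') ⊤
    (isAffineOpen_top Y') le_top s hs
  have e : g.appLE ⊤ ⊤ le_top = g.appTop := by simp [Scheme.Hom.appLE, Scheme.Hom.appTop]
  rw [e] at this
  exact this

set_option backward.isDefEq.respectTransparency false in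
/-- Scheme-level core of the universal property: over an affine chart, the pullback of the first order
neighbourhood to a first order thickening mapping into the closed subscheme has zero ideal. -/
theorem eq_zero_of_infNbhd_chart {P Q W₀ W₁ KP TP : Scheme.{u}} [IsAffine P] [IsAffine Q]
    (ι : W₀ ⟶ W₁) (ζ₁ : W₁ ⟶ Q) [IsClosedImmersion ζ₁] [IsClosedImmersion (ι ≫ ζ₁)]
    (hker : ζ₁.ker = (ι ≫ ζ₁).ker ^ 2) (l : P ⟶ Q) (κP : KP ⟶ P) (s : KP ⟶ W₁)
    (sq : IsPullback κP s l ζ₁) (τP : TP ⟶ P) [IsClosedImmersion τP] (hτ : τP.ker * τP.ker = ⊥)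
    (φ₀ : TP ⟶ W₀) (hφ : φ₀ ≫ (ι ≫ ζ₁) = τP ≫ l) (y : Γ(P, ⊤)) (hy : κP.appTop.hom y = 0) :
    y = 0 := by
  have h1 := ker_appTop_le_map_of_isPullback sq y hy
  have h3 : ζ₁.ker.ideal ⟨⊤, isAffineOpen_top _⟩ = RingHom.ker ζ₁.appTop.hom :=
    ζ₁.ker_apply ⟨⊤, isAffineOpen_top _⟩
  have h4 : (ι ≫ ζ₁).ker.ideal ⟨⊤, isAffineOpen_top _⟩ = RingHom.ker (ι ≫ ζ₁).appTop.hom :=
    (ι ≫ ζ₁).ker_apply ⟨⊤, isAffineOpen_top _⟩
  have h2 := congr($(hker).ideal ⟨⊤, isAffineOpen_top Q⟩)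
  rw [Scheme.IdealSheafData.ideal_pow, Pi.pow_apply, h3, h4] at h2
  rw [h2, Ideal.map_pow] at h1
  have hN : RingHom.ker τP.appTop.hom ^ 2 = ⊥ := Groth.Agent.H8.ker_appTop_sq_eq_bot τP hτ
  have hle : (RingHom.ker (ι ≫ ζ₁).appTop.hom).map l.appTop.hom ≤ RingHom.ker τP.appTop.hom := by
    rw [Ideal.map_le_iff_le_comap]
    intro z hz
    rw [Ideal.mem_comap, RingHom.mem_ker]
    have e1 : τP.appTop.hom (l.appTop.hom z) = (τP ≫ l).appTop.hom z := by
      rw [Scheme.Hom.comp_appTop, CommRingCat.hom_comp, RingHom.comp_apply]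
    rw [e1, ← hφ, Scheme.Hom.comp_appTop, CommRingCat.hom_comp, RingHom.comp_apply,
      RingHom.mem_ker.mp hz, map_zero]
  have h5 : y ∈ RingHom.ker τP.appTop.hom ^ 2 := Ideal.pow_right_mono hle 2 h1
  rw [hN] at h5
  exact h5

/-- A morphism from a first order thickening `T'` of `T` to `U` whose restriction to `T` factors through
the closed subspace `Z` factors through the first order infinitesimal neighbourhood of `Z`. -/
theorem exists_factor_infNbhd {Z U Z₁ T T' : Sp S} (hU : IsAlgSpace U) (hT' : IsAlgSpace T')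
    {c : Z ⟶ U} {j : Z ⟶ Z₁} {k : Z₁ ⟶ U} (hN : IsInfNbhd 1 c j k) (t : T ⟶ T')
    (ht : IsFOThickMor t) (a : T ⟶ Z) (b₀ : T' ⟶ U) (h : t ≫ b₀ = a ≫ c) :
    ∃ a' : T' ⟶ Z₁, a' ≫ k = b₀ := by
  have hk := hN.2.2.1
  have hkm : Mono k := Groth.Agent.H49.mono_of_repWith_mono
    (fun _ _ g (_ : IsClosedImmersion g) => (inferInstance : Mono g)) k hk
  refine exists_factor_of_charts hT' k b₀ fun O β hO hβ => ?_
  have sqK := hk.rep.isPullback (β ≫ b₀)
  have hκ : IsClosedImmersion (hk.rep.snd (β ≫ b₀)).left := hk.property_snd _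
  suffices hiso : IsIso (hk.rep.snd (β ≫ b₀)).left by
    have hiso' : IsIso (hk.rep.snd (β ≫ b₀)) :=
      haveI : IsIso ((Over.forget S).map (hk.rep.snd (β ≫ b₀))) := hiso
      isIso_of_reflects_iso _ (Over.forget S)
    exact ⟨(yon S).map (inv (hk.rep.snd (β ≫ b₀))) ≫ hk.rep.fst (β ≫ b₀), by
      rw [Category.assoc, sqK.w, ← Category.assoc, ← Functor.map_comp, IsIso.inv_hom_id,
        CategoryTheory.Functor.map_id, Category.id_comp]⟩
  rw [IsClosedImmersion.isIso_iff_ker_eq_bot]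
  have : IsAffine O.left := hO
  apply Scheme.IdealSheafData.ext_of_isAffine
  have h1 : (hk.rep.snd (β ≫ b₀)).left.ker.ideal ⟨⊤, isAffineOpen_top _⟩ =
      RingHom.ker (hk.rep.snd (β ≫ b₀)).left.appTop.hom :=
    (hk.rep.snd (β ≫ b₀)).left.ker_apply ⟨⊤, isAffineOpen_top _⟩
  rw [h1]
  change _ = ⊥
  rw [eq_bot_iff]
  intro x hx
  rw [Ideal.mem_bot]
  obtain ⟨ι', P, cP, Q, βQ, l, hP, hQ, hβQ, hcP, hsurj, hcomm⟩ :=
    exists_affine_etale_refinement hU O (β ≫ b₀)
  have : ∀ i, Flat ((fun i => (cP i).left) i) := fun i => by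
    have := hcP i
    change Flat (cP i).left
    infer_instance
  refine eq_zero_of_flat_family (fun i => (P i).left) (fun i => (cP i).left) hsurj x fun i => ?_
  obtain ⟨W₀, W₁, ι, ζ₁, fst₀, fst₁, sq₁, sq₀, sqj, hζ₁, hι, hιs, hιz, hW₁, hker⟩ :=
    exists_infNbhd_chart hN (hQ i) (βQ i) (hβQ i)
  have sqKP := hk.rep.isPullback ((yon S).map (l i) ≫ βQ i)
  -- the map `KP ⟶ K` over `cP i`
  obtain ⟨r', hr1, hr2⟩ := sqK.exists_lift (hk.rep.fst ((yon S).map (l i) ≫ βQ i))
    ((yon S).map (hk.rep.snd ((yon S).map (l i) ≫ βQ i) ≫ cP i))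
    (by rw [sqKP.w, ← hcomm i, Functor.map_comp, Category.assoc])
  obtain ⟨r, rfl⟩ := (yon S).map_surjective r'
  have hr : r ≫ hk.rep.snd (β ≫ b₀) = hk.rep.snd ((yon S).map (l i) ≫ βQ i) ≫ cP i :=
    (yon S).map_injective (by rw [Functor.map_comp, hr2])
  -- the map `KP ⟶ W₁` over `l i`
  obtain ⟨s', hs1, hs2⟩ := sq₁.exists_lift (hk.rep.fst ((yon S).map (l i) ≫ βQ i))
    ((yon S).map (hk.rep.snd ((yon S).map (l i) ≫ βQ i) ≫ l i))
    (by rw [sqKP.w, Functor.map_comp, Category.assoc])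
  obtain ⟨s, rfl⟩ := (yon S).map_surjective s'
  rw [Functor.map_comp] at hs2
  rw [← hs1] at sqKP
  have left := (IsPullback.of_right sqKP hs2 sq₁).flip
  have left' : IsPullback (hk.rep.snd ((yon S).map (l i) ≫ βQ i)) s (l i) ζ₁ :=
    IsPullback.of_map (yon S) ((yon S).map_injective (by
      rw [Functor.map_comp, Functor.map_comp]; exact left.w)) left
  have left'' := left'.map (Over.forget S)
  -- the pullback of the thickening
  have sqT := ht.1.rep.isPullback ((yon S).map (cP i) ≫ β)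
  have hτc : IsClosedImmersion (ht.1.rep.snd ((yon S).map (cP i) ≫ β)).left :=
    (ht.1.property_snd _).1
  have hτz : sqZero (ht.1.rep.snd ((yon S).map (cP i) ≫ β)).left :=
    sqZero_of_isPullback_of_isFOThickMor ht hT' (hP i) _ _ _ sqT
  obtain ⟨φ', hφ1, hφ2⟩ := sq₀.exists_lift (ht.1.rep.fst ((yon S).map (cP i) ≫ β) ≫ a)
    ((yon S).map (ht.1.rep.snd ((yon S).map (cP i) ≫ β) ≫ l i))
    (by rw [Category.assoc, ← h, ← Category.assoc, sqT.w, Functor.map_comp, Category.assoc,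
      Category.assoc, Category.assoc, ← hcomm i])
  obtain ⟨φ₀, rfl⟩ := (yon S).map_surjective φ'
  have hφ : φ₀ ≫ (ι ≫ ζ₁) = ht.1.rep.snd ((yon S).map (cP i) ≫ β) ≫ l i :=
    (yon S).map_injective (by rw [Functor.map_comp, hφ2])
  have hφ' : φ₀.left ≫ (ι.left ≫ ζ₁.left) =
      (ht.1.rep.snd ((yon S).map (cP i) ≫ β)).left ≫ (l i).left := by
    rw [← Over.comp_left, ← Over.comp_left, ← Over.comp_left, hφ]
  have : IsAffine (P i).left := hP i
  have : IsAffine (Q i).left := hQ i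
  have : IsClosedImmersion (ι.left ≫ ζ₁.left) := inferInstance
  refine eq_zero_of_infNbhd_chart ι.left ζ₁.left hker (l i).left _ s.left left''
    (ht.1.rep.snd ((yon S).map (cP i) ≫ β)).left hτz φ₀.left hφ' _ ?_
  have e1 : (hk.rep.snd ((yon S).map (l i) ≫ βQ i)).left.appTop.hom ((cP i).left.appTop.hom x) =
      r.left.appTop.hom ((hk.rep.snd (β ≫ b₀)).left.appTop.hom x) := by
    rw [← RingHom.comp_apply, ← RingHom.comp_apply, ← CommRingCat.hom_comp, ← CommRingCat.hom_comp,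
      ← Scheme.Hom.comp_appTop, ← Scheme.Hom.comp_appTop, ← Over.comp_left, ← Over.comp_left, hr]
  refine e1.trans ?_
  rw [RingHom.mem_ker.mp hx, map_zero]

/-- The first order infinitesimal neighbourhood of a closed subspace of an open subspace is a universal
first order thickening. -/
theorem isUnivFOThick_of_isInfNbhd {Z U X Z₁ : Sp S} (hU : IsAlgSpace U) (c : Z ⟶ U) (u : U ⟶ X)
    (hu : RepWith @IsOpenImmersion u) (j : Z ⟶ Z₁) (k : Z₁ ⟶ U) (hN : IsInfNbhd 1 c j k) :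
    IsUnivFOThick (c ≫ u) j (k ≫ u) := by
  have hum : Mono u := Groth.Agent.H52.mono_of_repWith_isOpenImmersion u hu
  have hkm : Mono k := Groth.Agent.H49.mono_of_repWith_mono
    (fun _ _ g (_ : IsClosedImmersion g) => (inferInstance : Mono g)) k hN.2.2.1
  refine ⟨isFOThickMor_of_isInfNbhd hU hN, by rw [← Category.assoc, hN.1], ?_⟩
  intro T T' hT hT' t a b ht hcomm
  obtain ⟨b₀, hb₀⟩ := exists_factor_openImmersion hT' t ht.1 u hu b (a ≫ c)
    (by rw [hcomm, Category.assoc])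
  have h' : t ≫ b₀ = a ≫ c := by
    rw [← cancel_mono u, Category.assoc, hb₀, hcomm, Category.assoc]
  obtain ⟨a', ha'⟩ := exists_factor_infNbhd hU hT' hN t ht a b₀ h'
  refine ⟨a', ⟨?_, by rw [← Category.assoc, ha', hb₀]⟩, fun a'' h'' => ?_⟩
  · rw [← cancel_mono k, Category.assoc, ha', h', Category.assoc, hN.1]
  · rw [← cancel_mono k, ← cancel_mono u, Category.assoc, Category.assoc, h''.2,
      ← Category.assoc, ha', hb₀]

end Groth.Agent.H53
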