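import Groth.Agent.H53.EtaleFormal
import Groth.Agent.H53.EtaleCover
import Mathlib.AlgebraicGeometry.Morphisms.LocalFlatDescent

universe u
open CategoryTheory CategoryTheory.Limits AlgebraicGeometry Opposite AlgSp

namespace Groth.Agent.H53

variable {S : Scheme.{u}}

/-- From the sheaf-level lifting property of `h_h` to the scheme-level one of `h.left`. -/
theorem isFormallyEtaleHom_of_isFormallyEtaleMor_yon_map {U V : Over S} (h : U ⟶ V)
    (hh : IsFormallyEtaleMor ((yon S).map h)) : MoreMor.IsFormallyEtaleHom h.left := by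
  intro A _ I hI a' b' w
  have pf : a' ≫ U.hom = Spec.map (CommRingCat.ofHom (Ideal.Quotient.mk I)) ≫ b' ≫ V.hom := by
    rw [← Over.w h, ← Category.assoc, ← w, Category.assoc]
  let sq : InfSq ((yon S).map h) :=
    { A := A, I := I, sq_zero := hI, str := b' ≫ V.hom
      top := (yon S).map (Over.homMk a' pf)
      bot := (yon S).map (Over.homMk b' rfl)
      comm := by
        rw [← Functor.map_comp, ← Functor.map_comp]
        congr 1
        ext
        exact w.symm }
  obtain ⟨l, ⟨hl1, hl2⟩, hl3⟩ := hh sq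
  obtain ⟨l₀, rfl⟩ := (yon S).map_surjective l
  have e1 : sq.j ≫ l₀ = Over.homMk a' pf :=
    (yon S).map_injective (by rw [Functor.map_comp]; exact hl1)
  have e2 : l₀ ≫ h = Over.homMk b' rfl :=
    (yon S).map_injective (by rw [Functor.map_comp]; exact hl2)
  refine ⟨l₀.left, ⟨congrArg (fun k => k.left) e1, congrArg (fun k => k.left) e2⟩, ?_⟩
  rintro l₁ ⟨h1, h2⟩
  have pf₁ : l₁ ≫ U.hom = b' ≫ V.hom := by
    rw [← Over.w h, ← Category.assoc, h2]
  let L₁ : sq.ptT' ⟶ U := Over.homMk l₁ pf₁
  have := hl3 ((yon S).map L₁) ⟨by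
    rw [← Functor.map_comp]
    congr 1
    ext
    exact h1, by
    rw [← Functor.map_comp]
    congr 1
    ext
    exact h2⟩
  exact congrArg (fun k => k.left) ((yon S).map_injective this)

/-- Chart morphisms of a formally etale morphism of sheaves are formally etale. -/
theorem locP_isFormallyEtaleHom {F G : Sp S} (f : F ⟶ G) (hf : IsFormallyEtaleMor f) :
    LocP @MoreMor.IsFormallyEtaleHom f := by
  intro U V a b h ha hb hcomm
  apply isFormallyEtaleHom_of_isFormallyEtaleMor_yon_map
  have h1 : IsFormallyEtaleMor ((yon S).map h ≫ b) := by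
    rw [← hcomm]
    exact formallyEtale_comp (isFormallyEtaleMor_of_repWith_etale a ha) hf
  exact formallyEtale_of_comp (isFormallyUnramifiedMor_of_isFormallyEtaleMor
    (isFormallyEtaleMor_of_repWith_etale b hb)) h1

/-- A morphism of schemes which is locally of finite presentation and formally etale (in the
`Spec`-lifting sense) is etale. -/
theorem etale_of_lfp_of_isFormallyEtaleHom {X Y : Scheme.{u}} (g : X ⟶ Y)
    [LocallyOfFinitePresentation g] (hg : MoreMor.IsFormallyEtaleHom g) : Etale g := by
  refine ⟨fun {U} hU {V} hV e => ?_⟩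
  have h1 := Groth.Agent.H8.formallyEtale_appLE_of_isFormallyEtaleHom hg hV hU e
  have h2 : (g.appLE U V e).hom.FinitePresentation :=
    LocallyOfFinitePresentation.finitePresentation_appLE g hU hV e
  let := (g.appLE U V e).hom.toAlgebra
  exact { formallyEtale := h1, finitePresentation := h2 }

/-- Chart morphisms of a formally etale morphism which is locally of finite presentation on charts
are etale. -/
theorem locP_etale_of_lfp_of_formallyEtale {F G : Sp S} (f : F ⟶ G)
    (h1 : LocP @LocallyOfFinitePresentation f) (h2 : IsFormallyEtaleMor f) : LocP @Etale f := by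
  intro U V a b h ha hb hcomm
  have : LocallyOfFinitePresentation h.left := h1 a b h ha hb hcomm
  exact etale_of_lfp_of_isFormallyEtaleHom h.left (locP_isFormallyEtaleHom f h2 a b h ha hb hcomm)

/-- A morphism to an algebraic space whose chart morphisms are etale is etale in the sense
`IsEtaleMor`: all compositions with etale charts of the source are representable etale. -/
theorem isEtaleMor_of_locP_etale {X Y : Sp S} (hY : IsAlgSpace Y) (f : X ⟶ Y)
    (hf : LocP @Etale f) : IsEtaleMor f := by
  intro U' φ hφ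
  obtain ⟨V, b, hb1, hb2⟩ := hY.atlas
  have hd : Representable (φ ≫ f) := hY.representable_from_yon _
  -- the chart morphism `h₀ : U'' ⟶ V`
  have Sq0 := hb1.rep.isPullback (φ ≫ f)
  obtain ⟨h₀, hh₀⟩ := (yon S).map_surjective (hb1.rep.fst (φ ≫ f))
  rw [← hh₀] at Sq0
  have hsnd : Etale (hb1.rep.snd (φ ≫ f)).left := hb1.property_snd _
  have hh₀E : Etale h₀.left :=
    hf ((yon S).map (hb1.rep.snd (φ ≫ f)) ≫ φ) b h₀ (repWith_etale_map_comp _ hsnd φ hφ) hb1
      (by rw [Category.assoc]; exact Sq0.w.symm)
  have hh₀R : RepWith @Etale ((yon S).map h₀) := (repWith_yon_map_iff _ _).2 hh₀E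
  refine repWith_of_fpqc_local @Etale _ hd fun Z hZ t => ?_
  obtain ⟨m, W, c, l, hW, hc, hs, hcl⟩ := exists_finite_affine_etale_cover b hb1 hb2 Z hZ t
  refine ⟨m, W, c, hW, fun j => ?_, hs, fun j V' fst' s' sq' => ?_⟩
  · have := hc j
    infer_instance
  · rw [hcl j] at sq'
    obtain ⟨lam, hlam1, hlam2⟩ : ∃ lam : (yon S).obj V' ⟶ (yon S).obj (hb1.rep.pullback (φ ≫ f)),
        lam ≫ (yon S).map (hb1.rep.snd (φ ≫ f)) = fst' ∧
        lam ≫ (yon S).map h₀ = (yon S).map s' ≫ (yon S).map (l j) :=
      ⟨Sq0.flip.lift fst' ((yon S).map s' ≫ (yon S).map (l j)) (by rw [sq'.w, Category.assoc]),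
        Sq0.flip.lift_fst _ _ _, Sq0.flip.lift_snd _ _ _⟩
    obtain ⟨lam₀, rfl⟩ := (yon S).map_surjective lam
    have sqL : IsPullback ((yon S).map lam₀) ((yon S).map s') ((yon S).map h₀) ((yon S).map (l j)) :=
      IsPullback.of_right (by rw [hlam1]; exact sq') hlam2 Sq0.flip
    exact hh₀R.property _ _ _ sqL

/-- A morphism of algebraic spaces is etale if and only if it is locally of finite presentation
and formally etale. -/
theorem isEtaleMor_iff {X Y : Sp S} (hX : IsAlgSpace X) (hY : IsAlgSpace Y) (f : X ⟶ Y) :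
    IsEtaleMor f ↔ LocP @LocallyOfFinitePresentation f ∧ IsFormallyEtaleMor f := by
  constructor
  · intro hf
    refine ⟨?_, isFormallyEtaleMor_of_isEtaleMor hX f hf⟩
    intro U V a b h ha hb hcomm
    have : Etale h.left := locP_etale_of_isEtaleMor f hf a b h ha hb hcomm
    infer_instance
  · rintro ⟨h1, h2⟩
    exact isEtaleMor_of_locP_etale hY f (locP_etale_of_lfp_of_formallyEtale f h1 h2)

end Groth.Agent.H53
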