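import Groth.Agent.H53.LocPBase
import Groth.Agent.H53.Points
import Groth.Agent.H53.EtaleIff
import Groth.Agent.H50.EtSrcSmooth
import Groth.Agent.H49.AlgSpRep

/-! Helper facts for the "local on source-and-target" rows (S10565–S10570). -/

universe u

open CategoryTheory CategoryTheory.Limits AlgebraicGeometry
open AlgSp

namespace Groth.Agent.H53

variable {S : Scheme.{u}}

theorem locP_smooth_id (Y : Sp S) : LocP @Smooth (𝟙 Y) := fun U V a b h ha hb hc => by
  have : Etale h.left := etale_left_of_repWith_etale a b ha hb h (by rw [← hc, Category.comp_id])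
  infer_instance

theorem etale_le_smooth : (@Etale : MorphismProperty Scheme.{u}) ≤ @Smooth := by
  intro A B e he
  have : Etale e := he
  exact (inferInstance : Smooth e)

theorem etLocSrc_smooth : Groth.Agent.H50.EtLocSrc (@Smooth : MorphismProperty Scheme.{u}) := by
  intro A B C e h he hs hh
  have := he; have := hs
  exact Groth.Agent.H50.smooth_of_comp_etale_surjective e h hh

/-- Smooth morphisms of algebraic spaces are stable under arbitrary base change. -/
theorem locP_smooth_of_isPullback {X Y X' Y' : Sp S} (hX : IsAlgSpace X) (hY : IsAlgSpace Y)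
    (hY' : IsAlgSpace Y') {q : X' ⟶ X} {p : X' ⟶ Y'} {f : X ⟶ Y} {g : Y' ⟶ Y}
    (sq : IsPullback q p f g) (hf : LocP @Smooth f) : LocP @Smooth p :=
  locP_of_isPullback @Smooth etale_le_smooth etLocSrc_smooth hX hY hY' sq hf

end Groth.Agent.H53

namespace Groth.Agent.H53

variable {S : Scheme.{u}}

theorem isEtaleMor_id (X : Sp S) : IsEtaleMor (𝟙 X) := fun U φ hφ => by
  rw [Category.comp_id]; exact hφ

theorem locP_smooth_of_isEtaleMor {F G : Sp S} (f : F ⟶ G) (hf : IsEtaleMor f) :
    LocP @Smooth f :=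
  fun U V a b h ha hb hc => etale_le_smooth _ _ _ (locP_etale_of_isEtaleMor f hf a b h ha hb hc)

theorem etLocSrc_etale : Groth.Agent.H50.EtLocSrc (@Etale : MorphismProperty Scheme.{u}) := by
  intro A B C e h he hs hh
  have := he; have := hs
  exact Groth.Agent.H51.etale_of_comp_etale_surjective e h hh

/-- Etale morphisms of algebraic spaces are stable under arbitrary base change. -/
theorem isEtaleMor_of_isPullback {X Y X' Y' : Sp S} (hX : IsAlgSpace X) (hY : IsAlgSpace Y)
    (hY' : IsAlgSpace Y') {q : X' ⟶ X} {p : X' ⟶ Y'} {f : X ⟶ Y} {g : Y' ⟶ Y}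
    (sq : IsPullback q p f g) (hf : IsEtaleMor f) : IsEtaleMor p :=
  isEtaleMor_of_locP_etale hY' p
    (locP_of_isPullback @Etale le_rfl etLocSrc_etale hX hY hY' sq (locP_etale_of_isEtaleMor f hf))

/-- Cancellation: if `p` and `e ≫ p` are etale then so is `e`. -/
theorem isEtaleMor_of_comp {X W X' : Sp S} (hW : IsAlgSpace W) (e : X ⟶ W) (p : W ⟶ X')
    (hp : IsEtaleMor p) (hep : IsEtaleMor (e ≫ p)) : IsEtaleMor e := by
  refine isEtaleMor_of_locP_etale hW e ?_
  intro U V a b h ha hb hc
  refine etale_left_of_repWith_etale (a ≫ e ≫ p) (b ≫ p) (hep a ha) (hp b hb) h ?_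
  rw [← Category.assoc, ← hc, Category.assoc]

/-- The graph of a morphism over a base with etale structure map of the target is etale. -/
theorem isEtaleMor_graph {X Y Z : Sp S} (hX : IsAlgSpace X) (hY : IsAlgSpace Y) (hZ : IsAlgSpace Z)
    (f : X ⟶ Y) (g : Y ⟶ Z) (hg : IsEtaleMor g) {W : Sp S} {p : W ⟶ X} {q : W ⟶ Y}
    (sq : IsPullback p q (f ≫ g) g) (e : X ⟶ W) (he1 : e ≫ p = 𝟙 X) :
    IsEtaleMor e := by
  have hW : IsAlgSpace W := Groth.Agent.H49.isAlgSpace_of_isPullback sq hZ.diag hX hY
  have hp : IsEtaleMor p := isEtaleMor_of_isPullback hY hZ hX sq.flip hg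
  refine isEtaleMor_of_comp hW e p hp ?_
  rw [he1]
  exact isEtaleMor_id X

end Groth.Agent.H53
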