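import Groth.Agent.H53.SmoothNilLift
import Groth.Agent.H53.ChartSq
import Groth.Agent.H53.InfNbhd
import Groth.Agent.H53.LocalST

/-!
# Smooth morphisms of algebraic spaces lift along thickenings, etale locally
-/

universe u
open CategoryTheory CategoryTheory.Limits AlgebraicGeometry Opposite AlgSp

namespace Groth.Agent.H53

variable {S : Scheme.{u}}

set_option maxHeartbeats 800000 in
/-- Let `f : X ⟶ Y` be a smooth morphism of algebraic spaces, `i : T ⟶ T'` a thickening, and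
`a : T ⟶ X`, `b : T' ⟶ Y` with `a ≫ f = i ≫ b`. Then etale locally on `T'` there is a lift. -/
theorem smooth_thick_local_lift {X Y T T' : Sp S} (hX : IsAlgSpace X) (hY : IsAlgSpace Y)
    (hT' : IsAlgSpace T') (f : X ⟶ Y) (hf : LocP @Smooth f) (i : T ⟶ T') (hi : IsThickMor i)
    (a : T ⟶ X) (b : T' ⟶ Y) (w : a ≫ f = i ≫ b) (t' : Points T') :
    ∃ (V : Over S) (e : (yon S).obj V ⟶ T') (ℓ : (yon S).obj V ⟶ X),
      RepWith @Etale e ∧ t' ∈ Set.range (Points.ofPt e) ∧ ℓ ≫ f = e ≫ b ∧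
      ∀ (P : Sp S) (p₁ : P ⟶ T) (p₂ : P ⟶ (yon S).obj V),
        IsPullback p₁ p₂ i e → p₂ ≫ ℓ = p₁ ≫ a := by
  -- Step 0: an affine etale chart of `T'` through `t'`
  obtain ⟨V₀, c₀, v₀, hV₀, hc₀, hv₀⟩ := exists_affine_chart_through hT' t'
  -- Step 1: pull the thickening back to the chart
  obtain ⟨W₀, j₀, top₀, sq₁, hj₀⟩ : ∃ (W₀ : Over S) (j₀ : W₀ ⟶ V₀) (top₀ : (yon S).obj W₀ ⟶ T),
      IsPullback top₀ ((yon S).map j₀) i c₀ ∧ thick j₀.left :=
    ⟨_, _, _, hi.rep.isPullback c₀, hi.property_snd c₀⟩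
  have hj₀cl : IsClosedImmersion j₀.left := hj₀.1
  have hj₀s : Surjective j₀.left := hj₀.2
  -- Step 2: a smooth chart of `f`
  obtain ⟨A, α, hα1, hα2⟩ := hX.atlas
  obtain ⟨B, β, hβ1, hβ2⟩ := hY.atlas
  obtain ⟨Q, q, m, hq, hu, hcomm, hqs, -⟩ := exists_chart_square f α β hα1 hβ1
  have hqs' : Surjective q.left := hqs hβ2
  have hus : RepWith @Surjective ((yon S).map q ≫ α) :=
    (RepWith @Surjective).comp_mem _ _ ((repWith_yon_map_iff _ _).2 hqs') hα2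
  have hm : Smooth m.left := hf _ β m hu hβ1 hcomm
  generalize (yon S).map q ≫ α = u at hu hcomm hus
  -- Step 3: pull the chart back to `W₀`
  obtain ⟨P₀, p₀, fst₀, sq₃, hp₀, hp₀s⟩ : ∃ (P₀ : Over S) (p₀ : P₀ ⟶ W₀) (fst₀ : P₀ ⟶ Q),
      IsPullback ((yon S).map fst₀) ((yon S).map p₀) u (top₀ ≫ a) ∧ Etale p₀.left ∧
        Surjective p₀.left :=
    ⟨_, _, _, hu.rep.isPullback' (top₀ ≫ a), hu.property_snd (top₀ ≫ a),
      hus.property _ _ _ (hu.rep.isPullback (top₀ ≫ a))⟩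
  obtain ⟨w₀, hw₀⟩ := hj₀s.surj v₀
  obtain ⟨x₀, hx₀⟩ := hp₀s.surj w₀
  -- Step 4: lift the etale neighbourhood to `V₀`
  obtain ⟨U', P', o, π, ι, hU', hP', hπ, ⟨x', hx'⟩, sq₄⟩ :=
    exists_etale_lift_nhd_of_thick j₀.left hj₀s.surj p₀.left x₀
  have hιcl : IsClosedImmersion ι := MorphismProperty.of_isPullback sq₄.flip hj₀cl
  have hιs : Surjective ι := MorphismProperty.of_isPullback sq₄.flip hj₀s
  let P'S : Over S := overOf V₀ π
  let πS : P'S ⟶ V₀ := overHom V₀ π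
  let U'S : Over S := overOf P₀ o
  let oS : U'S ⟶ P₀ := overHom P₀ o
  have hιw : ι ≫ P'S.hom = U'S.hom := by
    change ι ≫ π ≫ V₀.hom = o ≫ P₀.hom
    rw [← Category.assoc, sq₄.w, Category.assoc, Category.assoc, Over.w j₀, Over.w p₀]
  let ιS : U'S ⟶ P'S := Over.homMk ι hιw
  have hιπ : ιS ≫ πS = (oS ≫ p₀) ≫ j₀ := by
    ext
    exact sq₄.w
  -- Step 5: the smooth scheme `Z` over `P'`
  have hmβ : RepWith @Smooth ((yon S).map m ≫ β) :=
    (RepWith @Smooth).comp_mem _ _ ((repWith_yon_map_iff _ _).2 hm)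
      ⟨hβ1.rep, fun _ _ g fst snd sq => etale_le_smooth _ _ _ (hβ1.property g fst snd sq)⟩
  obtain ⟨Z, ζS, fstZ, sqZ, hζ⟩ : ∃ (Z : Over S) (ζS : Z ⟶ P'S) (fstZ : Z ⟶ Q),
      IsPullback ((yon S).map fstZ) ((yon S).map ζS) ((yon S).map m ≫ β)
        ((yon S).map πS ≫ c₀ ≫ b) ∧ Smooth ζS.left :=
    ⟨_, _, _, hmβ.rep.isPullback' ((yon S).map πS ≫ c₀ ≫ b),
      hmβ.property_snd ((yon S).map πS ≫ c₀ ≫ b)⟩
  have hcompat : (yon S).map (oS ≫ fst₀) ≫ (yon S).map m ≫ β =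
      (yon S).map ιS ≫ (yon S).map πS ≫ c₀ ≫ b := by
    rw [Functor.map_comp, Category.assoc, ← hcomm, ← Category.assoc ((yon S).map fst₀), sq₃.w]
    simp only [Category.assoc]
    rw [w, ← Category.assoc top₀, sq₁.w]
    simp only [← Category.assoc, ← Functor.map_comp]
    rw [hιπ]
  obtain ⟨sS, hsS⟩ := (yon S).map_surjective (sqZ.lift _ _ hcompat)
  have hsS1 : (yon S).map sS ≫ (yon S).map fstZ = (yon S).map (oS ≫ fst₀) := by
    rw [hsS]; exact sqZ.lift_fst _ _ _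
  have hsS2 : sS ≫ ζS = ιS := by
    apply (yon S).map_injective
    rw [Functor.map_comp, hsS]
    exact sqZ.lift_snd _ _ _
  have hsS2' : sS.left ≫ ζS.left = ι := congrArg (fun φ => φ.left) hsS2
  -- Step 6: local lifting for smooth morphisms of schemes
  have hP'aff : IsAffine P'S.left := hP'
  obtain ⟨P₁, U₁, k, kU, ι₁, s', hP₁, hk, sq₆, ⟨y, hy⟩, hs'1, hs'2⟩ :=
    exists_local_section_of_smooth_of_thick ζS.left ι hιs.surj sS.left hsS2' x'
  let VS : Over S := overOf P'S k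
  let kS : VS ⟶ P'S := overHom P'S k
  have hs'w : s' ≫ Z.hom = VS.hom := by
    change s' ≫ Z.hom = k ≫ P'S.hom
    rw [← Over.w ζS, ← Category.assoc, hs'1]
  let s'S : VS ⟶ Z := Over.homMk s' hs'w
  have hs'S : s'S ≫ ζS = kS := by
    ext
    exact hs'1
  let U₁S : Over S := overOf U'S kU
  let kUS : U₁S ⟶ U'S := overHom U'S kU
  have hι₁w : ι₁ ≫ VS.hom = U₁S.hom := by
    change ι₁ ≫ k ≫ P'S.hom = kU ≫ U'S.hom
    rw [← Category.assoc, sq₆.w, Category.assoc, hιw]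
  let ι₁S : U₁S ⟶ VS := Over.homMk ι₁ hι₁w
  have hι₁s : ι₁S ≫ s'S = kUS ≫ sS := by
    ext
    exact hs'2
  -- the output
  have hk' : Etale kS.left := by change Etale k; infer_instance
  refine ⟨VS, (yon S).map kS ≫ (yon S).map πS ≫ c₀, (yon S).map (s'S ≫ fstZ) ≫ u,
    repWith_etale_map_comp kS hk' _ (repWith_etale_map_comp πS hπ c₀ hc₀), ⟨y, ?_⟩, ?_, ?_⟩
  · rw [ofPt_yon_map_comp, ofPt_yon_map_comp, ← hv₀]
    congr 1
    change π (k y) = v₀
    rw [hy, ← hw₀, ← hx₀, ← hx']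
    exact congr($(sq₄.w) x')
  · rw [Functor.map_comp]
    simp only [Category.assoc]
    rw [hcomm, sqZ.w, ← Category.assoc ((yon S).map s'S), ← Functor.map_comp, hs'S]
  · intro P p₁ p₂ hP
    -- the canonical pullback of `i` along `e`
    have sqA : IsPullback ι₁S (kUS ≫ oS ≫ p₀) (kS ≫ πS) j₀ := by
      refine IsPullback.of_map (Over.forget S) ?_ ?_
      · ext
        change ι₁ ≫ k ≫ π = (kU ≫ o ≫ p₀.left) ≫ j₀.left
        rw [← Category.assoc, sq₆.w, Category.assoc, sq₄.w]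
        simp only [Category.assoc]
      · exact sq₆.paste_vert sq₄
    have sqA' := (sqA.map (yon S)).flip
    have big := sqA'.paste_horiz sq₁
    have hw' : p₁ ≫ i = p₂ ≫ ((yon S).map (kS ≫ πS) ≫ c₀) := by
      rw [hP.w, Functor.map_comp, Category.assoc]
    obtain ⟨d, h1, h2⟩ : ∃ d : P ⟶ (yon S).obj U₁S,
        d ≫ ((yon S).map (kUS ≫ oS ≫ p₀) ≫ top₀) = p₁ ∧ d ≫ (yon S).map ι₁S = p₂ :=
      ⟨big.lift _ _ hw', big.lift_fst _ _ hw', big.lift_snd _ _ hw'⟩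
    rw [← h1, ← h2]
    simp only [Category.assoc]
    congr 1
    rw [← Category.assoc ((yon S).map ι₁S), ← Functor.map_comp, ← Category.assoc ι₁S, hι₁s,
      Category.assoc, Functor.map_comp, Functor.map_comp, Category.assoc, Category.assoc,
      ← Category.assoc ((yon S).map sS), hsS1]
    simp only [Functor.map_comp, Category.assoc]
    rw [sq₃.w]

end Groth.Agent.H53
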