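import Groth.Agent.H53.Thick

universe u
open CategoryTheory CategoryTheory.Limits AlgebraicGeometry Opposite AlgSp

namespace Groth.Agent.H53

variable {S : Scheme.{u}}

/-- An etale morphism of schemes is formally etale in the `Spec`-lifting sense. -/
theorem isFormallyEtaleHom_of_etale {X Y : Scheme.{u}} (g : X ⟶ Y) [Etale g] :
    MoreMor.IsFormallyEtaleHom g := by
  refine Groth.Agent.H8.isFormallyEtaleHom_of_formallyEtale_appLE fun U V hU hV hUV => ?_
  exact (g.etale_appLE hV hU hUV).formallyEtale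

/-- A representable etale morphism of sheaves is formally etale. -/
theorem isFormallyEtaleMor_of_repWith_etale {F G : Sp S} (a : F ⟶ G) (ha : RepWith @Etale a) :
    IsFormallyEtaleMor a := by
  intro sq
  have P := ha.rep.isPullback sq.bot
  have hsnd : Etale (ha.rep.snd sq.bot).left := ha.property_snd sq.bot
  obtain ⟨s, hs1, hs2⟩ : ∃ s, s ≫ ha.rep.fst sq.bot = sq.top ∧
      s ≫ (yon S).map (ha.rep.snd sq.bot) = (yon S).map sq.j :=
    ⟨P.lift sq.top ((yon S).map sq.j) sq.comm, P.lift_fst _ _ _, P.lift_snd _ _ _⟩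
  obtain ⟨s₀, rfl⟩ := (yon S).map_surjective s
  have hs2' : s₀ ≫ ha.rep.snd sq.bot = sq.j :=
    (yon S).map_injective (by rw [Functor.map_comp]; exact hs2)
  have hs2'' : s₀.left ≫ (ha.rep.snd sq.bot).left =
      Spec.map (CommRingCat.ofHom (Ideal.Quotient.mk sq.I)) :=
    congrArg (fun k => k.left) hs2'
  obtain ⟨l₀, ⟨hl1, hl2⟩, hl3⟩ := isFormallyEtaleHom_of_etale (ha.rep.snd sq.bot).left sq.A sq.I
    sq.sq_zero s₀.left (𝟙 _) (by rw [Category.comp_id, hs2''])
  have hL : l₀ ≫ (ha.rep.pullback sq.bot).hom = sq.ptT'.hom := by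
    rw [← Over.w (ha.rep.snd sq.bot), reassoc_of% hl2]
  let L : sq.ptT' ⟶ ha.rep.pullback sq.bot := Over.homMk l₀ hL
  have hL1 : sq.j ≫ L = s₀ := by
    ext
    exact hl1
  have hL2 : L ≫ ha.rep.snd sq.bot = 𝟙 _ := by
    ext
    exact hl2
  refine ⟨(yon S).map L ≫ ha.rep.fst sq.bot, ⟨?_, ?_⟩, ?_⟩
  · rw [← Category.assoc, ← Functor.map_comp, hL1, hs1]
  · rw [Category.assoc, P.w, ← Category.assoc, ← Functor.map_comp, hL2,
      CategoryTheory.Functor.map_id, Category.id_comp]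
  · rintro l' ⟨h1, h2⟩
    obtain ⟨k, hk1, hk2⟩ : ∃ k, k ≫ ha.rep.fst sq.bot = l' ∧
        k ≫ (yon S).map (ha.rep.snd sq.bot) = 𝟙 _ :=
      ⟨P.lift l' (𝟙 _) (by rw [h2, Category.id_comp]), P.lift_fst _ _ _, P.lift_snd _ _ _⟩
    obtain ⟨k₀, rfl⟩ := (yon S).map_surjective k
    have hk2' : k₀ ≫ ha.rep.snd sq.bot = 𝟙 _ :=
      (yon S).map_injective (by rw [Functor.map_comp, CategoryTheory.Functor.map_id]; exact hk2)
    have hk3 : sq.j ≫ k₀ = s₀ := by
      apply (yon S).map_injective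
      rw [Functor.map_comp]
      apply P.hom_ext
      · rw [Category.assoc, hk1, h1, hs1]
      · rw [Category.assoc, hk2, Category.comp_id, hs2]
    have hk4 : k₀.left = l₀ := hl3 k₀.left
      ⟨congrArg (fun k => k.left) hk3, congrArg (fun k => k.left) hk2'⟩
    have hk5 : k₀ = L := by
      ext
      exact hk4
    rw [← hk1, hk5]

end Groth.Agent.H53
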