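import Groth.Agent.H53.ThickTop
import Groth.Agent.H51.SpBasic
import Groth.Agent.H49.AlgSpRep

/-! Morphisms of thickenings: topological invariance. -/

set_option autoImplicit false
universe u

open CategoryTheory CategoryTheory.Limits AlgebraicGeometry Opposite
open AlgSp

namespace Groth.Agent.H53

variable {S : Scheme.{u}}

theorem isHomeomorph_points_of_isThickMor {F G : Sp S} (i : F ⟶ G) (hi : IsThickMor i) :
    IsHomeomorph (Points.map i) :=
  ⟨Points.continuous_map i, isOpenMap_points_of_isThickMor i hi,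
    injective_points_of_isThickMor i hi, surjective_points_of_isThickMor i hi⟩

theorem isThickMor_of_isPullback {F G F' G' : Sp S} {i : F ⟶ G} {g : G' ⟶ G} {fst : F' ⟶ F}
    {snd : F' ⟶ G'} (sq : IsPullback fst snd i g) (hi : IsThickMor i) : IsThickMor snd :=
  (MorphismProperty.relative_isStableUnderBaseChange _).of_isPullback sq hi

/-- Pullback squares may be post-composed with a monomorphism. -/
theorem isPullback_comp_mono {C : Type*} [Category C] {P X Y Z W : C} {fst : P ⟶ X} {snd : P ⟶ Y}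
    {f : X ⟶ Z} {g : Y ⟶ Z} (sq : IsPullback fst snd f g) (j : Z ⟶ W) [Mono j] :
    IsPullback fst snd (f ≫ j) (g ≫ j) := by
  refine ⟨⟨by rw [← Category.assoc, sq.w, Category.assoc]⟩, ⟨?_⟩⟩
  exact PullbackCone.isLimitOfCompMono f g j _ sq.isLimit

section Top

variable {A₀ A B₀ B : Type*} [TopologicalSpace A₀] [TopologicalSpace A] [TopologicalSpace B₀]
  [TopologicalSpace B] {hA : A₀ → A} {hB : B₀ → B} {p₀ : A₀ → B₀} {p : A → B}

theorem transfer_eq (hhA : IsHomeomorph hA) (hhB : IsHomeomorph hB)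
    (w : ∀ x, p (hA x) = hB (p₀ x)) :
    p = hhB.homeomorph ∘ p₀ ∘ (hhA.homeomorph).symm := by
  funext a
  obtain ⟨x, rfl⟩ := hhA.surjective a
  have : (hhA.homeomorph).symm (hA x) = x := (hhA.homeomorph).symm_apply_apply x
  simp only [Function.comp_apply, this]
  exact w x

theorem transfer_eq' (hhA : IsHomeomorph hA) (hhB : IsHomeomorph hB)
    (w : ∀ x, p (hA x) = hB (p₀ x)) :
    p₀ = (hhB.homeomorph).symm ∘ p ∘ hhA.homeomorph := by
  funext x
  simp only [Function.comp_apply]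
  change p₀ x = (hhB.homeomorph).symm (p (hA x))
  rw [w x]
  exact ((hhB.homeomorph).symm_apply_apply (p₀ x)).symm

theorem isClosedMap_iff_of_homeo (hhA : IsHomeomorph hA) (hhB : IsHomeomorph hB)
    (w : ∀ x, p (hA x) = hB (p₀ x)) : IsClosedMap p₀ ↔ IsClosedMap p := by
  constructor
  · intro h
    rw [transfer_eq hhA hhB w]
    exact (hhB.homeomorph).isClosedMap.comp (h.comp (hhA.homeomorph).symm.isClosedMap)
  · intro h
    rw [transfer_eq' hhA hhB w]
    exact (hhB.homeomorph).symm.isClosedMap.comp (h.comp (hhA.homeomorph).isClosedMap)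

theorem isOpenMap_iff_of_homeo (hhA : IsHomeomorph hA) (hhB : IsHomeomorph hB)
    (w : ∀ x, p (hA x) = hB (p₀ x)) : IsOpenMap p₀ ↔ IsOpenMap p := by
  constructor
  · intro h
    rw [transfer_eq hhA hhB w]
    exact (hhB.homeomorph).isOpenMap.comp (h.comp (hhA.homeomorph).symm.isOpenMap)
  · intro h
    rw [transfer_eq' hhA hhB w]
    exact (hhB.homeomorph).symm.isOpenMap.comp (h.comp (hhA.homeomorph).isOpenMap)

theorem injective_iff_of_homeo (hhA : IsHomeomorph hA) (hhB : IsHomeomorph hB)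
    (w : ∀ x, p (hA x) = hB (p₀ x)) : Function.Injective p₀ ↔ Function.Injective p := by
  constructor
  · intro h
    rw [transfer_eq hhA hhB w]
    exact (hhB.homeomorph).injective.comp (h.comp (hhA.homeomorph).symm.injective)
  · intro h
    rw [transfer_eq' hhA hhB w]
    exact (hhB.homeomorph).symm.injective.comp (h.comp (hhA.homeomorph).injective)

theorem surjective_iff_of_homeo (hhA : IsHomeomorph hA) (hhB : IsHomeomorph hB)
    (w : ∀ x, p (hA x) = hB (p₀ x)) : Function.Surjective p₀ ↔ Function.Surjective p := by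
  constructor
  · intro h
    rw [transfer_eq hhA hhB w]
    exact (hhB.homeomorph).surjective.comp (h.comp (hhA.homeomorph).symm.surjective)
  · intro h
    rw [transfer_eq' hhA hhB w]
    exact (hhB.homeomorph).symm.surjective.comp (h.comp (hhA.homeomorph).surjective)

end Top

/-- A topological property of maps on points: invariant under homeomorphisms of source and
target. -/
def TopInv (Q : MorphismProperty (Sp S)) : Prop :=
  ∀ ⦃A₀ A B₀ B : Sp S⦄ (a : A₀ ⟶ A) (b : B₀ ⟶ B) (p₀ : A₀ ⟶ B₀) (p : A ⟶ B),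
    IsHomeomorph (Points.map a) → IsHomeomorph (Points.map b) → a ≫ p = p₀ ≫ b → (Q p₀ ↔ Q p)

theorem topInv_closed : TopInv (S := S) IsClosedMor := by
  intro A₀ A B₀ B a b p₀ p ha hb w
  refine isClosedMap_iff_of_homeo ha hb (fun x => ?_)
  rw [← Points.map_comp, w, Points.map_comp]

theorem topInv_open : TopInv (S := S) IsOpenMor := by
  intro A₀ A B₀ B a b p₀ p ha hb w
  refine isOpenMap_iff_of_homeo ha hb (fun x => ?_)
  rw [← Points.map_comp, w, Points.map_comp]

theorem topInv_injective :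
    TopInv (S := S) (fun _ _ f => Function.Injective (Points.map f)) := by
  intro A₀ A B₀ B a b p₀ p ha hb w
  refine injective_iff_of_homeo ha hb (fun x => ?_)
  rw [← Points.map_comp, w, Points.map_comp]

theorem topInv_surjective : TopInv (S := S) IsSurjectiveMor := by
  intro A₀ A B₀ B a b p₀ p ha hb w
  refine surjective_iff_of_homeo ha hb (fun x => ?_)
  rw [← Points.map_comp, w, Points.map_comp]

theorem isHomeomorph_points_id (F : Sp S) : IsHomeomorph (Points.map (𝟙 F)) := by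
  have : Points.map (𝟙 F) = id := funext fun x => Points.map_id x
  rw [this]
  exact IsHomeomorph.id

variable {X X' Y Y' : Sp S} {i : X ⟶ X'} {j : Y ⟶ Y'} {f : X ⟶ Y} {f' : X' ⟶ Y'}

/-- Base change of the thickened morphism `f'` along `g : Z → Y'` compared with the base change
of `f` along `Z ×_{Y'} Y → Y`. -/
theorem exists_thick_square_up (hi : IsThickMor i) (hj : IsThickMor j) (w : i ≫ f' = f ≫ j)
    (hX : IsAlgSpace X) (hY : IsAlgSpace Y) (hY' : IsAlgSpace Y')
    {Z Z' : Sp S} (hZ : IsAlgSpace Z) (g : Z ⟶ Y') (fst : Z' ⟶ X') (snd : Z' ⟶ Z)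
    (sq : IsPullback fst snd f' g) :
    ∃ (Z₀ Z₀' : Sp S) (z₁ : Z₀ ⟶ Z) (z₂ : Z₀ ⟶ Y) (w₁ : Z₀' ⟶ Z₀) (w₂ : Z₀' ⟶ X) (t : Z₀' ⟶ Z'),
      IsAlgSpace Z₀ ∧ IsAlgSpace Z₀' ∧ IsThickMor z₁ ∧ IsThickMor t ∧ IsPullback w₂ w₁ f z₂ ∧
        t ≫ snd = w₁ ≫ z₁ := by
  have sq1 : IsPullback (pullback.snd g j) (pullback.fst g j) j g :=
    (IsPullback.of_hasPullback g j).flip
  have sq2 : IsPullback (pullback.snd (pullback.snd g j) f) (pullback.fst (pullback.snd g j) f)
      f (pullback.snd g j) := (IsPullback.of_hasPullback (pullback.snd g j) f).flip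
  have hZ₀ : IsAlgSpace (pullback g j) :=
    Groth.Agent.H49.isAlgSpace_of_isPullback sq1 hY'.diag hY hZ
  have hZ₀' : IsAlgSpace (pullback (pullback.snd g j) f) :=
    Groth.Agent.H49.isAlgSpace_of_isPullback sq2 hY.diag hX hZ₀
  have hw : (pullback.snd (pullback.snd g j) f ≫ i) ≫ f' =
      (pullback.fst (pullback.snd g j) f ≫ pullback.fst g j) ≫ g := by
    rw [Category.assoc, w, ← Category.assoc, ← pullback.condition, Category.assoc,
      ← pullback.condition, Category.assoc]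
  obtain ⟨t, ht1, ht2⟩ := sq.exists_lift _ _ hw
  refine ⟨pullback g j, pullback (pullback.snd g j) f, pullback.fst g j, pullback.snd g j,
    pullback.fst _ _, pullback.snd _ _, t, hZ₀, hZ₀', isThickMor_of_isPullback sq1 hj, ?_, sq2, ht2⟩
  have outer : IsPullback (pullback.fst (pullback.snd g j) f ≫ pullback.fst g j)
      (pullback.snd (pullback.snd g j) f) g (f ≫ j) := sq2.flip.paste_horiz sq1.flip
  rw [← ht2, ← w] at outer
  have left : IsPullback t (pullback.snd (pullback.snd g j) f) fst i :=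
    IsPullback.of_right outer ht1 sq.flip
  exact isThickMor_of_isPullback left.flip hi

/-- Base change of `f` along `g : Z → Y` compared with the base change of `f'` along `g ≫ j`. -/
theorem exists_thick_square_down (hi : IsThickMor i) (hj : IsThickMor j) (w : i ≫ f' = f ≫ j)
    (hX' : IsAlgSpace X') (hY' : IsAlgSpace Y')
    {Z Z' : Sp S} (hZ : IsAlgSpace Z) (g : Z ⟶ Y) (fst : Z' ⟶ X) (snd : Z' ⟶ Z)
    (sq : IsPullback fst snd f g) :
    ∃ (Z'' : Sp S) (a : Z'' ⟶ Z) (b : Z'' ⟶ X') (t : Z' ⟶ Z''),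
      IsAlgSpace Z'' ∧ IsThickMor t ∧ IsPullback b a f' (g ≫ j) ∧ t ≫ a = snd := by
  have := mono_of_isThickMor j hj
  have sq1 : IsPullback (pullback.snd (g ≫ j) f') (pullback.fst (g ≫ j) f') f' (g ≫ j) :=
    (IsPullback.of_hasPullback (g ≫ j) f').flip
  have hZ'' : IsAlgSpace (pullback (g ≫ j) f') :=
    Groth.Agent.H49.isAlgSpace_of_isPullback sq1 hY'.diag hX' hZ
  have hw : (fst ≫ i) ≫ f' = snd ≫ (g ≫ j) := by
    rw [Category.assoc, w, ← Category.assoc, sq.w, Category.assoc]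
  obtain ⟨t, ht1, ht2⟩ := sq1.exists_lift _ _ hw
  refine ⟨_, _, _, t, hZ'', ?_, sq1, ht2⟩
  have outer : IsPullback snd fst (g ≫ j) (f ≫ j) := isPullback_comp_mono sq.flip j
  rw [← ht2, ← w] at outer
  have left : IsPullback t fst (pullback.snd (g ≫ j) f') i :=
    IsPullback.of_right outer ht1 sq1.flip
  exact isThickMor_of_isPullback left.flip hi

theorem univSp_iff_of_thick {Q : MorphismProperty (Sp S)} (hQ : TopInv Q)
    (hi : IsThickMor i) (hj : IsThickMor j) (w : i ≫ f' = f ≫ j)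
    (hX : IsAlgSpace X) (hX' : IsAlgSpace X') (hY : IsAlgSpace Y) (hY' : IsAlgSpace Y') :
    UnivSp Q f ↔ UnivSp Q f' := by
  constructor
  · intro h Z Z' hZ g fst snd sq
    obtain ⟨Z₀, Z₀', z₁, z₂, w₁, w₂, t, hZ₀, -, hz₁, ht, sq2, e⟩ :=
      exists_thick_square_up hi hj w hX hY hY' hZ g fst snd sq
    exact (hQ t z₁ w₁ snd (isHomeomorph_points_of_isThickMor _ ht)
      (isHomeomorph_points_of_isThickMor _ hz₁) e).1 (h hZ₀ z₂ w₂ w₁ sq2)
  · intro h Z Z' hZ g fst snd sq
    obtain ⟨Z'', a, b, t, -, ht, sq2, e⟩ :=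
      exists_thick_square_down hi hj w hX' hY' hZ g fst snd sq
    refine (hQ t (𝟙 Z) snd a (isHomeomorph_points_of_isThickMor _ ht)
      (isHomeomorph_points_id Z) ?_).2 (h hZ (g ≫ j) b a sq2)
    rw [e, Category.comp_id]

theorem isQuasiCompactSp_iff_of_thick {T₀ T : Sp S} (t : T₀ ⟶ T) (ht : IsThickMor t)
    (hT₀ : IsAlgSpace T₀) (hT : IsAlgSpace T) : IsQuasiCompactSp T₀ ↔ IsQuasiCompactSp T := by
  rw [Groth.Agent.H51.isQuasiCompactSp_iff hT₀, Groth.Agent.H51.isQuasiCompactSp_iff hT]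
  have e := (isHomeomorph_points_of_isThickMor t ht).homeomorph
  exact ⟨fun _ => e.compactSpace, fun _ => e.symm.compactSpace⟩

theorem isQuasiCompactMor_iff_of_thick
    (hi : IsThickMor i) (hj : IsThickMor j) (w : i ≫ f' = f ≫ j)
    (hX : IsAlgSpace X) (hX' : IsAlgSpace X') (hY : IsAlgSpace Y) (hY' : IsAlgSpace Y') :
    IsQuasiCompactMor f ↔ IsQuasiCompactMor f' := by
  constructor
  · intro h Z Z' hZ hZc g fst snd sq
    obtain ⟨Z₀, Z₀', z₁, z₂, w₁, w₂, t, hZ₀, hZ₀', hz₁, ht, sq2, e⟩ :=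
      exists_thick_square_up hi hj w hX hY hY' hZ g fst snd sq
    have hZ' : IsAlgSpace Z' := Groth.Agent.H49.isAlgSpace_of_isPullback sq hY'.diag hX' hZ
    have h1 : IsQuasiCompactSp Z₀ := (isQuasiCompactSp_iff_of_thick z₁ hz₁ hZ₀ hZ).2 hZc
    have h2 : IsQuasiCompactSp Z₀' := h hZ₀ h1 z₂ w₂ w₁ sq2
    exact (isQuasiCompactSp_iff_of_thick t ht hZ₀' hZ').1 h2
  · intro h Z Z' hZ hZc g fst snd sq
    obtain ⟨Z'', a, b, t, hZ'', ht, sq2, e⟩ :=
      exists_thick_square_down hi hj w hX' hY' hZ g fst snd sq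
    have hZ' : IsAlgSpace Z' := Groth.Agent.H49.isAlgSpace_of_isPullback sq hY.diag hX hZ
    have h2 : IsQuasiCompactSp Z'' := h hZ hZc (g ≫ j) b a sq2
    exact (isQuasiCompactSp_iff_of_thick t ht hZ' hZ'').2 h2

end Groth.Agent.H53
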