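import Groth.Agent.H53.Charts
import Mathlib.AlgebraicGeometry.Sites.Etale
import Mathlib.AlgebraicGeometry.Sites.Fpqc

set_option autoImplicit false
universe u
open CategoryTheory CategoryTheory.Limits AlgebraicGeometry Opposite
open AlgSp

namespace Groth.Agent.H53

variable {S : Scheme.{u}}

/-- Precomposition: if `f` has `P` on charts, `g` has `Q` on charts, `P` is stable under
precomposition with `Q`-morphisms and is local on the source for etale surjections, then `g ≫ f`
has `P` on charts. -/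
theorem locP_comp {P Q : MorphismProperty Scheme.{u}}
    (hcomp : ∀ {A B C : Scheme.{u}} (k : A ⟶ B) (h : B ⟶ C), Q k → P h → P (k ≫ h))
    (hsrc : ∀ {A B C : Scheme.{u}} (e : A ⟶ B) (h : B ⟶ C), Etale e → Surjective e → P (e ≫ h) → P h)
    {X' X Y : Sp S} (hX : IsAlgSpace X) (g : X' ⟶ X) (f : X ⟶ Y) (hg : LocP Q g) (hf : LocP P f) :
    LocP P (g ≫ f) := by
  intro U V a b h ha hb hcomm
  obtain ⟨U0, c, hc1, hc2⟩ := hX.atlas
  obtain ⟨V0, s, v, sq⟩ := exists_pullback_yon (c ≫ f) b hb.rep
  have hs : Etale s.left := prop_of_isPullback_yon sq hb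
  have hz0 : ((yon S).map s ≫ c) ≫ f = (yon S).map v ≫ b := by rw [Category.assoc]; exact sq.w
  have sq0 : IsPullback (pullback.lift ((yon S).map s ≫ c) ((yon S).map v) hz0) ((yon S).map s)
      (pullback.fst f b) c := by
    refine IsPullback.of_right ?_ (pullback.lift_fst _ _ _) (IsPullback.of_hasPullback f b).flip
    rw [pullback.lift_snd]
    exact sq.flip
  have hz1 : RepWith @Etale (pullback.lift ((yon S).map s ≫ c) ((yon S).map v) hz0) :=
    MorphismProperty.of_isPullback sq0.flip hc1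
  have hz2 : RepWith @Surjective (pullback.lift ((yon S).map s ≫ c) ((yon S).map v) hz0) :=
    MorphismProperty.of_isPullback sq0.flip hc2
  have hu : (a ≫ g) ≫ f = (yon S).map h ≫ b := by rw [Category.assoc]; exact hcomm
  obtain ⟨W, e, k, sqW⟩ := exists_pullback_yon (pullback.lift (a ≫ g) ((yon S).map h) hu) _ hz1.rep
  have he : Etale e.left := prop_of_isPullback_yon sqW hz1
  have hes : Surjective e.left := prop_of_isPullback_yon sqW hz2
  have w1 := sqW.w =≫ pullback.fst f b
  have w2 := sqW.w =≫ pullback.snd f b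
  simp only [Category.assoc, pullback.lift_fst, pullback.lift_snd] at w1 w2
  have w2' : e ≫ h = k ≫ v := (yon S).map_injective (by rw [Functor.map_comp, Functor.map_comp, w2])
  have hQ : Q k.left := hg ((yon S).map e ≫ a) ((yon S).map s ≫ c) k
    (repWith_etale_map_comp e he a ha) (repWith_etale_map_comp s hs c hc1)
    (by rw [Category.assoc, w1])
  have hP : P v.left := hf ((yon S).map s ≫ c) b v (repWith_etale_map_comp s hs c hc1) hb hz0
  have hPk : P (k.left ≫ v.left) := hcomp _ _ hQ hP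
  have : k.left ≫ v.left = e.left ≫ h.left := by rw [← Over.comp_left, ← Over.comp_left, w2']
  rw [this] at hPk
  exact hsrc _ _ he hes hPk

/-- The family of chart fibre products used to test `LocP P f` on a chart through a family
`g i : Xi i ⟶ X`. -/
theorem exists_chart_family {P Q : MorphismProperty Scheme.{u}}
    {ι : Type u} {X Y : Sp S} (Xi : ι → Sp S) (g : ∀ i, Xi i ⟶ X)
    (hXi : ∀ i, IsAlgSpace (Xi i)) (hg : ∀ i, LocP Q (g i)) (f : X ⟶ Y)
    (H : ∀ i, LocP P (g i ≫ f)) {U V : Over S} (a : (yon S).obj U ⟶ X) (b : (yon S).obj V ⟶ Y)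
    (h : U ⟶ V) (ha : RepWith @Etale a) (hb : RepWith @Etale b)
    (hcomm : a ≫ f = (yon S).map h ≫ b) :
    ∃ (W : ι → Over S) (w : ∀ i, W i ⟶ U) (Ui : ι → Over S) (c : ∀ i, (yon S).obj (Ui i) ⟶ Xi i)
      (r : ∀ i, W i ⟶ Ui i), (∀ i, RepWith @Etale (c i)) ∧ (∀ i, RepWith @Surjective (c i)) ∧
      (∀ i, IsPullback ((yon S).map (r i)) ((yon S).map (w i)) (c i ≫ g i) a) ∧
      (∀ i, Q (w i).left) ∧ (∀ i, P ((w i).left ≫ h.left)) := by
  choose Ui c hc1 hc2 using fun i => (hXi i).atlas
  choose W r w sq using fun i => exists_pullback_yon (c i ≫ g i) a ha.rep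
  have hr : ∀ i, Etale (r i).left := fun i => prop_of_isPullback_yon (sq i) ha
  refine ⟨W, w, Ui, c, r, hc1, hc2, sq, fun i => ?_, fun i => ?_⟩
  · exact hg i ((yon S).map (r i) ≫ c i) a (w i) (repWith_etale_map_comp _ (hr i) _ (hc1 i)) ha
      (by rw [Category.assoc]; exact (sq i).w)
  · have := H i ((yon S).map (r i) ≫ c i) b (w i ≫ h) (repWith_etale_map_comp _ (hr i) _ (hc1 i)) hb
      (by rw [Category.assoc, ← Category.assoc (c i), ← Category.assoc ((yon S).map (r i)), (sq i).w,
        Category.assoc, hcomm, Functor.map_comp, Category.assoc])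
    exact this

/-- The chart family is jointly surjective when the `g i` are jointly surjective on points. -/
theorem chart_family_surjective {ι : Type u} {X : Sp S} (Xi : ι → Sp S) (g : ∀ i, Xi i ⟶ X)
    (hsurj : ∀ x : Points X, ∃ i, x ∈ Set.range (Points.map (g i)))
    {U : Over S} (a : (yon S).obj U ⟶ X) (W : ι → Over S)
    (w : ∀ i, W i ⟶ U) (Ui : ι → Over S) (c : ∀ i, (yon S).obj (Ui i) ⟶ Xi i) (r : ∀ i, W i ⟶ Ui i)
    (hc2 : ∀ i, RepWith @Surjective (c i))
    (sq : ∀ i, IsPullback ((yon S).map (r i)) ((yon S).map (w i)) (c i ≫ g i) a) (u : ↥U.left) :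
    ∃ i, u ∈ Set.range (w i).left := by
  obtain ⟨i, y, hy⟩ := hsurj (Points.ofPt a u)
  obtain ⟨ui, hui⟩ := exists_ofPt_eq_of_repWith_surjective (c i) (hc2 i) y
  have : Points.ofPt (c i ≫ g i) ui = Points.ofPt a u := by
    rw [← Points.map_ofPt, hui, hy]
  obtain ⟨x, -, hx⟩ := exists_pt_of_isPullback_yon (sq i) ui u this
  exact ⟨i, x, hx⟩

/-- Locality on the source for a family jointly surjective on points. -/
theorem locP_of_cover {P Q : MorphismProperty Scheme.{u}}
    (hloc : ∀ {U V : Scheme.{u}} (h : U ⟶ V) {ι : Type u} (W : ι → Scheme.{u}) (w : ∀ i, W i ⟶ U),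
      (∀ i, Q (w i)) → (∀ x : U, ∃ i, x ∈ Set.range (w i)) → (∀ i, P (w i ≫ h)) → P h)
    {ι : Type u} {X Y : Sp S} (Xi : ι → Sp S) (g : ∀ i, Xi i ⟶ X)
    (hXi : ∀ i, IsAlgSpace (Xi i)) (hg : ∀ i, LocP Q (g i))
    (hsurj : ∀ x : Points X, ∃ i, x ∈ Set.range (Points.map (g i))) (f : X ⟶ Y)
    (H : ∀ i, LocP P (g i ≫ f)) : LocP P f := by
  intro U V a b h ha hb hcomm
  obtain ⟨W, w, Ui, c, r, hc1, hc2, sq, hQ, hP⟩ := exists_chart_family Xi g hXi hg f H a b h ha hb hcomm
  exact hloc h.left (fun i => (W i).left) (fun i => (w i).left) hQ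
    (chart_family_surjective Xi g hsurj a W w Ui c r hc2 sq) hP

section Convert

variable {P : MorphismProperty Scheme.{u}}

theorem comp_of_isLocalAtSource_precoverage (Q : MorphismProperty Scheme.{u}) [Q.ContainsIdentities]
    [P.IsLocalAtSource (Scheme.precoverage Q)] {A B C : Scheme.{u}} (k : A ⟶ B) (h : B ⟶ C)
    (hk : Q k) (hP : P h) : P (k ≫ h) := by
  let X : Option Unit → Scheme.{u} := fun o => o.elim B (fun _ => A)
  let f : ∀ o, X o ⟶ B := fun o => match o with
    | none => 𝟙 B
    | some _ => k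
  have hR : Presieve.ofArrows X f ∈ Scheme.precoverage Q B := by
    rw [Scheme.ofArrows_mem_precoverage_iff]
    refine ⟨fun x => ⟨none, x, rfl⟩, ?_⟩
    rintro (_ | _)
    · exact Q.id_mem B
    · exact hk
  exact MorphismProperty.IsLocalAtSource.comp hR k (Presieve.ofArrows.mk (some ())) hP

theorem etale_of_isLocalAtSource_precoverage (Q : MorphismProperty Scheme.{u}) (hQ : @Etale ≤ Q)
    [P.IsLocalAtSource (Scheme.precoverage Q)] {A B C : Scheme.{u}} (e : A ⟶ B) (h : B ⟶ C)
    (he : Etale e) (hes : Surjective e) (hP : P (e ≫ h)) : P h := by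
  have hR : Presieve.singleton e ∈ Scheme.precoverage Q B := by
    rw [Scheme.singleton_mem_precoverage_iff]
    exact ⟨hes.surj, hQ _ _ _ he⟩
  refine MorphismProperty.IsLocalAtSource.of_forall_comp hR ?_
  rintro _ _ ⟨⟩
  exact hP

theorem family_of_isLocalAtSource_precoverage (Q : MorphismProperty Scheme.{u})
    [P.IsLocalAtSource (Scheme.precoverage Q)] {U V : Scheme.{u}} (h : U ⟶ V) {ι : Type u}
    (W : ι → Scheme.{u}) (w : ∀ i, W i ⟶ U) (hQ : ∀ i, Q (w i))
    (hs : ∀ x : U, ∃ i, x ∈ Set.range (w i)) (hP : ∀ i, P (w i ≫ h)) : P h := by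
  have hR : Presieve.ofArrows W w ∈ Scheme.precoverage Q U := by
    rw [Scheme.ofArrows_mem_precoverage_iff]
    exact ⟨hs, hQ⟩
  refine MorphismProperty.IsLocalAtSource.of_forall_comp hR ?_
  rintro _ _ ⟨i⟩
  exact hP i

end Convert

/-- Source locality of `LocP P` for jointly surjective families of chartwise-`Q` morphisms. -/
theorem isLocalOnSource_locP_of_precoverage (P Q : MorphismProperty Scheme.{u}) [Q.ContainsIdentities]
    (hQ : @Etale ≤ Q) [P.IsLocalAtSource (Scheme.precoverage Q)] :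
    IsLocalOnSource (S := S) (fun _ _ Y g => IsCover (LocP Q) Y g) (LocP P) := by
  intro ι X Xi g hX hXi hcov Y f hY
  constructor
  · intro hf i
    exact locP_comp (comp_of_isLocalAtSource_precoverage Q) (etale_of_isLocalAtSource_precoverage Q hQ)
      hX (g i) f (hcov.1 i) hf
  · intro H
    exact locP_of_cover (family_of_isLocalAtSource_precoverage Q) Xi g hXi hcov.1 hcov.2 f H

/-- An fpqc covering of an algebraic space is jointly surjective on points. -/
theorem isFpqcCover_surjective_points {ι : Type u} {X : Sp S} (Xi : ι → Sp S) (g : ∀ i, Xi i ⟶ X)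
    (hX : IsAlgSpace X) (hcov : IsFpqcCover Xi g) (x : Points X) :
    ∃ i, x ∈ Set.range (Points.map (g i)) := by
  obtain ⟨U0, c0, -, h2⟩ := hX.atlas
  obtain ⟨u0, rfl⟩ := exists_ofPt_eq_of_repWith_surjective c0 h2 x
  obtain ⟨z', hz'⟩ := U0.left.affineCover.covers u0
  have hZ : IsAffine (overOf U0 (U0.left.affineCover.f (U0.left.affineCover.idx u0))).left :=
    Scheme.isAffine_affineCover U0.left _
  obtain ⟨m, T, cT, -, -, hs, hlift⟩ := hcov.2 _ hZ
    ((yon S).map (overHom U0 (U0.left.affineCover.f (U0.left.affineCover.idx u0))) ≫ c0)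
  obtain ⟨j, t, ht⟩ := hs z'
  obtain ⟨i, l, hl⟩ := hlift j
  refine ⟨i, Points.ofPt l t, ?_⟩
  rw [Points.map_ofPt, hl, ofPt_yon_map_comp, ofPt_yon_map_comp, ht]
  congr 1

section Convert

variable {P : MorphismProperty Scheme.{u}}

theorem comp_of_isLocalAtSource_fpqc [P.IsLocalAtSource Scheme.fpqcPrecoverage] {A B C : Scheme.{u}}
    (k : A ⟶ B) (h : B ⟶ C) (hk : Flat k) (hP : P h) : P (k ≫ h) := by
  let X : Option Unit → Scheme.{u} := fun o => o.elim B (fun _ => A)
  let f : ∀ o, X o ⟶ B := fun o => match o with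
    | none => 𝟙 B
    | some _ => k
  have hR : Presieve.ofArrows X f ∈ Scheme.fpqcPrecoverage B := by
    refine ⟨?_, ?_⟩
    · have : QuasiCompactCover (⟨Option Unit, X, f⟩ : PreZeroHypercover B) :=
        QuasiCompactCover.of_hom (𝒱 := PreZeroHypercover.singleton.{0} (𝟙 B))
          ⟨fun _ => none, fun _ => 𝟙 B, fun _ => rfl⟩
      exact (Scheme.presieve₀_mem_qcPrecoverage_iff (E := ⟨Option Unit, X, f⟩)).2 this
    · rw [Scheme.ofArrows_mem_precoverage_iff]
      refine ⟨fun x => ⟨none, x, rfl⟩, ?_⟩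
      rintro (_ | _)
      · exact (inferInstance : Flat (𝟙 B))
      · exact hk
  exact MorphismProperty.IsLocalAtSource.comp hR k (Presieve.ofArrows.mk (some ())) hP

theorem etale_of_isLocalAtSource_fpqc [P.IsLocalAtSource Scheme.fpqcPrecoverage] {A B C : Scheme.{u}}
    (e : A ⟶ B) (h : B ⟶ C) (he : Etale e) (hes : Surjective e) (hP : P (e ≫ h)) : P h := by
  have hR : Presieve.singleton e ∈ Scheme.fpqcPrecoverage B :=
    Scheme.fppfPrecoverage_le_fpqcPrecoverage _ (Scheme.Hom.singleton_mem_fppfPrecoverage e)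
  refine MorphismProperty.IsLocalAtSource.of_forall_comp hR ?_
  rintro _ _ ⟨⟩
  exact hP

end Convert

theorem exists_compact_open_surjective {A B : Scheme.{u}} (e : A ⟶ B) [Etale e] [Surjective e]
    [CompactSpace B] : ∃ V : A.Opens, IsCompact (V : Set A) ∧ e '' (V : Set A) = Set.univ := by
  have h : IsCompactOpenCovered (fun _ : Unit => (e : A → B)) (Set.univ : Set B) :=
    IsCompactOpenCovered.of_isOpenMap (fun _ => e.continuous) (fun _ => e.isOpenMap)
      (fun x _ => ⟨(), e.surjective x⟩) isOpen_univ isCompact_univ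
  rw [IsCompactOpenCovered.iff_of_unique] at h
  obtain ⟨V, hV, hV'⟩ := h
  exact ⟨V, hV, hV'⟩

/-- The family of chart fibre products attached to an fpqc covering is a quasi-compact cover. -/
theorem quasiCompactCover_of_isFpqcCover {ι : Type u} {X : Sp S} (Xi : ι → Sp S) (g : ∀ i, Xi i ⟶ X)
    (hcov : IsFpqcCover Xi g) {U : Over S} (a : (yon S).obj U ⟶ X) (W : ι → Over S)
    (w : ∀ i, W i ⟶ U) (Ui : ι → Over S) (c : ∀ i, (yon S).obj (Ui i) ⟶ Xi i) (r : ∀ i, W i ⟶ Ui i)
    (hc1 : ∀ i, RepWith @Etale (c i)) (hc2 : ∀ i, RepWith @Surjective (c i))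
    (sq : ∀ i, IsPullback ((yon S).map (r i)) ((yon S).map (w i)) (c i ≫ g i) a) :
    QuasiCompactCover (⟨ι, fun i => (W i).left, fun i => (w i).left⟩ : PreZeroHypercover U.left) := by
  refine ⟨fun {U'} hU' => ?_⟩
  have hZ : IsAffine (overOf U U'.ι).left := hU'
  obtain ⟨m, T, cT, hT, -, hs, hlift⟩ := hcov.2 _ hZ ((yon S).map (overHom U U'.ι) ≫ a)
  choose i l hl using hlift
  choose T' e r' sqT using fun j => exists_pullback_yon (l j) (c (i j)) (hc1 (i j)).rep
  have he1 : ∀ j, Etale (e j).left := fun j => prop_of_isPullback_yon (sqT j) (hc1 (i j))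
  have he2 : ∀ j, Surjective (e j).left := fun j => prop_of_isPullback_yon (sqT j) (hc2 (i j))
  have hcond : ∀ j, (yon S).map (r' j) ≫ c (i j) ≫ g (i j) =
      (yon S).map (e j ≫ cT j ≫ overHom U U'.ι) ≫ a := by
    intro j
    rw [← Category.assoc, ← (sqT j).w, Category.assoc, hl j, Functor.map_comp, Functor.map_comp,
      Category.assoc, Category.assoc]
  choose t ht using fun j => (yon S).map_surjective ((sq (i j)).lift _ _ (hcond j))
  have htw : ∀ j, t j ≫ w (i j) = e j ≫ cT j ≫ overHom U U'.ι := fun j =>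
    (yon S).map_injective (by rw [Functor.map_comp, ht, (sq (i j)).lift_snd])
  have hcpt : ∀ j, CompactSpace ↥(T j).left := fun j => by
    have := hT j
    infer_instance
  choose V hV hV' using fun j => exists_compact_open_surjective (e j).left
  have key : IsCompactOpenCovered (fun j : Fin m => ((e j ≫ cT j ≫ overHom U U'.ι).left : (T' j).left → U.left))
      (U' : Set U.left) := by
    refine IsCompactOpenCovered.of_finite (a := id) V hV ?_
    apply subset_antisymm
    · intro x hx
      simp only [Set.mem_iUnion, Set.mem_image] at hx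
      obtain ⟨j, y, -, rfl⟩ := hx
      simp only [Over.comp_left, Scheme.Hom.comp_apply]
      exact (((cT j).left ((e j).left y)) : U').2
    · intro x hx
      obtain ⟨j, y, hy⟩ := hs ⟨x, hx⟩
      have : y ∈ (e j).left '' (V j : Set (T' j).left) := by rw [hV' j]; trivial
      obtain ⟨y', hy', rfl⟩ := this
      simp only [Set.mem_iUnion, Set.mem_image]
      refine ⟨j, y', hy', ?_⟩
      simp only [Over.comp_left, Scheme.Hom.comp_apply, id]
      rw [hy]
      rfl
  refine IsCompactOpenCovered.of_comp _ (a := i) (fun j => (t j).left) (fun j => (t j).left.continuous)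
    (fun j => ?_) (fun j => (w j).left.continuous) U'.2 key
  funext y
  have := congrArg (fun φ => (φ.left : (T' j).left → U.left) y) (htw j)
  simpa using this.symm


/-- Source locality of `LocP P` for fpqc coverings. -/
theorem isLocalOnSource_locP_fpqc (P : MorphismProperty Scheme.{u})
    [P.IsLocalAtSource Scheme.fpqcPrecoverage] :
    IsLocalOnSource (IsFpqcCover (S := S)) (LocP P) := by
  intro ι X Xi g hX hXi hcov Y f hY
  constructor
  · intro hf i
    exact locP_comp (Q := @Flat) (fun k h hk hP => comp_of_isLocalAtSource_fpqc k h hk hP)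
      (fun e h he hes hP => etale_of_isLocalAtSource_fpqc e h he hes hP) hX (g i) f (hcov.1 i) hf
  · intro H U V a b h ha hb hcomm
    obtain ⟨W, w, Ui, c, r, hc1, hc2, sq, hQ, hP⟩ :=
      exists_chart_family Xi g hXi hcov.1 f H a b h ha hb hcomm
    have hqc := quasiCompactCover_of_isFpqcCover Xi g hcov a W w Ui c r hc1 hc2 sq
    have hR : Presieve.ofArrows (fun i => (W i).left) (fun i => (w i).left) ∈
        Scheme.fpqcPrecoverage U.left := by
      refine ⟨(Scheme.presieve₀_mem_qcPrecoverage_iff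
        (E := ⟨ι, fun i => (W i).left, fun i => (w i).left⟩)).2 hqc, ?_⟩
      rw [Scheme.ofArrows_mem_precoverage_iff]
      exact ⟨chart_family_surjective Xi g (isFpqcCover_surjective_points Xi g hX hcov) a W w Ui c r
        hc2 sq, hQ⟩
    refine MorphismProperty.IsLocalAtSource.of_forall_comp hR ?_
    rintro _ _ ⟨i⟩
    exact hP i

end Groth.Agent.H53
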