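import Groth.Agent.H53.UnramDiag

/-! The open subspace of the base over which a morphism is unramified and universally injective. -/

set_option autoImplicit false
set_option backward.isDefEq.respectTransparency false
universe u

open CategoryTheory CategoryTheory.Limits AlgebraicGeometry Opposite
open AlgSp

namespace Groth.Agent.H53

variable {S : Scheme.{u}}

/-- Universal injectivity is equivalent to surjectivity of the diagonal on points. -/
theorem isUnivInjectiveMor_iff_diagonal_surjective {X Y : Sp S} (hX : IsAlgSpace X) (f : X ⟶ Y) :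
    IsUnivInjectiveMor f ↔ Function.Surjective (Points.map (pullback.diagonal f)) :=
  ⟨fun h => Groth.Agent.H50.isSurjectiveMor_diagonal_of_field_injective f
      (Groth.Agent.H50.field_injective_of_isUnivInjectiveMor hX f h),
    fun h => Groth.Agent.H50.isUnivInjectiveMor_of_field_injective f
      (Groth.Agent.H50.field_injective_of_isSurjectiveMor_diagonal hX f h)⟩

/-- The open subspace `W` of `Z` over which `f : X ⟶ Y` (over `Z`) is unramified and universally
injective, when `X ×_Y X ⟶ Z` is closed and `f` locally of finite type. -/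
theorem exists_open_where_unramified_univInjective {X Y Z : Sp S} (hX : IsAlgSpace X)
    (hY : IsAlgSpace Y) (hZ : IsAlgSpace Z) (f : X ⟶ Y) (q : Y ⟶ Z)
    (hlft : LocP @LocallyOfFiniteType f)
    (hcl : IsClosedMap (Points.map (pullback.snd f f ≫ f ≫ q))) :
    ∃ (W : Sp S) (w : W ⟶ Z), IsAlgSpace W ∧ RepWith @IsOpenImmersion w ∧
      ∀ (Z' : Sp S) (_ : IsAlgSpace Z') (g : Z' ⟶ Z),
        (∃ k : Z' ⟶ W, k ≫ w = g) ↔
          ∀ (Y' : Sp S) (_ : IsAlgSpace Y') (gY : Y' ⟶ Y) (q' : Y' ⟶ Z'), IsPullback gY q' q g →
            ∀ (X' : Sp S) (_ : IsAlgSpace X') (gX : X' ⟶ X) (f' : X' ⟶ Y'),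
              IsPullback gX f' f gY →
                (LocP (@LocallyOfFiniteType ⊓ @FormallyUnramified : MorphismProperty Scheme.{u})
                  f' ∧ IsUnivInjectiveMor f') := by
  have hD := isOpen_diagonal_image_unramAt hX hY f
  have hO : IsOpen (Points.map (pullback.snd f f ≫ f ≫ q) ''
      (Points.map (pullback.diagonal f) '' {x : Points X | HasAtMor UnramAt f x})ᶜ)ᶜ :=
    (hcl _ hD.isClosed_compl).isOpen_compl
  obtain ⟨W, w, hW, hw, hr⟩ := Groth.Agent.H51.exists_open_subspace hZ _ hO
  -- a point of the diagonal not in the image of the unramified locus comes from a ramified point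
  have hdiag : ∀ x : Points X, Points.map (pullback.diagonal f) x ∈
      Points.map (pullback.diagonal f) '' {x : Points X | HasAtMor UnramAt f x} →
      HasAtMor UnramAt f x := by
    rintro x ⟨x₂, hx₂, he⟩
    have := congrArg (Points.map (pullback.snd f f)) he
    rw [← Points.map_comp, ← Points.map_comp, pullback.diagonal_snd, Points.map_id,
      Points.map_id] at this
    rw [← this]
    exact hx₂
  refine ⟨W, w, hW, hw, fun Z' hZ' g => ?_⟩
  constructor
  · rintro ⟨k, rfl⟩ Y' hY' gY q' sqY X' hX' gX f' sqX
    have hrange : ∀ y' : Points Y', Points.map q (Points.map gY y') ∈ Set.range (Points.map w) := by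
      intro y'
      rw [← Points.map_comp, sqY.w, ← Category.assoc, Points.map_comp]
      exact ⟨_, rfl⟩
    constructor
    · rw [locP_unram_iff_forall_hasAtMor hX' hY']
      intro x'
      rw [hasAtMor_unramAt_baseChange_iff hX hY hX' hY' f hlft gY gX f' sqX]
      by_contra hcon
      have hmem := hrange (Points.map f' x')
      rw [hr] at hmem
      refine hmem ⟨Points.map (pullback.diagonal f) (Points.map gX x'), fun h => hcon (hdiag _ h), ?_⟩
      simp only [← Points.map_comp]
      congr 1
      rw [Category.assoc, pullback.diagonal_snd_assoc, ← Category.assoc, sqX.w]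
    · rw [isUnivInjectiveMor_iff_diagonal_surjective hX']
      intro t'
      have hmem := hrange (Points.map (pullback.snd f' f' ≫ f') t')
      rw [hr] at hmem
      have hbase := isPullback_pullbackMap_base sqX
      have ht : Points.map (pullback.map f' f' f f gX gX gY sqX.w.symm sqX.w.symm) t' ∈
          Points.map (pullback.diagonal f) '' {x : Points X | HasAtMor UnramAt f x} := by
        by_contra hcon
        refine hmem ⟨_, hcon, ?_⟩
        simp only [← Points.map_comp]
        congr 1
        rw [show pullback.map f' f' f f gX gX gY sqX.w.symm sqX.w.symm ≫ pullback.snd f f ≫ f ≫ q =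
          (pullback.map f' f' f f gX gX gY sqX.w.symm sqX.w.symm ≫ (pullback.snd f f ≫ f)) ≫ q by
            simp only [Category.assoc], hbase.w]
      obtain ⟨x, -, hx⟩ := ht
      obtain ⟨x'', -, hx''⟩ := exists_point_of_isPullback (isPullback_diagonal_baseChange sqX) x t' hx
      exact ⟨x'', hx''⟩
  · intro H
    rw [Groth.Agent.H51.exists_factor_iff_of_isOpenImmersion' w hw g, hr]
    rintro _ ⟨z', rfl⟩
    rintro ⟨t, ht, hpt⟩
    have sqY := IsPullback.of_hasPullback q g
    have hY' : IsAlgSpace (pullback q g) :=
      Groth.Agent.H49.isAlgSpace_of_isPullback sqY hZ.diag hY hZ'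
    have sqX := IsPullback.of_hasPullback f (pullback.fst q g)
    have hX' : IsAlgSpace (pullback f (pullback.fst q g)) :=
      Groth.Agent.H49.isAlgSpace_of_isPullback sqX hY.diag hX hY'
    obtain ⟨hP, hinj⟩ := H _ hY' _ _ sqY _ hX' _ _ sqX
    rw [locP_unram_iff_forall_hasAtMor hX' hY'] at hP
    rw [isUnivInjectiveMor_iff_diagonal_surjective hX'] at hinj
    have big := (isPullback_pullbackMap_base sqX).paste_vert sqY
    obtain ⟨t', ht't, -⟩ := exists_point_of_isPullback big t z' (by
      rw [Category.assoc]; exact hpt)
    obtain ⟨x', rfl⟩ := hinj t'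
    apply ht
    refine ⟨Points.map (pullback.fst f (pullback.fst q g)) x', ?_, ?_⟩
    · have := hP x'
      rwa [hasAtMor_unramAt_baseChange_iff hX hY hX' hY' f hlft _ _ _ sqX] at this
    · rw [← ht't, ← Points.map_comp, ← Points.map_comp]
      congr 1
      exact (isPullback_diagonal_baseChange sqX).w

end Groth.Agent.H53
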