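import Mathlib
import Groth.Agent.H50.EtSrcInst
import Groth.Agent.H50.LocPSrc

/-! Locally quasi-finite morphisms: etale-local on the source, fpqc descent. -/

set_option autoImplicit false
universe u

open CategoryTheory CategoryTheory.Limits AlgebraicGeometry MorphismProperty

namespace Groth.Agent.H53

/-- A set whose preimage under an open surjection is discrete is discrete. -/
theorem isDiscrete_of_preimage {A B : Type*} [TopologicalSpace A] [TopologicalSpace B] (e : A → B)
    (he : IsOpenMap e) (hs : Function.Surjective e) {T : Set B} (h : IsDiscrete (e ⁻¹' T)) :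
    IsDiscrete T := by
  rw [isDiscrete_iff_forall_mem_exists_isOpen] at h ⊢
  intro t ht
  obtain ⟨a, rfl⟩ := hs t
  obtain ⟨W, hW, hWe⟩ := h a ht
  have haW : a ∈ W := by
    have : a ∈ W ∩ e ⁻¹' T := by rw [hWe]; rfl
    exact this.1
  refine ⟨e '' W, he W hW, ?_⟩
  ext b
  constructor
  · rintro ⟨⟨w, hw, rfl⟩, hb⟩
    have : w ∈ W ∩ e ⁻¹' T := ⟨hw, hb⟩
    rw [hWe] at this
    rw [this]
    rfl
  · rintro rfl
    exact ⟨⟨a, haW, rfl⟩, ht⟩

theorem locallyQuasiFinite_of_comp_etale_surjective {A B C : Scheme.{u}} (e : A ⟶ B) (h : B ⟶ C)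
    [Etale e] [Surjective e] [LocallyOfFiniteType h] (H : LocallyQuasiFinite (e ≫ h)) :
    LocallyQuasiFinite h := by
  rw [locallyQuasiFinite_iff_isDiscrete_preimage_singleton]
  intro c
  apply isDiscrete_of_preimage e e.isOpenMap e.surjective
  have := (e ≫ h).isDiscrete_preimage_singleton c
  convert this using 1
  ext a
  simp

theorem etLocSrc_lqf : Groth.Agent.H50.EtLocSrc (@LocallyQuasiFinite ⊓ @LocallyOfFiniteType) := by
  intro A B C e h he hs hh
  have := he; have := hs
  have h2 : LocallyOfFiniteType h :=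
    Groth.Agent.H50.locallyOfFiniteType_of_comp_etale_surjective e h hh.2
  exact ⟨locallyQuasiFinite_of_comp_etale_surjective e h hh.1, h2⟩

instance lqf_descendsAlong_fpqc :
    (@LocallyQuasiFinite ⊓ @LocallyOfFiniteType : MorphismProperty Scheme.{u}).DescendsAlong
      (@Surjective ⊓ @Flat ⊓ @QuasiCompact) := by
  apply IsZariskiLocalAtTarget.descendsAlong
    (P := (@LocallyQuasiFinite ⊓ @LocallyOfFiniteType : MorphismProperty Scheme.{u}))
    (P' := (@Surjective ⊓ @Flat ⊓ @QuasiCompact : MorphismProperty Scheme.{u}))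
  intro R X Y f g hf h
  have hsurj : Surjective f := hf.1.1
  have hLFT : LocallyOfFiniteType g :=
    MorphismProperty.of_pullback_fst_of_descendsAlong (P := @LocallyOfFiniteType)
      (Q := @Surjective ⊓ @Flat ⊓ @QuasiCompact) (f := f) hf h.2
  refine ⟨?_, hLFT⟩
  rw [IsZariskiLocalAtSource.iff_of_openCover (P := @LocallyQuasiFinite) Y.affineCover]
  intro i
  have heq : pullback.fst f (Y.affineCover.f i ≫ g) =
      pullback.map _ _ _ _ (𝟙 _) (Y.affineCover.f i) (𝟙 _) (by simp) (by simp) ≫
        pullback.fst f g := (pullback.lift_fst _ _ _).symm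
  have h1 : LocallyQuasiFinite (pullback.fst f (Y.affineCover.f i ≫ g)) := by
    have := h.1
    rw [heq]
    infer_instance
  have hfin : ∀ x : X, ((pullback.fst f (Y.affineCover.f i ≫ g)) ⁻¹' {x}).Finite :=
    fun x => (pullback.fst f (Y.affineCover.f i ≫ g)).finite_preimage_singleton x
  apply LocallyQuasiFinite.of_finite_preimage_singleton
  intro z
  obtain ⟨x, rfl⟩ := hsurj.surj z
  refine Set.Finite.subset ((hfin x).image (pullback.snd f (Y.affineCover.f i ≫ g))) ?_
  intro y hy
  obtain ⟨w, hw1, hw2⟩ := Scheme.Pullback.exists_preimage_pullback (f := f)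
    (g := Y.affineCover.f i ≫ g) x y hy.symm
  exact ⟨w, hw1, hw2⟩

end Groth.Agent.H53

namespace Groth.Agent.H53

theorem quasiFinite_of_etale {R S : Type u} [CommRing R] [CommRing S] {f : R →+* S}
    (hf : f.Etale) : f.QuasiFinite := by
  algebraize [f]
  have : Algebra.QuasiFinite R S := inferInstance
  exact this

instance locallyQuasiFinite_of_etale {A B : Scheme.{u}} (e : A ⟶ B) [Etale e] :
    LocallyQuasiFinite e := by
  rw [HasRingHomProperty.iff_appLE (P := @LocallyQuasiFinite)]
  intro U V h
  exact quasiFinite_of_etale (HasRingHomProperty.appLE (P := @Etale) e inferInstance U V h)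

end Groth.Agent.H53
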