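import Groth.Agent.H53.EtSourceLocal
import Groth.Agent.H53.FpqcLocal
import Groth.Agent.H50.LocPSrc

universe u
open CategoryTheory CategoryTheory.Limits AlgebraicGeometry Opposite AlgSp

namespace Groth.Agent.H53

variable {S : Scheme.{u}}

/-- Right cancellation of etale morphisms for a property containing etale morphisms, stable under
composition and base change. -/
theorem of_postcomp_etale (P : MorphismProperty Scheme.{u}) [P.IsStableUnderBaseChange]
    [P.IsStableUnderComposition] (hE : @Etale ≤ P) {A B C : Scheme.{u}} (h : A ⟶ B) (e : B ⟶ C)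
    [Etale e] (hP : P (h ≫ e)) : P h := by
  let Γ : A ⟶ pullback (h ≫ e) e := pullback.lift (𝟙 A) h (by simp)
  have h1 : Γ ≫ pullback.fst (h ≫ e) e = 𝟙 A := pullback.lift_fst _ _ _
  have h2 : Γ ≫ pullback.snd (h ≫ e) e = h := pullback.lift_snd _ _ _
  have hΓ : Etale Γ := by
    have : Etale (Γ ≫ pullback.fst (h ≫ e) e) := by rw [h1]; infer_instance
    exact MorphismProperty.of_postcomp (W := @Etale) (W' := @Etale) Γ (pullback.fst (h ≫ e) e)
      inferInstance this
  have hs : P (pullback.snd (h ≫ e) e) := P.pullback_snd _ _ hP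
  rw [← h2]
  exact P.comp_mem _ _ (hE _ _ _ hΓ) hs

/-- A morphism of schemes over `S` with `P` has `P` on all chart diagrams. -/
theorem locP_yon_map_of (P : MorphismProperty Scheme.{u}) [P.IsStableUnderBaseChange]
    [P.IsStableUnderComposition] (hE : @Etale ≤ P) {U V : Over S} (h : U ⟶ V) (hP : P h.left) :
    LocP P ((yon S).map h) := by
  intro U' V' a b h' ha hb hcomm
  obtain ⟨a₀, rfl⟩ := (yon S).map_surjective a
  obtain ⟨b₀, rfl⟩ := (yon S).map_surjective b
  have ha₀ : Etale a₀.left := (repWith_yon_map_iff _ _).1 ha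
  have hb₀ : Etale b₀.left := (repWith_yon_map_iff _ _).1 hb
  have hc : a₀ ≫ h = h' ≫ b₀ := (yon S).map_injective (by
    rw [Functor.map_comp, Functor.map_comp]; exact hcomm)
  have hc' : a₀.left ≫ h.left = h'.left ≫ b₀.left := congrArg (fun k => k.left) hc
  refine of_postcomp_etale P hE h'.left b₀.left ?_
  rw [← hc']
  exact P.comp_mem _ _ (hE _ _ _ ha₀) hP


/-- The basic chart construction for base change: if `U = U₀ ×_Y V` is a chart of `f` over the
chart `V` of `Y`, then `U' = U ×_V V'` is an etale surjective chart of `X ×_Y h_{V'}` for every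
`V' ⟶ V`. -/
theorem exists_chart_of_baseChange {X Y X'' : Sp S} (f : X ⟶ Y) {U₀ V U V' U' : Over S}
    (a₀ : (yon S).obj U₀ ⟶ X) (ha1 : RepWith @Etale a₀) (ha2 : RepWith @Surjective a₀)
    (b : (yon S).obj V ⟶ Y) (u : U ⟶ U₀) (h : U ⟶ V)
    (sqU : IsPullback ((yon S).map u) ((yon S).map h) (a₀ ≫ f) b) (k : V' ⟶ V)
    (pr₁ : U' ⟶ U) (pr₂ : U' ⟶ V') (PB : IsPullback pr₁ pr₂ h k)
    (fst'' : X'' ⟶ X) (snd'' : X'' ⟶ (yon S).obj V')
    (PX : IsPullback fst'' snd'' f ((yon S).map k ≫ b)) :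
    ∃ φ : (yon S).obj U' ⟶ X'', RepWith @Etale φ ∧ RepWith @Surjective φ ∧
      φ ≫ snd'' = (yon S).map pr₂ ∧ φ ≫ fst'' = (yon S).map (pr₁ ≫ u) ≫ a₀ := by
  have PBU := PB.map (yon S)
  have big := PBU.paste_horiz sqU
  obtain ⟨φ, hφ1, hφ2⟩ : ∃ φ : (yon S).obj U' ⟶ X'',
      φ ≫ fst'' = ((yon S).map pr₁ ≫ (yon S).map u) ≫ a₀ ∧ φ ≫ snd'' = (yon S).map pr₂ :=
    ⟨PX.lift _ _ (by rw [Category.assoc, big.w]), PX.lift_fst _ _ _, PX.lift_snd _ _ _⟩
  have sqL : IsPullback φ ((yon S).map pr₁ ≫ (yon S).map u) fst'' a₀ := by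
    refine IsPullback.of_right ?_ hφ1 PX.flip
    rw [hφ2]
    exact big.flip
  refine ⟨φ, MorphismProperty.of_isPullback (P := RepWith @Etale) sqL.flip ha1,
    MorphismProperty.of_isPullback (P := RepWith @Surjective) sqL.flip ha2, hφ2, ?_⟩
  rw [hφ1, Functor.map_comp]

/-- `LocP P` is stable under base change of morphisms of algebraic spaces, for `P` containing
etale morphisms, stable under composition and base change, etale local on the source and
satisfying fpqc descent. -/
theorem locP_of_isPullback (P : MorphismProperty Scheme.{u}) [IsZariskiLocalAtTarget P]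
    [P.DescendsAlong (@Surjective ⊓ @Flat ⊓ @QuasiCompact)] [P.IsStableUnderBaseChange]
    [P.IsStableUnderComposition] (hE : @Etale ≤ P) (hsrc : Groth.Agent.H50.EtLocSrc P)
    {X Y X' Y' : Sp S} (hX : IsAlgSpace X) (hY : IsAlgSpace Y) (hY' : IsAlgSpace Y')
    {q : X' ⟶ X} {p : X' ⟶ Y'} {f : X ⟶ Y} {g : Y' ⟶ Y} (sq : IsPullback q p f g)
    (hf : LocP P f) : LocP P p := by
  obtain ⟨V, b, hb1, hb2⟩ := hY.atlas
  obtain ⟨U₀, a₀, ha1, ha2⟩ := hX.atlas
  obtain ⟨V'₁, b'₁, hb'1, hb'2⟩ := hY'.atlas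
  obtain ⟨V', v', k, sqV'⟩ := exists_pullback_yon (b'₁ ≫ g) b hb1.rep
  have hv'1 : Etale v'.left := prop_of_isPullback_yon sqV' hb1
  have hv'2 : Surjective v'.left := prop_of_isPullback_yon sqV' hb2
  have hβ1 : RepWith @Etale ((yon S).map v' ≫ b'₁) := repWith_etale_map_comp _ hv'1 b'₁ hb'1
  have hβ2 : RepWith @Surjective ((yon S).map v' ≫ b'₁) :=
    (RepWith @Surjective).comp_mem _ _ ((repWith_yon_map_iff _ _).2 hv'2) hb'2
  refine Groth.Agent.H50.locP_of_isPullback_atlas P
    (fun h v u h' sq hv hvs hP => Groth.Agent.H50.descends_etale_of_descendsAlong P h v u h' sq hv hvs hP)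
    p V' ((yon S).map v' ≫ b'₁) hβ1 hβ2 (pullback.fst p ((yon S).map v' ≫ b'₁))
    (pullback.snd p ((yon S).map v' ≫ b'₁)) (IsPullback.of_hasPullback _ _) ?_
  obtain ⟨U, u, h, sqU⟩ := exists_pullback_yon (a₀ ≫ f) b hb1.rep
  have hu : Etale u.left := prop_of_isPullback_yon sqU hb1
  have hPh : P h.left := hf ((yon S).map u ≫ a₀) b h (repWith_etale_map_comp _ hu a₀ ha1) hb1
    (by rw [Category.assoc]; exact sqU.w)
  have PX : IsPullback (pullback.fst p ((yon S).map v' ≫ b'₁) ≫ q)
      (pullback.snd p ((yon S).map v' ≫ b'₁)) f ((yon S).map k ≫ b) := by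
    have := (IsPullback.of_hasPullback p ((yon S).map v' ≫ b'₁)).paste_horiz sq
    rwa [Category.assoc, sqV'.w] at this
  obtain ⟨φ, hφ1, hφ2, hφ3, -⟩ := exists_chart_of_baseChange f a₀ ha1 ha2 b u h sqU k _ _
    (IsPullback.of_hasPullback h k) _ _ PX
  refine Groth.Agent.H50.locP_of_source_chart hsrc _ _ φ hφ1 hφ2 ?_
  rw [hφ3]
  refine locP_yon_map_of P hE _ ?_
  exact MorphismProperty.of_isPullback (P := P)
    ((IsPullback.of_hasPullback h k).map (Over.forget S)) hPh


/-- `LocP P` descends along fpqc coverings of the base. -/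
theorem locP_of_fpqc_cover (P : MorphismProperty Scheme.{u}) [IsZariskiLocalAtTarget P]
    [P.DescendsAlong (@Surjective ⊓ @Flat ⊓ @QuasiCompact)] [P.IsStableUnderBaseChange]
    [P.IsStableUnderComposition] (hE : @Etale ≤ P) (hsrc : Groth.Agent.H50.EtLocSrc P)
    {ι : Type u} {Y : Sp S} (Yi : ι → Sp S) (g : ∀ i, Yi i ⟶ Y) (hY : IsAlgSpace Y)
    (hYi : ∀ i, IsAlgSpace (Yi i)) (hcov : IsFpqcCover Yi g) {X : Sp S} (f : X ⟶ Y)
    (hX : IsAlgSpace X) (Xi : ι → Sp S) (p : ∀ i, Xi i ⟶ Yi i) (q : ∀ i, Xi i ⟶ X)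
    (hXi : ∀ i, IsAlgSpace (Xi i)) (sq : ∀ i, IsPullback (q i) (p i) f (g i))
    (H : ∀ i, LocP P (p i)) : LocP P f := by
  obtain ⟨V, b, hb1, hb2⟩ := hY.atlas
  obtain ⟨U₀, a₀, ha1, ha2⟩ := hX.atlas
  refine Groth.Agent.H50.locP_of_isPullback_atlas P
    (fun h v u h' sq hv hvs hP => Groth.Agent.H50.descends_etale_of_descendsAlong P h v u h' sq hv hvs hP)
    f V b hb1 hb2 (pullback.fst f b) (pullback.snd f b) (IsPullback.of_hasPullback _ _) ?_
  obtain ⟨U, u, h, sqU⟩ := exists_pullback_yon (a₀ ≫ f) b hb1.rep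
  have PX0 : IsPullback (pullback.fst f b) (pullback.snd f b) f ((yon S).map (𝟙 V) ≫ b) := by
    rw [CategoryTheory.Functor.map_id, Category.id_comp]
    exact IsPullback.of_hasPullback _ _
  obtain ⟨φ, hφ1, hφ2, hφ3, -⟩ := exists_chart_of_baseChange f a₀ ha1 ha2 b u h sqU (𝟙 V) (𝟙 U) h
    IsPullback.of_id_fst _ _ PX0
  refine Groth.Agent.H50.locP_of_source_chart hsrc _ _ φ hφ1 hφ2 ?_
  rw [hφ3]
  refine locP_yon_map_of P hE _ ?_
  -- now a statement about the morphism of schemes `h`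
  rw [IsZariskiLocalAtTarget.iff_of_openCover (P := P) V.left.affineCover]
  intro α
  have hZ : IsAffine (overOf V (V.left.affineCover.f α)).left :=
    Scheme.isAffine_affineCover V.left α
  obtain ⟨m, W, c, hW, hc, hs, hl⟩ :=
    hcov.2 _ hZ ((yon S).map (overHom V (V.left.affineCover.f α)) ≫ b)
  have : IsAffine ((V.left.affineCover).X α) := hZ
  have : ∀ j, IsAffine ((fun j => (W j).left) j) := hW
  have : ∀ j, Flat ((fun j => (c j).left) j) := hc
  refine prop_of_fpqc_family P _ (fun j => (W j).left) (fun j => (c j).left) hs fun j => ?_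
  obtain ⟨i, l, hli⟩ := hl j
  have PB := IsPullback.of_hasPullback h (c j ≫ overHom V (V.left.affineCover.f α))
  have PB' := PB.map (Over.forget S)
  -- the pullback square over the affine open
  have hcomm : (pullback.fst h (c j ≫ overHom V (V.left.affineCover.f α))).left ≫ h.left =
      ((pullback.snd h (c j ≫ overHom V (V.left.affineCover.f α))).left ≫ (c j).left) ≫
        V.left.affineCover.f α := by
    rw [Category.assoc]; exact PB'.w
  obtain ⟨a, ha_1, ha_2⟩ : ∃ a, a ≫ pullback.fst h.left (V.left.affineCover.f α) =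
      (pullback.fst h (c j ≫ overHom V (V.left.affineCover.f α))).left ∧
      a ≫ pullback.snd h.left (V.left.affineCover.f α) =
        (pullback.snd h (c j ≫ overHom V (V.left.affineCover.f α))).left ≫ (c j).left :=
    ⟨pullback.lift _ _ hcomm, pullback.lift_fst _ _ _, pullback.lift_snd _ _ _⟩
  have sqA : IsPullback a (pullback.snd h (c j ≫ overHom V (V.left.affineCover.f α))).left
      (pullback.snd h.left (V.left.affineCover.f α)) (c j).left := by
    refine IsPullback.of_right ?_ ha_2 (IsPullback.of_hasPullback h.left (V.left.affineCover.f α))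
    rw [ha_1]
    exact PB'
  refine ⟨_, a, _, sqA, ?_⟩
  -- `P` for the projection, from the base change of `p i`
  have hLoc : LocP P (pullback.snd (p i) l) :=
    locP_of_isPullback P hE hsrc (hXi i) (hYi i) (IsAlgSpace.yon_obj (W j))
      (IsPullback.of_hasPullback (p i) l) (H i)
  have PXj : IsPullback (pullback.fst (p i) l ≫ q i) (pullback.snd (p i) l) f
      ((yon S).map (c j ≫ overHom V (V.left.affineCover.f α)) ≫ b) := by
    have := (IsPullback.of_hasPullback (p i) l).paste_horiz (sq i)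
    rwa [hli, ← Category.assoc, ← Functor.map_comp] at this
  obtain ⟨ψ, hψ1, -, hψ3, -⟩ := exists_chart_of_baseChange f a₀ ha1 ha2 b u h sqU
    (c j ≫ overHom V (V.left.affineCover.f α)) _ _ PB _ _ PXj
  exact hLoc ψ (𝟙 _) _ hψ1 (repWith_id _ _) (by rw [hψ3, Category.comp_id])


/-- `LocP P` is fpqc local on the base, for `P` containing etale morphisms, stable under
composition and base change, etale local on the source and satisfying fpqc descent. -/
theorem isLocalOnBase_fpqc_locP (P : MorphismProperty Scheme.{u}) [IsZariskiLocalAtTarget P]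
    [P.DescendsAlong (@Surjective ⊓ @Flat ⊓ @QuasiCompact)] [P.IsStableUnderBaseChange]
    [P.IsStableUnderComposition] (hE : @Etale ≤ P) (hsrc : Groth.Agent.H50.EtLocSrc P) :
    IsLocalOnBase (IsFpqcCover (S := S)) (LocP P) := by
  intro ι Y Yi g hY hYi hcov X f hX Xi p q hXi sq
  constructor
  · intro hf i
    exact locP_of_isPullback P hE hsrc hX hY (hYi i) (sq i) hf
  · intro H
    exact locP_of_fpqc_cover P hE hsrc Yi g hY hYi hcov f hX Xi p q hXi sq H

end Groth.Agent.H53
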