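import Groth.Agent.H50.AffineLocal2
import Mathlib.AlgebraicGeometry.QuasiAffine

/-! Quasi-affine morphisms of sheaves: basic permanence. -/

set_option autoImplicit false
universe u

open CategoryTheory CategoryTheory.Limits AlgebraicGeometry
open AlgSp

namespace Groth.Agent.H53

variable {S : Scheme.{u}}

theorem compactSpace_sigma {σ : Type u} [Finite σ] (g : σ → Scheme.{u})
    [∀ i, CompactSpace (g i)] : CompactSpace ↥(∐ g) := by
  constructor
  have : (Set.univ : Set ↥(∐ g)) = ⋃ i, Set.range (Sigma.ι g i) := by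
    symm
    rw [Set.eq_univ_iff_forall]
    intro x
    obtain ⟨i, y, hy⟩ := (sigmaOpenCover g).exists_eq x
    exact Set.mem_iUnion.2 ⟨i, y, hy⟩
  rw [this]
  exact isCompact_iUnion fun i => isCompact_range (Sigma.ι g i).continuous

/-- A finite coproduct of quasi-affine schemes is quasi-affine. -/
theorem isQuasiAffine_sigma {σ : Type u} [Finite σ] (g : σ → Scheme.{u})
    [∀ i, (g i).IsQuasiAffine] : (∐ g).IsQuasiAffine := by
  have := compactSpace_sigma g
  let α : ∀ i, g i ⟶ ∐ fun i => Spec Γ(g i, ⊤) := fun i =>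
    (g i).toSpecΓ ≫ Sigma.ι (fun i => Spec Γ(g i, ⊤)) i
  have : IsOpenImmersion (Sigma.desc α) := by
    refine isOpenImmersion_sigmaDesc g α (fun i j hij => ?_)
    have h1 := disjoint_opensRange_sigmaι (fun i => Spec Γ(g i, ⊤)) i j hij
    rw [← TopologicalSpace.Opens.coe_disjoint] at h1
    refine Set.disjoint_of_subset ?_ ?_ h1
    · rintro _ ⟨x, rfl⟩
      exact ⟨(g i).toSpecΓ x, rfl⟩
    · rintro _ ⟨x, rfl⟩
      exact ⟨(g j).toSpecΓ x, rfl⟩
  exact Scheme.IsQuasiAffine.of_isImmersion (Sigma.desc α)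

theorem isQuasiAffineMor_of_isPullback {F G F' G' : Sp S} {f : F ⟶ G} {g : G' ⟶ G}
    {fst : F' ⟶ F} {snd : F' ⟶ G'} (sq : IsPullback fst snd f g) (hf : IsQuasiAffineMor f) :
    IsQuasiAffineMor snd := by
  intro Z hZ h
  obtain ⟨W, i, a, sqW, hW⟩ := hf hZ (h ≫ g)
  obtain ⟨a', h1, h2⟩ := sq.exists_lift a ((yon S).map i ≫ h) (by rw [sqW.w, Category.assoc])
  refine ⟨W, i, a', ?_, hW⟩
  exact IsPullback.of_right (by rw [h1]; exact sqW) h2 sq

/-- `IsQuasiAffineMor` is invariant under isomorphisms of the source. -/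
theorem isQuasiAffineMor_of_iso_comp {F F' G : Sp S} (e : F' ≅ F) {f : F ⟶ G}
    (hf : IsQuasiAffineMor f) : IsQuasiAffineMor (e.hom ≫ f) := by
  intro Z hZ g
  obtain ⟨W, i, fst, sq, hW⟩ := hf hZ g
  refine ⟨W, i, fst ≫ e.inv, ?_, hW⟩
  exact IsPullback.of_iso sq (Iso.refl _) e.symm (Iso.refl _) (Iso.refl _) (by simp) (by simp)
    (by simp) (by simp)

/-- A morphism from a quasi-affine scheme to an affine scheme is a quasi-affine morphism of
sheaves. -/
theorem isQuasiAffineMor_yon_map_of {W V : Over S} (m : W ⟶ V) (hW : W.left.IsQuasiAffine)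
    (hV : IsAffine V.left) : IsQuasiAffineMor ((yon S).map m) := by
  intro Z hZ h
  obtain ⟨h₀, rfl⟩ := (yon S).map_surjective h
  have : IsAffine Z.left := hZ
  have h1 : RepWith @IsAffineHom ((yon S).map h₀) :=
    (repWith_yon_map_iff @IsAffineHom h₀).2 (inferInstanceAs (IsAffineHom h₀.left))
  have sq := h1.rep.isPullback ((yon S).map m)
  have haff : IsAffineHom (h1.rep.snd ((yon S).map m)).left := h1.property_snd _
  have hq : (h1.rep.pullback ((yon S).map m)).left.IsQuasiAffine :=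
    Scheme.IsQuasiAffine.of_isAffineHom (h1.rep.snd ((yon S).map m)).left
  refine ⟨h1.rep.pullback ((yon S).map m), (yon S).preimage (h1.rep.fst ((yon S).map m)),
    (yon S).map (h1.rep.snd ((yon S).map m)), ?_, hq⟩
  rw [(yon S).map_preimage]
  exact sq.flip

/-- A sheaf representable by a quasi-affine scheme is quasi-affine over any affine scheme. -/
theorem isQuasiAffineMor_of_iso_yon {P : Sp S} {W V : Over S} (e : (yon S).obj W ≅ P)
    (snd : P ⟶ (yon S).obj V) (hW : W.left.IsQuasiAffine) (hV : IsAffine V.left) :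
    IsQuasiAffineMor snd := by
  obtain ⟨m, hm⟩ := (yon S).map_surjective (e.hom ≫ snd)
  have h1 : IsQuasiAffineMor ((yon S).map m) := isQuasiAffineMor_yon_map_of m hW hV
  have h2 := isQuasiAffineMor_of_iso_comp e.symm h1
  rwa [hm, Iso.symm_hom, Iso.inv_hom_id_assoc] at h2

end Groth.Agent.H53
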