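import Groth.Prelude.Def_AlgSpInf

set_option autoImplicit false
universe u
open CategoryTheory CategoryTheory.Limits AlgebraicGeometry
open AlgSp

namespace Groth.Agent.H53

variable {S : Scheme.{u}}

/-- `Spec A` over `S`. -/
noncomputable abbrev bigPt {A : Type u} [CommRing A] (str : Spec (.of A) ⟶ S) : Over S := Over.mk str

/-- `Spec (A ⧸ I)` over `S`. -/
noncomputable abbrev smallPt {A : Type u} [CommRing A] (I : Ideal A) (str : Spec (.of A) ⟶ S) : Over S :=
  Over.mk (Spec.map (CommRingCat.ofHom (Ideal.Quotient.mk I)) ≫ str)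

/-- The closed immersion `Spec (A ⧸ I) ⟶ Spec A` over `S`. -/
noncomputable abbrev thickJ {A : Type u} [CommRing A] (I : Ideal A) (str : Spec (.of A) ⟶ S) :
    smallPt I str ⟶ bigPt str :=
  Over.homMk (Spec.map (CommRingCat.ofHom (Ideal.Quotient.mk I))) rfl

theorem formallySmooth_iff {F G : AlgSp.Sp S} (f : F ⟶ G) :
    IsFormallySmoothMor f ↔ ∀ (A : Type u) [CommRing A] (I : Ideal A) (_ : I ^ 2 = ⊥)
      (str : Spec (.of A) ⟶ S) (top : (yon S).obj (smallPt I str) ⟶ F)
      (bot : (yon S).obj (bigPt str) ⟶ G), top ≫ f = (yon S).map (thickJ I str) ≫ bot →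
      ∃ l : (yon S).obj (bigPt str) ⟶ F, (yon S).map (thickJ I str) ≫ l = top ∧ l ≫ f = bot :=
  ⟨fun h A _ I hI str top bot comm => h ⟨A, I, hI, str, top, bot, comm⟩,
    fun h sq => h sq.A sq.I sq.sq_zero sq.str sq.top sq.bot sq.comm⟩

theorem formallyUnramified_iff {F G : AlgSp.Sp S} (f : F ⟶ G) :
    IsFormallyUnramifiedMor f ↔ ∀ (A : Type u) [CommRing A] (I : Ideal A) (_ : I ^ 2 = ⊥)
      (str : Spec (.of A) ⟶ S) (top : (yon S).obj (smallPt I str) ⟶ F)
      (bot : (yon S).obj (bigPt str) ⟶ G), top ≫ f = (yon S).map (thickJ I str) ≫ bot →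
      ∀ l l' : (yon S).obj (bigPt str) ⟶ F, (yon S).map (thickJ I str) ≫ l = top → l ≫ f = bot →
        (yon S).map (thickJ I str) ≫ l' = top → l' ≫ f = bot → l = l' :=
  ⟨fun h A _ I hI str top bot comm => h ⟨A, I, hI, str, top, bot, comm⟩,
    fun h sq => h sq.A sq.I sq.sq_zero sq.str sq.top sq.bot sq.comm⟩

theorem formallyEtale_iff' {F G : AlgSp.Sp S} (f : F ⟶ G) :
    IsFormallyEtaleMor f ↔ ∀ (A : Type u) [CommRing A] (I : Ideal A) (_ : I ^ 2 = ⊥)
      (str : Spec (.of A) ⟶ S) (top : (yon S).obj (smallPt I str) ⟶ F)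
      (bot : (yon S).obj (bigPt str) ⟶ G), top ≫ f = (yon S).map (thickJ I str) ≫ bot →
      ∃! l : (yon S).obj (bigPt str) ⟶ F, (yon S).map (thickJ I str) ≫ l = top ∧ l ≫ f = bot :=
  ⟨fun h A _ I hI str top bot comm => h ⟨A, I, hI, str, top, bot, comm⟩,
    fun h sq => h sq.A sq.I sq.sq_zero sq.str sq.top sq.bot sq.comm⟩

theorem formallyEtale_iff {F G : AlgSp.Sp S} (f : F ⟶ G) :
    IsFormallyEtaleMor f ↔ IsFormallySmoothMor f ∧ IsFormallyUnramifiedMor f := by
  rw [formallyEtale_iff', formallySmooth_iff, formallyUnramified_iff]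
  constructor
  · intro h
    refine ⟨fun A _ I hI str top bot comm => ?_, fun A _ I hI str top bot comm => ?_⟩
    · obtain ⟨l, hl, -⟩ := h A I hI str top bot comm
      exact ⟨l, hl⟩
    · obtain ⟨l, -, hu⟩ := h A I hI str top bot comm
      intro l₁ l₂ h1 h2 h3 h4
      rw [hu l₁ ⟨h1, h2⟩, hu l₂ ⟨h3, h4⟩]
  · rintro ⟨h1, h2⟩ A _ I hI str top bot comm
    obtain ⟨l, hl⟩ := h1 A I hI str top bot comm
    exact ⟨l, hl, fun l' hl' => h2 A I hI str top bot comm l' l hl'.1 hl'.2 hl.1 hl.2⟩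

theorem formallySmooth_comp {F G H : AlgSp.Sp S} {a : F ⟶ G} {b : G ⟶ H}
    (ha : IsFormallySmoothMor a) (hb : IsFormallySmoothMor b) : IsFormallySmoothMor (a ≫ b) := by
  rw [formallySmooth_iff] at *
  intro A _ I hI str top bot comm
  obtain ⟨l', h1, h2⟩ := hb A I hI str (top ≫ a) bot (by simpa using comm)
  obtain ⟨l, h3, h4⟩ := ha A I hI str top l' h1.symm
  exact ⟨l, h3, by rw [← Category.assoc, h4]; exact h2⟩

theorem formallyUnramified_comp {F G H : AlgSp.Sp S} {a : F ⟶ G} {b : G ⟶ H}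
    (ha : IsFormallyUnramifiedMor a) (hb : IsFormallyUnramifiedMor b) :
    IsFormallyUnramifiedMor (a ≫ b) := by
  rw [formallyUnramified_iff] at *
  intro A _ I hI str top bot comm l l' h1 h2 h3 h4
  have e : l ≫ a = l' ≫ a :=
    hb A I hI str (top ≫ a) bot (by simpa using comm) (l ≫ a) (l' ≫ a)
      (by rw [← Category.assoc, h1]) (by simpa using h2)
      (by rw [← Category.assoc, h3]) (by simpa using h4)
  exact ha A I hI str top (l ≫ a) (by rw [← Category.assoc, h1]) l l' h1 rfl h3 e.symm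

theorem formallyEtale_comp {F G H : AlgSp.Sp S} {a : F ⟶ G} {b : G ⟶ H}
    (ha : IsFormallyEtaleMor a) (hb : IsFormallyEtaleMor b) : IsFormallyEtaleMor (a ≫ b) := by
  rw [formallyEtale_iff] at *
  exact ⟨formallySmooth_comp ha.1 hb.1, formallyUnramified_comp ha.2 hb.2⟩

/-- Permanence: if `b` is formally unramified and `a ≫ b` is formally unramified, so is `a`. -/
theorem formallyUnramified_of_comp {F G H : AlgSp.Sp S} {a : F ⟶ G} {b : G ⟶ H}
    (hab : IsFormallyUnramifiedMor (a ≫ b)) : IsFormallyUnramifiedMor a := by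
  rw [formallyUnramified_iff] at *
  intro A _ I hI str top bot comm l l' h1 h2 h3 h4
  exact hab A I hI str top (bot ≫ b) (by rw [← Category.assoc, comm, Category.assoc]) l l' h1
    (by rw [← Category.assoc, h2]) h3 (by rw [← Category.assoc, h4])

theorem formallySmooth_of_comp {F G H : AlgSp.Sp S} {a : F ⟶ G} {b : G ⟶ H}
    (hb : IsFormallyUnramifiedMor b) (hab : IsFormallySmoothMor (a ≫ b)) :
    IsFormallySmoothMor a := by
  rw [formallySmooth_iff] at *
  rw [formallyUnramified_iff] at hb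
  intro A _ I hI str top bot comm
  have comm' : top ≫ a ≫ b = (yon S).map (thickJ I str) ≫ bot ≫ b := by
    rw [← Category.assoc, comm, Category.assoc]
  obtain ⟨l, h1, h2⟩ := hab A I hI str top (bot ≫ b) comm'
  refine ⟨l, h1, ?_⟩
  exact hb A I hI str (top ≫ a) (bot ≫ b) (by simpa using comm') (l ≫ a) bot
    (by rw [← Category.assoc, h1]) (by simpa using h2) comm.symm rfl

theorem formallyEtale_of_comp {F G H : AlgSp.Sp S} {a : F ⟶ G} {b : G ⟶ H}
    (hb : IsFormallyUnramifiedMor b) (hab : IsFormallyEtaleMor (a ≫ b)) :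
    IsFormallyEtaleMor a := by
  rw [formallyEtale_iff] at *
  exact ⟨formallySmooth_of_comp hb hab.1, formallyUnramified_of_comp hab.2⟩

/-- Base change. -/
theorem formallySmooth_of_isPullback {F G H P : AlgSp.Sp S} {a : F ⟶ G} {b : H ⟶ G}
    {b' : P ⟶ F} {a' : P ⟶ H} (hP : IsPullback b' a' a b) (ha : IsFormallySmoothMor a) :
    IsFormallySmoothMor a' := by
  rw [formallySmooth_iff] at *
  intro A _ I hI str top bot comm
  obtain ⟨l, h1, h2⟩ := ha A I hI str (top ≫ b') (bot ≫ b)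
    (by rw [Category.assoc, hP.w, ← Category.assoc, comm, Category.assoc])
  refine ⟨hP.lift l bot h2, ?_, hP.lift_snd _ _ _⟩
  apply hP.hom_ext
  · rw [Category.assoc, hP.lift_fst, h1]
  · rw [Category.assoc, hP.lift_snd, comm]

theorem formallyUnramified_of_isPullback {F G H P : AlgSp.Sp S} {a : F ⟶ G} {b : H ⟶ G}
    {b' : P ⟶ F} {a' : P ⟶ H} (hP : IsPullback b' a' a b) (ha : IsFormallyUnramifiedMor a) :
    IsFormallyUnramifiedMor a' := by
  rw [formallyUnramified_iff] at *
  intro A _ I hI str top bot comm l l' h1 h2 h3 h4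
  apply hP.hom_ext
  · refine ha A I hI str (top ≫ b') (bot ≫ b)
      (by rw [Category.assoc, hP.w, ← Category.assoc, comm, Category.assoc]) (l ≫ b') (l' ≫ b')
      (by rw [← Category.assoc, h1]) ?_ (by rw [← Category.assoc, h3]) ?_
    · rw [Category.assoc, hP.w, ← Category.assoc, h2]
    · rw [Category.assoc, hP.w, ← Category.assoc, h4]
  · rw [h2, h4]

theorem formallyEtale_of_isPullback {F G H P : AlgSp.Sp S} {a : F ⟶ G} {b : H ⟶ G}
    {b' : P ⟶ F} {a' : P ⟶ H} (hP : IsPullback b' a' a b) (ha : IsFormallyEtaleMor a) :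
    IsFormallyEtaleMor a' := by
  rw [formallyEtale_iff] at *
  exact ⟨formallySmooth_of_isPullback hP ha.1, formallyUnramified_of_isPullback hP ha.2⟩

end Groth.Agent.H53
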