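import Groth.Agent.H53.SqZero
import Groth.Agent.H53.Inf

universe u
open CategoryTheory CategoryTheory.Limits AlgebraicGeometry Opposite AlgSp

namespace Groth.Agent.H53

variable {S : Scheme.{u}}

set_option backward.isDefEq.respectTransparency false in
/-- `Spec.map φ` has square-zero kernel when `ker φ ^ 2 = ⊥` (and `φ` is surjective). -/
theorem sqZero_specMap {R R' : CommRingCat.{u}} (φ : R ⟶ R') (hφ : Function.Surjective φ)
    (hI : RingHom.ker φ.hom ^ 2 = ⊥) : sqZero (Spec.map φ) := by
  change _ * _ = ⊥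
  apply Scheme.IdealSheafData.ext_of_isAffine
  set t := Spec.map φ with ht
  have : IsClosedImmersion t := IsClosedImmersion.spec_of_surjective _ hφ
  have h1 : t.ker.ideal ⟨⊤, isAffineOpen_top _⟩ = RingHom.ker t.appTop.hom :=
    t.ker_apply ⟨⊤, isAffineOpen_top _⟩
  have h2 : (t.ker * t.ker).ideal ⟨⊤, isAffineOpen_top _⟩ =
      t.ker.ideal ⟨⊤, isAffineOpen_top _⟩ * t.ker.ideal ⟨⊤, isAffineOpen_top _⟩ := rfl
  rw [h2, h1]
  change _ = ⊥
  rw [eq_bot_iff, Ideal.mul_le]
  intro x hx y hy
  have hnat := Scheme.ΓSpecIso_naturality φ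
  have hx' : (Scheme.ΓSpecIso R).hom x ∈ RingHom.ker φ.hom := by
    rw [RingHom.mem_ker]
    have := congr(($hnat).hom x)
    simp only [CommRingCat.hom_comp, RingHom.comp_apply] at this
    rw [← ht, RingHom.mem_ker.mp hx, map_zero] at this
    exact this.symm
  have hy' : (Scheme.ΓSpecIso R).hom y ∈ RingHom.ker φ.hom := by
    rw [RingHom.mem_ker]
    have := congr(($hnat).hom y)
    simp only [CommRingCat.hom_comp, RingHom.comp_apply] at this
    rw [← ht, RingHom.mem_ker.mp hy, map_zero] at this
    exact this.symm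
  have hxy : (Scheme.ΓSpecIso R).hom (x * y) = 0 := by
    rw [map_mul]
    have : (Scheme.ΓSpecIso R).hom x * (Scheme.ΓSpecIso R).hom y ∈ RingHom.ker φ.hom ^ 2 := by
      rw [pow_two]; exact Ideal.mul_mem_mul hx' hy'
    rwa [hI, Ideal.mem_bot] at this
  rw [Ideal.mem_bot]
  have hinj : Function.Injective (Scheme.ΓSpecIso R).hom :=
    (ConcreteCategory.bijective_of_isIso (Scheme.ΓSpecIso R).hom).1
  exact hinj (by rw [hxy, map_zero])

/-- A formally unramified morphism of schemes (Mathlib's class) gives a formally unramified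
morphism of representable sheaves. -/
theorem isFormallyUnramifiedMor_yon_map {U V : Over S} (h : U ⟶ V) (hh : FormallyUnramified h.left) :
    IsFormallyUnramifiedMor ((yon S).map h) := by
  intro sq l l' h1 h2 h3 h4
  obtain ⟨l₀, rfl⟩ := (yon S).map_surjective l
  obtain ⟨l₀', rfl⟩ := (yon S).map_surjective l'
  congr 1
  have e1 : sq.j ≫ l₀ = sq.j ≫ l₀' :=
    (yon S).map_injective (by rw [Functor.map_comp, Functor.map_comp, h1, h3])
  have e2 : l₀ ≫ h = l₀' ≫ h :=
    (yon S).map_injective (by rw [Functor.map_comp, Functor.map_comp, h2, h4])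
  have : IsClosedImmersion (Spec.map (CommRingCat.ofHom (Ideal.Quotient.mk sq.I))) :=
    IsClosedImmersion.spec_of_surjective _ Ideal.Quotient.mk_surjective
  ext
  exact FormallyUnramified.hom_ext (Spec.map (CommRingCat.ofHom (Ideal.Quotient.mk sq.I)))
    (Groth.Agent.H8.isNilpotent_ker_specMap_quotientMk sq.I sq.sq_zero) h.left
    (congrArg (fun k => k.left) e1) (congrArg (fun k => k.left) e2)

/-- Chart morphisms of a formally unramified morphism of sheaves are formally unramified. -/
theorem locP_formallyUnramified {F G : Sp S} (f : F ⟶ G) (hf : IsFormallyUnramifiedMor f) :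
    LocP @FormallyUnramified f := by
  intro U V a b h ha hb hcomm
  have hau : IsFormallyUnramifiedMor a :=
    isFormallyUnramifiedMor_of_isFormallyEtaleMor (isFormallyEtaleMor_of_repWith_etale a ha)
  refine FormallyUnramified.of_hom_ext h.left fun R R' φ hφ hker g₁ g₂ e1 e2 => ?_
  have hg₂ : g₂ ≫ U.hom = g₁ ≫ U.hom := by
    rw [← Over.w h, ← Category.assoc, ← Category.assoc, e2]
  let Z : Over S := Over.mk (g₁ ≫ U.hom)
  let W : Over S := Over.mk (Spec.map φ ≫ g₁ ≫ U.hom)
  let i : W ⟶ Z := Over.homMk (Spec.map φ) rfl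
  let G₁ : Z ⟶ U := Over.homMk g₁ rfl
  let G₂ : Z ⟶ U := Over.homMk g₂ hg₂
  have hi1 : i ≫ G₂ = i ≫ G₁ := by
    ext
    exact e1.symm
  have hi2 : G₂ ≫ h = G₁ ≫ h := by
    ext
    exact e2.symm
  have hZ : IsAffine Z.left := by dsimp [Z]; infer_instance
  have hci : IsClosedImmersion i.left := IsClosedImmersion.spec_of_surjective _ hφ
  have hsq : i.left.ker * i.left.ker = ⊥ := sqZero_specMap φ hφ hker
  have key1 : (yon S).map G₁ ≫ a = (yon S).map G₂ ≫ a :=
    lift_unique_of_formallyUnramified f hf i hZ hci hsq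
      ((yon S).map i ≫ (yon S).map G₁ ≫ a) (((yon S).map G₁ ≫ a) ≫ f) _ _ rfl rfl
      (by rw [← Category.assoc, ← Functor.map_comp, hi1, Functor.map_comp, Category.assoc])
      (by rw [Category.assoc, Category.assoc, hcomm, ← Category.assoc, ← Category.assoc,
        ← Functor.map_comp, ← Functor.map_comp, hi2])
  have key2 : (yon S).map G₁ = (yon S).map G₂ :=
    lift_unique_of_formallyUnramified a hau i hZ hci hsq
      ((yon S).map i ≫ (yon S).map G₁) ((yon S).map G₁ ≫ a) _ _ rfl rfl
      (by rw [← Functor.map_comp, hi1, Functor.map_comp]) key1.symm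
  exact congrArg (fun k => k.left) ((yon S).map_injective key2)

/-- One diagram of surjective etale charts with formally unramified chart morphism suffices. -/
theorem isFormallyUnramifiedMor_of_chart {F G : Sp S} (f : F ⟶ G) {U V : Over S}
    (a : (yon S).obj U ⟶ F) (b : (yon S).obj V ⟶ G) (h : U ⟶ V)
    (ha : RepWith @Etale a) (ha' : RepWith @Surjective a) (hb : RepWith @Etale b)
    (hcomm : a ≫ f = (yon S).map h ≫ b) (hh : FormallyUnramified h.left) :
    IsFormallyUnramifiedMor f := by
  refine isFormallyUnramifiedMor_of_comp a f ha ha' ?_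
  rw [hcomm]
  exact formallyUnramified_comp (isFormallyUnramifiedMor_yon_map h hh)
    (isFormallyUnramifiedMor_of_isFormallyEtaleMor (isFormallyEtaleMor_of_repWith_etale b hb))

end Groth.Agent.H53
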