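import Groth.Agent.H53.EtaleCover
import Groth.Agent.H53.Glue
import Groth.Agent.H53.Charts
import Mathlib.AlgebraicGeometry.Morphisms.LocalFlatDescent

universe u
open CategoryTheory CategoryTheory.Limits AlgebraicGeometry Opposite AlgSp

namespace Groth.Agent.H53

variable {S : Scheme.{u}}

/-- Pullback squares can be postcomposed with a monomorphism. -/
theorem isPullback_comp_mono {C : Type*} [Category C] {P A B T D : C} {fst : P ⟶ A} {snd : P ⟶ T}
    {d : A ⟶ B} {g : T ⟶ B} (ι : B ⟶ D) [Mono ι] (h : IsPullback fst snd d g) :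
    IsPullback fst snd (d ≫ ι) (g ≫ ι) := by
  refine ⟨⟨by rw [← Category.assoc, h.w, Category.assoc]⟩, ⟨PullbackCone.IsLimit.mk _
    (fun s => h.lift s.fst s.snd (by
      rw [← cancel_mono ι, Category.assoc, Category.assoc]; exact s.condition))
    (fun s => h.lift_fst _ _ _) (fun s => h.lift_snd _ _ _)
    (fun s m h1 h2 => h.hom_ext (by rw [h1, h.lift_fst]) (by rw [h2, h.lift_snd]))⟩⟩

/-- A representable surjective map is surjective on points. -/
theorem points_surjective_of_repWith_surjective {F : Sp S} {U : Over S} (p : (yon S).obj U ⟶ F)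
    (hp : RepWith @Surjective p) : Function.Surjective (Points.map p) := by
  intro x
  obtain ⟨u, hu⟩ := exists_ofPt_eq_of_repWith_surjective p hp x
  refine ⟨Points.ofScheme U u, ?_⟩
  rw [← Points.ofPt_eq_map_ofScheme]
  exact hu

/-- For a quasi-compact, flat, surjective monomorphism `f : X ⟶ Y` of sheaves (with `X`, `Y`
algebraic spaces), every affine etale chart of `Y` lifts to `X` after an etale surjective base
change. -/
theorem exists_etale_surjective_lift_of_mono {X Y : Sp S} (f : X ⟶ Y) [Mono f]
    (hqc : IsQuasiCompactMor f) (hflat : LocP @Flat f) (hsurj : IsSurjectiveMor f)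
    {Z : Over S} (hZ : IsAffine Z.left) (β : (yon S).obj Z ⟶ Y) (hβ : RepWith @Etale β) :
    ∃ (U : Over S) (h : U ⟶ Z) (a : (yon S).obj U ⟶ X), Etale h.left ∧ Surjective h.left ∧
      a ≫ f = (yon S).map h ≫ β := by
  have sq : IsPullback (pullback.fst f β) (pullback.snd f β) f β := IsPullback.of_hasPullback f β
  have hZqc : IsQuasiCompactSp ((yon S).obj Z) :=
    ⟨Z, 𝟙 _, repWith_id _ Z, repWith_id _ Z, inferInstance⟩
  obtain ⟨U, p, hp1, hp2, hU⟩ := hqc (IsAlgSpace.yon_obj Z) hZqc β _ _ sq
  obtain ⟨h, hh⟩ := (yon S).map_surjective (p ≫ pullback.snd f β)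
  have hfst : RepWith @Etale (pullback.fst f β) := MorphismProperty.of_isPullback sq.flip hβ
  have ha : RepWith @Etale (p ≫ pullback.fst f β) := (RepWith @Etale).comp_mem _ _ hp1 hfst
  have hcomm : (p ≫ pullback.fst f β) ≫ f = (yon S).map h ≫ β := by
    rw [Category.assoc, sq.w, ← Category.assoc, hh]
  have hflat' : Flat h.left := hflat _ β h ha hβ hcomm
  have : CompactSpace ↥U.left := hU
  have hqc' : QuasiCompact h.left := inferInstance
  have hsurj' : Surjective h.left := by
    refine (repWith_yon_map_iff @Surjective h).1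
      (repWith_surjective_of_points_surjective _ (representable_yon_map h) ?_)
    have e : Points.map (p ≫ pullback.snd f β) = Points.map (pullback.snd f β) ∘ Points.map p :=
      funext fun x => Points.map_comp _ _ x
    rw [hh, e]
    refine Function.Surjective.comp ?_ (points_surjective_of_repWith_surjective p hp2)
    intro y
    obtain ⟨x, hx⟩ := hsurj (Points.map β y)
    obtain ⟨z, -, hz⟩ := exists_point_of_isPullback sq x y hx
    exact ⟨z, hz⟩
  -- the kernel pair of `p` is the kernel pair of `h`
  obtain ⟨R, r₁, r₂, sqR⟩ := exists_pullback_yon p p hp1.rep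
  have hr₁ : Etale r₁.left := prop_of_isPullback_yon sqR hp1
  have sqR' : IsPullback ((yon S).map r₁) ((yon S).map r₂) ((yon S).map h) ((yon S).map h) := by
    rw [hh]
    exact isPullback_comp_mono (pullback.snd f β) sqR
  have sqR'' : IsPullback r₁ r₂ h h :=
    IsPullback.of_map (yon S) ((yon S).map_injective (by
      rw [Functor.map_comp, Functor.map_comp]; exact sqR'.w)) sqR'
  have sqS := sqR''.map (Over.forget S)
  have hE : Etale h.left :=
    MorphismProperty.of_isPullback_of_descendsAlong (P := @Etale)
      (Q := @Surjective ⊓ @Flat ⊓ @QuasiCompact) sqS ⟨⟨hsurj', hflat'⟩, hqc'⟩ hr₁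
  exact ⟨U, h, p ≫ pullback.fst f β, hE, hsurj', hcomm⟩

/-- A monomorphism of sheaves into an algebraic space which is quasi-compact, flat (on charts) and
surjective (on points) is an isomorphism. -/
theorem isIso_of_mono_of_qc_flat_surjective {X Y : Sp S} (hY : IsAlgSpace Y) (f : X ⟶ Y) [Mono f]
    (hqc : IsQuasiCompactMor f) (hflat : LocP @Flat f) (hsurj : IsSurjectiveMor f) : IsIso f := by
  have : Epi f := by
    refine epi_of_local_lift f fun T t => ?_
    obtain ⟨V, b, hb1, hb2⟩ := hY.atlas
    have : Epi b := epi_of_repWith_etale_surjective b hb1 hb2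
    obtain ⟨R, hR, hlift⟩ := cover_of_atlas b V.left.affineCover T t
    let R' : Sieve T :=
      { arrows := fun W w => ∃ l : (yon S).obj W ⟶ X, l ≫ f = (yon S).map w ≫ t
        downward_closed := by
          rintro W W' w ⟨l, hl⟩ w'
          exact ⟨(yon S).map w' ≫ l, by rw [Category.assoc, hl, Functor.map_comp, Category.assoc]⟩ }
    refine ⟨R', (J S).transitive hR R' fun W w hw => ?_, fun W w hw => hw⟩
    obtain ⟨i, g, hg⟩ := hlift w hw
    obtain ⟨U, h, a, hE, hS, hcomm⟩ := exists_etale_surjective_lift_of_mono f hqc hflat hsurj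
      (Scheme.isAffine_affineCover V.left i)
      ((yon S).map (overHom V (V.left.affineCover.f i)) ≫ b)
      (repWith_etale_map_comp _ (by change Etale (V.left.affineCover.f i); infer_instance) b hb1)
    have sqW := (IsPullback.of_hasPullback g h).map (Over.forget S)
    have he1 : Etale (pullback.fst g h).left := MorphismProperty.of_isPullback sqW.flip hE
    have he2 : Surjective (pullback.fst g h).left := MorphismProperty.of_isPullback sqW.flip hS
    refine (J S).superset_covering ?_ (sieve_mem_J_of_fppf (pullback.fst g h) inferInstance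
      inferInstance he2)
    rw [Sieve.generate_le_iff]
    rintro _ _ ⟨⟩
    refine ⟨(yon S).map (pullback.snd g h) ≫ a, ?_⟩
    rw [Category.assoc, hcomm, ← Category.assoc, ← Functor.map_comp, ← pullback.condition,
      Functor.map_comp, Category.assoc, hg, ← Category.assoc, ← Functor.map_comp]
  exact sp_isIso_of_mono_of_epi f

end Groth.Agent.H53
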