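import Groth.Agent.H53.LargestOpen
import Groth.Agent.H53.LocSource

/-! The three covering notions (fppf, smooth, etale) are good for the "largest open" argument. -/

universe u

open CategoryTheory CategoryTheory.Limits AlgebraicGeometry TopologicalSpace
open AlgSp

namespace Groth.Agent.H53

variable {S : Scheme.{u}}

theorem locP_mono {P P' : MorphismProperty Scheme.{u}} (h : P ≤ P') {F G : Sp S} (f : F ⟶ G)
    (hf : LocP P f) : LocP P' f :=
  fun _ _ a b k ha hb hc => h _ (hf a b k ha hb hc)

theorem isEtaleMor_of_isOpenImmersion {F G : Sp S} (j : F ⟶ G)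
    (hj : RepWith @IsOpenImmersion j) : IsEtaleMor j := fun _ φ hφ =>
  (RepWith @Etale).comp_mem _ _ hφ (repWith_mono (fun _ _ e he => by
    have : IsOpenImmersion e := he
    exact (inferInstance : Etale e)) j hj)

theorem smooth_le_flat : (@Smooth : MorphismProperty Scheme.{u}) ≤ @Flat := by
  intro A B e he
  have : Smooth e := he
  exact (inferInstance : Flat e)

theorem smooth_le_lfp :
    (@Smooth : MorphismProperty Scheme.{u}) ≤ @LocallyOfFinitePresentation := by
  intro A B e he
  have : Smooth e := he
  exact (inferInstance : LocallyOfFinitePresentation e)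

theorem goodCov_smooth : GoodCov (S := S) (LocP @Smooth) where
  ofOpen _ _ j hj := locP_smooth_of_isEtaleMor j (isEtaleMor_of_isOpenImmersion j hj)
  isOpen hF hG g hg := isOpenMor_of_fppf hF hG g (locP_mono smooth_le_flat g hg)
    (locP_mono smooth_le_lfp g hg)
  baseChange hX hY hY' := fun sq hf => locP_smooth_of_isPullback hX hY hY' sq hf
  comp _ hG _ j g hj hg := locP_comp (P := @Smooth) (Q := @Smooth)
    (fun k h hk hh => by
      have : Smooth k := hk
      have : Smooth h := hh
      exact (inferInstance : Smooth (k ≫ h)))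
    (fun e h he hs hh => etLocSrc_smooth e h he hs hh) hG j g
    (locP_smooth_of_isEtaleMor j (isEtaleMor_of_isOpenImmersion j hj)) hg

theorem etale_le_flat : (@Etale : MorphismProperty Scheme.{u}) ≤ @Flat := by
  intro A B e he
  have : Etale e := he
  exact (inferInstance : Flat e)

theorem etale_le_lfp :
    (@Etale : MorphismProperty Scheme.{u}) ≤ @LocallyOfFinitePresentation := by
  intro A B e he
  have : Etale e := he
  exact (inferInstance : LocallyOfFinitePresentation e)

theorem goodCov_etale : GoodCov (S := S) IsEtaleMor where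
  ofOpen _ _ j hj := isEtaleMor_of_isOpenImmersion j hj
  isOpen hF hG g hg := isOpenMor_of_fppf hF hG g
    (locP_mono etale_le_flat g (locP_etale_of_isEtaleMor g hg))
    (locP_mono etale_le_lfp g (locP_etale_of_isEtaleMor g hg))
  baseChange hX hY hY' := fun sq hf => isEtaleMor_of_isPullback hX hY hY' sq hf
  comp _ _ _ j g hj hg := fun _ φ hφ => by
    rw [← Category.assoc]
    exact hg _ (isEtaleMor_of_isOpenImmersion j hj φ hφ)

theorem goodCov_fppf : GoodCov (S := S)
    (fun _ _ f => LocP @Flat f ∧ LocP @LocallyOfFinitePresentation f) where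
  ofOpen _ _ j hj :=
    ⟨locP_mono etale_le_flat j (locP_etale_of_isEtaleMor j (isEtaleMor_of_isOpenImmersion j hj)),
      locP_mono etale_le_lfp j (locP_etale_of_isEtaleMor j (isEtaleMor_of_isOpenImmersion j hj))⟩
  isOpen hF hG g hg := isOpenMor_of_fppf hF hG g hg.1 hg.2
  baseChange hX hY hY' := fun sq hf =>
    ⟨locP_flat_of_isPullback hX hY hY' sq hf.1, locP_lfp_of_isPullback hX hY hY' sq hf.2⟩
  comp _ hG _ j g hj hg :=
    ⟨locP_comp (P := @Flat) (Q := @Flat)
      (fun k h hk hh => by
        have : Flat k := hk
        have : Flat h := hh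
        exact (inferInstance : Flat (k ≫ h)))
      (fun e h he hs hh => etLocSrc_flat e h he hs hh) hG j g
      (locP_mono etale_le_flat j (locP_etale_of_isEtaleMor j (isEtaleMor_of_isOpenImmersion j hj)))
      hg.1,
    locP_comp (P := @LocallyOfFinitePresentation) (Q := @LocallyOfFinitePresentation)
      (fun k h hk hh => by
        have : LocallyOfFinitePresentation k := hk
        have : LocallyOfFinitePresentation h := hh
        exact (inferInstance : LocallyOfFinitePresentation (k ≫ h)))
      (fun e h he hs hh => etLocSrc_lfp e h he hs hh) hG j g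
      (locP_mono etale_le_lfp j (locP_etale_of_isEtaleMor j (isEtaleMor_of_isOpenImmersion j hj)))
      hg.2⟩

end Groth.Agent.H53
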