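import Groth.Agent.H53.FibreDimChart

/-! The local dimension of fibres is invariant under base change along (pre)immersions. -/

set_option autoImplicit false
universe u

open CategoryTheory CategoryTheory.Limits AlgebraicGeometry Opposite MorphismProperty

namespace Groth.Agent.H53

theorem isIso_residueFieldMap_of_isPreimmersion {V V' : Scheme.{u}} (j : V ⟶ V')
    [IsPreimmersion j] (v : V) : IsIso (j.residueFieldMap v) := by
  rw [ConcreteCategory.isIso_iff_bijective]
  refine ⟨(j.residueFieldMap v).hom.injective, ?_⟩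
  intro y
  obtain ⟨y', rfl⟩ := IsLocalRing.residue_surjective (R := V.presheaf.stalk v) y
  obtain ⟨z, rfl⟩ := j.stalkMap_surjective v y'
  refine ⟨V'.residue (j v) z, ?_⟩
  exact congrArg (fun t => t.hom z) (Scheme.residue_residueFieldMap j v)

/-- Base change along a preimmersion does not change the local dimension of the fibres. -/
theorem fibreDimAt_eq_of_isPullback_isPreimmersion {U U' V V' : Scheme.{u}} {i : U ⟶ U'}
    {h : U ⟶ V} {h' : U' ⟶ V'} {j : V ⟶ V'} (sq : IsPullback i h h' j) [IsPreimmersion j]
    (u : U) : FlatMor.fibreDimAt h u = FlatMor.fibreDimAt h' (i u) := by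
  have sq' := isPullback_fiberToSpecResidueField_of_isPullback sq (h u)
  set χ : h.fiber (h u) ⟶ h'.fiber (j (h u)) :=
    pullback.map _ _ _ _ i (Spec.map (j.residueFieldMap (h u))) j sq.w.symm (by simp) with hχ
  have hχ1 : χ ≫ h'.fiberι (j (h u)) = h.fiberι (h u) ≫ i := pullback.lift_fst _ _ _
  have : IsIso (j.residueFieldMap (h u)) := isIso_residueFieldMap_of_isPreimmersion j (h u)
  have : IsIso χ := MorphismProperty.of_isPullback (P := MorphismProperty.isomorphisms _) sq'.flip
    (inferInstanceAs (IsIso (Spec.map (j.residueFieldMap (h u)))))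
  have e := Groth.Agent.H51.localDim_eq_of_etale χ (h.asFiber u)
  have hy : h' (i u) = j (h u) := by
    rw [← Scheme.Hom.comp_apply, sq.w, Scheme.Hom.comp_apply]
  have hz : h'.fiberι (j (h u)) (χ (h.asFiber u)) = i u := by
    rw [← Scheme.Hom.comp_apply, hχ1, Scheme.Hom.comp_apply, Scheme.Hom.fiberι_asFiber]
  rw [← localDim_fiber_eq h' (i u) (j (h u)) hy _ hz, ← e]
  rfl

end Groth.Agent.H53
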