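import Groth.Agent.H53.ChartSq
import Groth.Agent.H10.WeaklyEtaleReduced
import Groth.Agent.H47.SmoothReduced

/-! Reducedness ascends along smooth morphisms of schemes. -/

set_option autoImplicit false
universe u

open CategoryTheory CategoryTheory.Limits AlgebraicGeometry Opposite
open AlgSp

namespace Groth.Agent.H53

theorem isReduced_of_smooth_scheme {X Y : Scheme.{u}} (f : X ⟶ Y) [Smooth f]
    [AlgebraicGeometry.IsReduced Y] : AlgebraicGeometry.IsReduced X := by
  apply Groth.Agent.H10.isReduced_of_affine_cover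
  intro x
  obtain ⟨V, hV, hxV, -⟩ := (TopologicalSpace.Opens.isBasis_iff_nbhd.1 Y.isBasis_affineOpens)
    (show f x ∈ (⊤ : Y.Opens) from trivial)
  obtain ⟨U, hU, hxU, hUV⟩ := (TopologicalSpace.Opens.isBasis_iff_nbhd.1 X.isBasis_affineOpens)
    (show x ∈ f ⁻¹ᵁ V from hxV)
  refine ⟨U, hU, hxU, ?_⟩
  let _ := (f.appLE V U hUV).hom.toAlgebra
  have : Algebra.Smooth Γ(Y, V) Γ(X, U) := f.smooth_appLE hV hU hUV
  exact Groth.Agent.H47.isReduced_of_smooth Γ(Y, V) Γ(X, U)

variable {S : Scheme.{u}}

/-- A chart of the source built from a chart square is surjective when the charts are. -/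
theorem repWith_surjective_map_comp {F : Sp S} {U W : Over S} (e : W ⟶ U) (he : Surjective e.left)
    (a : (yon S).obj U ⟶ F) (ha : RepWith @Surjective a) : RepWith @Surjective ((yon S).map e ≫ a) :=
  (RepWith @Surjective).comp_mem _ _ ((repWith_yon_map_iff _ _).2 he) ha

end Groth.Agent.H53
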