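import Groth.Agent.H20.EtaleRegular
import Groth.Agent.Lead.RegularFlatDescent
import Mathlib.AlgebraicGeometry.Morphisms.Flat
import Mathlib.AlgebraicGeometry.Noetherian

/-! Regularity of local rings descends along flat morphisms of schemes. -/

set_option autoImplicit false
universe u

open CategoryTheory CategoryTheory.Limits AlgebraicGeometry Opposite

namespace Groth.Agent.H53

theorem isRegularLocalRing_stalk_of_flat {X Y : Scheme.{u}} (f : X ⟶ Y) [Flat f]
    [IsLocallyNoetherian Y] (x : X) (hx : IsRegularLocalRing (X.presheaf.stalk x)) :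
    IsRegularLocalRing (Y.presheaf.stalk (f x)) := by
  let _ : Algebra (Y.presheaf.stalk (f x)) (X.presheaf.stalk x) := (f.stalkMap x).hom.toAlgebra
  have h1 : IsLocalHom (algebraMap (Y.presheaf.stalk (f x)) (X.presheaf.stalk x)) :=
    f.toLRSHom.prop x
  have h2 : Module.Flat (Y.presheaf.stalk (f x)) (X.presheaf.stalk x) := Flat.stalkMap f x
  exact Groth.Agent.Lead.RLR.isRegularLocalRing_of_flat (Y.presheaf.stalk (f x))
    (X.presheaf.stalk x)

end Groth.Agent.H53
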