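import Mathlib

/-! A flat, formally unramified algebra essentially of finite type is formally etale
(no finite presentation needed). -/

set_option autoImplicit false
universe u

open TensorProduct

namespace Groth.Agent.H53

namespace FlatUnram

variable (A B T : Type u) [CommRing A] [CommRing B] [CommRing T] [Algebra A B] [Algebra A T]
  [Algebra.FormallyUnramified A B] [Algebra.EssFiniteType A B] (φ : B ≃ₐ[A] T)

attribute [local instance] Algebra.TensorProduct.rightAlgebra

/-- The multiplication map `T ⊗ B → T` through `φ`. -/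
noncomputable def nu : T ⊗[A] B →ₐ[T] T :=
  Algebra.TensorProduct.lift (Algebra.ofId T T) φ.toAlgHom (fun _ _ => Commute.all _ _)

/-- The transported separability idempotent. -/
noncomputable def idem : T ⊗[A] B :=
  Algebra.TensorProduct.map φ.toAlgHom (AlgHom.id A B) (Algebra.FormallyUnramified.elem A B)

variable {A B T}

theorem nu_map (c₀ : B ⊗[A] B) :
    nu A B T φ (Algebra.TensorProduct.map φ.toAlgHom (AlgHom.id A B) c₀) =
      φ (Algebra.TensorProduct.lmul' A c₀) := by
  induction c₀ using TensorProduct.induction_on with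
  | zero => simp
  | tmul b b' => simp [nu]
  | add x y hx hy => simp only [map_add, hx, hy]

theorem nu_idem : nu A B T φ (idem A B T φ) = 1 := by
  rw [idem, nu_map, Algebra.FormallyUnramified.lmul_elem, map_one]

theorem mul_idem_of_nu_eq_zero (c : T ⊗[A] B) (hc : nu A B T φ c = 0) : c * idem A B T φ = 0 := by
  obtain ⟨c₀, rfl⟩ : ∃ c₀, Algebra.TensorProduct.map φ.toAlgHom (AlgHom.id A B) c₀ = c := by
    refine ⟨Algebra.TensorProduct.map φ.symm.toAlgHom (AlgHom.id A B) c, ?_⟩
    rw [← AlgHom.comp_apply, ← Algebra.TensorProduct.map_comp]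
    simp
  rw [nu_map] at hc
  have hc₀ : c₀ ∈ KaehlerDifferential.ideal A B := by
    change Algebra.TensorProduct.lmul' A c₀ = 0
    exact φ.injective (by rw [hc, map_zero])
  rw [idem, ← map_mul]
  suffices c₀ * Algebra.FormallyUnramified.elem A B = 0 by rw [this, map_zero]
  rw [← KaehlerDifferential.span_range_eq_ideal] at hc₀
  refine Submodule.span_induction ?_ ?_ ?_ ?_ hc₀
  · rintro _ ⟨s, rfl⟩
    exact Algebra.FormallyUnramified.one_tmul_sub_tmul_one_mul_elem s
  · simp
  · intro x y _ _ hx hy
    rw [add_mul, hx, hy, add_zero]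
  · intro a x _ hx
    rw [smul_eq_mul, mul_assoc, hx, mul_zero]

theorem idem_mul_idem : idem A B T φ * idem A B T φ = idem A B T φ := by
  have := mul_idem_of_nu_eq_zero φ (idem A B T φ - 1) (by rw [map_sub, nu_idem, map_one, sub_self])
  rw [sub_mul, one_mul, sub_eq_zero] at this
  exact this


theorem idem_pow_succ (k : ℕ) : idem A B T φ ^ (k + 1) = idem A B T φ := by
  induction k with
  | zero => rw [zero_add, pow_one]
  | succ j ih => rw [pow_succ, ih, idem_mul_idem]

set_option maxHeartbeats 400000 in
theorem h1Cotangent_subsingleton_aux (φ : B ≃ₐ[A] T) [Module.Flat A T] :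
    Subsingleton (Algebra.H1Cotangent A B) := by
  letI algCT : Algebra (T ⊗[A] B) T := (nu A B T φ).toRingHom.toAlgebra
  have halg : ∀ c : T ⊗[A] B, algebraMap (T ⊗[A] B) T c = nu A B T φ c := fun _ => rfl
  haveI : IsScalarTower T (T ⊗[A] B) T := IsScalarTower.of_algebraMap_eq' (by
    ext t
    rw [RingHom.comp_apply, halg, Algebra.TensorProduct.algebraMap_apply]
    simp [nu])
  haveI : IsLocalization.Away (idem A B T φ) T := by
    refine ⟨?_, ?_, ?_⟩
    · rintro ⟨_, n, rfl⟩
      rw [halg, map_pow, nu_idem, one_pow]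
      exact isUnit_one
    · intro t
      refine ⟨(t ⊗ₜ 1, 1), ?_⟩
      rw [halg, halg]
      simp [nu]
    · intro c c' h
      refine ⟨⟨idem A B T φ, 1, pow_one _⟩, ?_⟩
      rw [halg, halg] at h
      have := mul_idem_of_nu_eq_zero φ (c - c') (by rw [map_sub, h, sub_self])
      rw [sub_mul, sub_eq_zero] at this
      rw [mul_comm, this, mul_comm]
  have hkill : ∀ y : Algebra.H1Cotangent T (T ⊗[A] B), idem A B T φ • y = 0 := by
    intro y
    have hsub : Subsingleton (Algebra.H1Cotangent T T) := inferInstance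
    have hloc : IsLocalizedModule (Submonoid.powers (idem A B T φ))
        (Algebra.H1Cotangent.map T T (T ⊗[A] B) T) := inferInstance
    obtain ⟨⟨_, n, rfl⟩, hn⟩ := (IsLocalizedModule.eq_iff_exists (Submonoid.powers (idem A B T φ))
      (Algebra.H1Cotangent.map T T (T ⊗[A] B) T)).1 (Subsingleton.elim
        (Algebra.H1Cotangent.map T T (T ⊗[A] B) T y) (Algebra.H1Cotangent.map T T (T ⊗[A] B) T 0))
    rw [smul_zero] at hn
    change idem A B T φ ^ n • y = 0 at hn
    cases n with
    | zero => rw [pow_zero, one_smul] at hn; rw [hn, smul_zero]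
    | succ k => rwa [idem_pow_succ] at hn
  refine subsingleton_of_forall_eq 0 fun m => ?_
  let Φ := Algebra.tensorH1CotangentOfFlat A B T
  let y : Algebra.H1Cotangent T (T ⊗[A] B) := Algebra.H1Cotangent.map A T B (T ⊗[A] B) m
  let g₁ : T ⊗[A] B →ₗ[A] Algebra.H1Cotangent T (T ⊗[A] B) :=
    (LinearMap.toSpanSingleton (T ⊗[A] B) _ y).restrictScalars A
  let sm : T ⊗[A] B →ₗ[A] T ⊗[A] Algebra.H1Cotangent A B :=
    TensorProduct.map LinearMap.id ((LinearMap.toSpanSingleton B _ m).restrictScalars A)
  let g₂ : T ⊗[A] B →ₗ[A] Algebra.H1Cotangent T (T ⊗[A] B) :=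
    (Φ.toLinearMap.restrictScalars A) ∘ₗ sm
  have hg : g₁ = g₂ := by
    apply TensorProduct.ext'
    intro t b
    change (t ⊗ₜ[A] b) • y = Φ (t ⊗ₜ[A] (b • m))
    rw [Algebra.tensorH1CotangentOfFlat_tmul, map_smul]
    change _ = t • b • y
    rw [← algebraMap_smul (T ⊗[A] B) b y, ← algebraMap_smul (T ⊗[A] B) t (_ • y), ← mul_smul]
    congr 1
    simp [Algebra.TensorProduct.algebraMap_apply, Algebra.TensorProduct.right_algebraMap_apply]
  have hsm : sm (idem A B T φ) = 0 := by
    apply Φ.injective
    rw [map_zero]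
    have := congrArg (fun g => g (idem A B T φ)) hg
    change idem A B T φ • y = Φ (sm (idem A B T φ)) at this
    rw [← this, hkill]
  let ℓ : T ⊗[A] Algebra.H1Cotangent A B →ₗ[A] Algebra.H1Cotangent A B :=
    TensorProduct.lift (LinearMap.mk₂ A (fun t m' => φ.symm t • m')
      (fun t t' m' => by rw [map_add, add_smul])
      (fun a t m' => by rw [map_smul, smul_assoc])
      (fun t m' m'' => smul_add _ _ _)
      (fun a t m' => smul_comm _ _ _))
  have hℓ : ∀ c₀ : B ⊗[A] B, ℓ (sm (Algebra.TensorProduct.map φ.toAlgHom (AlgHom.id A B) c₀)) =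
      Algebra.TensorProduct.lmul' A c₀ • m := by
    intro c₀
    induction c₀ using TensorProduct.induction_on with
    | zero => simp
    | tmul b b' =>
      simp [ℓ, sm, mul_smul]
    | add x y hx hy => simp only [map_add, hx, hy, add_smul]
  have := hℓ (Algebra.FormallyUnramified.elem A B)
  rw [Algebra.FormallyUnramified.lmul_elem, one_smul] at this
  rw [← this]
  change ℓ (sm (idem A B T φ)) = 0
  rw [hsm, map_zero]

end FlatUnram

/-- A flat, formally unramified algebra essentially of finite type is formally etale. -/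
theorem formallyEtale_of_flat_of_formallyUnramified (A B : Type u) [CommRing A] [CommRing B]
    [Algebra A B] [Module.Flat A B] [Algebra.FormallyUnramified A B]
    [Algebra.EssFiniteType A B] : Algebra.FormallyEtale A B :=
  ⟨inferInstance, FlatUnram.h1Cotangent_subsingleton_aux (AlgEquiv.refl : B ≃ₐ[A] B)⟩

end Groth.Agent.H53
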