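import Groth.Agent.H53.BCCharts
import Groth.Agent.H50.LocPNbhd
import Groth.Agent.S9389
import Groth.Agent.H52.DimZero

/-! The quasi-finite locus of a morphism of algebraic spaces: chart independence, openness, base change,
and its description through the fibre dimension. -/

set_option autoImplicit false
universe u

open CategoryTheory CategoryTheory.Limits AlgebraicGeometry Opposite TopologicalSpace
open AlgSp

namespace Groth.Agent.H53

variable {S : Scheme.{u}}

/-- "Quasi-finite near the point `u`" for a morphism of schemes. -/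
abbrev QfAt : ∀ (U V : Scheme.{u}), (U ⟶ V) → ↥U → Prop := fun U _ h u =>
  ∃ W : U.Opens, u ∈ W ∧ LocallyQuasiFinite (W.ι ≫ h) ∧ LocallyOfFiniteType (W.ι ≫ h)

theorem qfAt_iff_quasiFiniteAt {U V : Scheme.{u}} (h : U ⟶ V) [LocallyOfFiniteType h] (u : U) :
    QfAt U V h u ↔ h.QuasiFiniteAt u := by
  constructor
  · rintro ⟨W, hu, hq, -⟩
    have := (W.ι ≫ h).quasiFiniteAt ⟨u, hu⟩
    rwa [Scheme.Hom.quasiFiniteAt_comp_iff_of_isOpenImmersion] at this
  · intro H
    exact ⟨h.quasiFiniteLocus, H, inferInstance, inferInstance⟩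

/-- Quasi-finiteness at a point is read off from the local dimension of the fibre. -/
theorem quasiFiniteAt_iff_fibreDimAt_eq_zero {U V : Scheme.{u}} (h : U ⟶ V)
    [LocallyOfFiniteType h] (u : U) : h.QuasiFiniteAt u ↔ FlatMor.fibreDimAt h u = 0 := by
  rw [Scheme.Hom.quasiFiniteAt_iff_isOpen_singleton_asFiber]
  constructor
  · intro ho
    refine le_antisymm ?_ (Groth.Agent.H52.localDim_nonneg _)
    unfold FlatMor.fibreDimAt FlatMor.localDim
    refine (iInf_le _ ⟨⟨{h.asFiber u}, ho⟩, rfl⟩).trans ?_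
    have : Subsingleton ↥(({h.asFiber u} : Set ↥(h.fiber (h u)))) := inferInstance
    exact topologicalKrullDim_zero_of_discreteTopology _
  · intro hd
    have : LocallyOfFiniteType (h.fiberToSpecResidueField (h u)) :=
      MorphismProperty.pullback_snd _ _ inferInstance
    have : IsLocallyNoetherian (h.fiber (h u)) :=
      LocallyOfFiniteType.isLocallyNoetherian (h.fiberToSpecResidueField (h u))
    obtain ⟨W, huW, hW⟩ := Groth.Agent.H52.exists_open_dim_le_zero_of_localDim (h.asFiber u) hd.le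
    have hW' : topologicalKrullDim ↥(Scheme.Opens.toScheme (X := h.fiber (h u)) W) ≤ 0 := hW
    have : DiscreteTopology ↥(Scheme.Opens.toScheme (X := h.fiber (h u)) W) :=
      Groth.Agent.H52.discreteTopology_of_topologicalKrullDim_le_zero hW'
    have h1 : IsOpen ({⟨h.asFiber u, huW⟩} :
        Set ↥(Scheme.Opens.toScheme (X := h.fiber (h u)) W)) := isOpen_discrete _
    have h2 : IsOpen ((Subtype.val : ↥(W : Set ↥(h.fiber (h u))) → ↥(h.fiber (h u))) ''
        {⟨h.asFiber u, huW⟩}) := W.2.isOpenMap_subtype_val _ h1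
    rwa [Set.image_singleton] at h2

theorem one_le_fibreDimAt_of_not_quasiFiniteAt {U V : Scheme.{u}} (h : U ⟶ V)
    [LocallyOfFiniteType h] (u : U) (hu : ¬ h.QuasiFiniteAt u) : 1 ≤ FlatMor.fibreDimAt h u := by
  rw [quasiFiniteAt_iff_fibreDimAt_eq_zero] at hu
  have h0 : 0 ≤ FlatMor.fibreDimAt h u := Groth.Agent.H52.localDim_nonneg _
  generalize FlatMor.fibreDimAt h u = d at hu h0
  induction d using WithBot.recBotCoe with
  | bot => simp at h0
  | coe n =>
    have : n ≠ 0 := fun e => hu (by rw [e]; rfl)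
    exact_mod_cast Order.one_le_iff_ne_zero.2 this

/-- Chart independence: being quasi-finite at a point of an algebraic space can be tested on any etale
chart diagram through the point. -/
theorem hasAtMor_qfAt_iff {X Y : Sp S} (hX : IsAlgSpace X) (hY : IsAlgSpace Y)
    (f : X ⟶ Y) {U V : Over S} (a : (yon S).obj U ⟶ X) (b : (yon S).obj V ⟶ Y) (h : U ⟶ V)
    (ha : RepWith @Etale a) (hb : RepWith @Etale b) (comm : a ≫ f = (yon S).map h ≫ b)
    [LocallyOfFiniteType h.left] (u : ↥U.left) :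
    HasAtMor QfAt f (Points.ofPt a u) ↔ h.left.QuasiFiniteAt u := by
  constructor
  · intro H
    have H' : HasAtMor (fun U _ h u => ∃ W : U.Opens, u ∈ W ∧
        (@LocallyQuasiFinite ⊓ @LocallyOfFiniteType : MorphismProperty Scheme.{u}) (W.ι ≫ h)) f
        (Points.ofPt a u) := by
      obtain ⟨U₁, V₁, a₁, b₁, h₁, u₁, ha₁, hb₁, hc₁, hx₁, W, hW, h1, h2⟩ := H
      exact ⟨U₁, V₁, a₁, b₁, h₁, u₁, ha₁, hb₁, hc₁, hx₁, W, hW, h1, h2⟩
    obtain ⟨X₀, j, hX₀, hj, ⟨x₀, hx₀⟩, hP⟩ :=
      (Groth.Agent.H50.goodClass_lqf.hasAtMor_iff_exists_open hX hY f _).1 H'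
    have sq := hj.rep.isPullback a
    have hfstE : RepWith @Etale (hj.rep.fst a) := MorphismProperty.of_isPullback sq.flip ha
    have hk : IsOpenImmersion (hj.rep.snd a).left := hj.property_snd a
    have hcomm : hj.rep.fst a ≫ j ≫ f = (yon S).map (hj.rep.snd a ≫ h) ≫ b := by
      rw [← Category.assoc, sq.w, Category.assoc, comm, Functor.map_comp, Category.assoc]
    have hPk := hP (hj.rep.fst a) b (hj.rep.snd a ≫ h) hfstE hb hcomm
    have hQF : LocallyQuasiFinite ((hj.rep.snd a).left ≫ h.left) := hPk.1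
    obtain ⟨z, -, hz⟩ := exists_point_of_isPullback sq x₀ (Points.ofScheme U u)
      (by rw [hx₀, ← Points.ofPt_eq_map_ofScheme])
    obtain ⟨u₀, rfl⟩ := (Points.schemeEquiv _).surjective z
    have hu₀ : (hj.rep.snd a).left u₀ = u := by
      apply (Points.schemeEquiv U).injective
      change Points.ofScheme U _ = Points.ofScheme U u
      rw [← hz]
      exact (Points.map_yon_map_apply (hj.rep.snd a) u₀).symm
    have hst := ((hj.rep.snd a).left ≫ h.left).quasiFiniteAt u₀
    rw [Scheme.Hom.quasiFiniteAt_comp_iff_of_isOpenImmersion] at hst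
    subst hu₀
    exact hst
  · intro H
    obtain ⟨W, hW, h1, h2⟩ := (qfAt_iff_quasiFiniteAt h.left u).2 H
    exact ⟨U, V, a, b, h, u, ha, hb, comm, rfl, W, hW, h1, h2⟩

/-- The quasi-finite locus is open. -/
theorem isOpen_hasAtMor_qfAt {X Y : Sp S} (f : X ⟶ Y) :
    IsOpen {x : Points X | HasAtMor QfAt f x} := by
  rw [isOpen_iff_forall_mem_open]
  rintro x ⟨U, V, a, b, h, u, ha, hb, comm, rfl, W, hW, h1, h2⟩
  refine ⟨Points.ofPt a '' (W : Set ↥U.left), ?_,
    Groth.Agent.H51.isOpenMap_ofPt_of_etale a ha _ W.isOpen, ⟨u, hW, rfl⟩⟩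
  rintro _ ⟨w, hw, rfl⟩
  exact ⟨U, V, a, b, h, w, ha, hb, comm, rfl, W, hw, h1, h2⟩

/-- The quasi-finite locus commutes with base change. -/
theorem hasAtMor_qfAt_baseChange_iff {X Y X' Y' : Sp S} (hX : IsAlgSpace X) (hY : IsAlgSpace Y)
    (hX' : IsAlgSpace X') (hY' : IsAlgSpace Y') (f : X ⟶ Y) (hf : LocP @LocallyOfFiniteType f)
    (aY : Y' ⟶ Y) (bX : X' ⟶ X) (f' : X' ⟶ Y') (sq : IsPullback bX f' f aY) (x' : Points X') :
    HasAtMor QfAt f' x' ↔ HasAtMor QfAt f (Points.map bX x') := by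
  obtain ⟨U, V, U', V', a, b, a', b', h, h', g, v, haE, -, hbE, -, ha'E, ha'S, hb'E, -,
    comm, comm', hga, -, sqS⟩ := exists_baseChange_charts hX hY hY' f aY bX f' sq
  obtain ⟨u', rfl⟩ := exists_ofPt_eq_of_repWith_surjective a' ha'S x'
  have hlft : LocallyOfFiniteType h.left := hf a b h haE hbE comm
  have hlft' : LocallyOfFiniteType h'.left := MorphismProperty.of_isPullback sqS hlft
  rw [Points.map_ofPt, hga, ofPt_yon_map_comp,
    hasAtMor_qfAt_iff hX' hY' f' a' b' h' ha'E hb'E comm' u',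
    hasAtMor_qfAt_iff hX hY f a b h haE hbE comm (g.left u')]
  have := Groth.Agent.S9389.result h.left v.left g.left h'.left sqS
  exact Set.ext_iff.1 this u'

/-- A chart diagram through every point, with arbitrary atlases. -/
theorem exists_chart_through {X Y : Sp S} (hX : IsAlgSpace X) (hY : IsAlgSpace Y) (f : X ⟶ Y)
    (x : Points X) :
    ∃ (U V : Over S) (a : (yon S).obj U ⟶ X) (b : (yon S).obj V ⟶ Y) (h : U ⟶ V) (u : ↥U.left),
      RepWith @Etale a ∧ RepWith @Etale b ∧ a ≫ f = (yon S).map h ≫ b ∧ Points.ofPt a u = x := by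
  obtain ⟨U₀, a₀, ha1, ha2⟩ := hX.atlas
  obtain ⟨V, b, hb1, hb2⟩ := hY.atlas
  obtain ⟨u₀, rfl⟩ := exists_ofPt_eq_of_repWith_surjective a₀ ha2 x
  obtain ⟨W', w₁, w₂, sq⟩ := exists_pullback_yon (a₀ ≫ f) b hb1.rep
  have hw : Etale w₁.left := prop_of_isPullback_yon sq hb1
  have hws : Surjective w₁.left := prop_of_isPullback_yon sq hb2
  obtain ⟨u, hu⟩ := hws.surj u₀
  refine ⟨W', V, (yon S).map w₁ ≫ a₀, b, w₂, u, repWith_etale_map_comp w₁ hw a₀ ha1, hb1, ?_, ?_⟩
  · rw [Category.assoc]; exact sq.w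
  · rw [ofPt_yon_map_comp, hu]

end Groth.Agent.H53
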