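import Groth.Agent.H47.SmoothRegular
import Mathlib.AlgebraicGeometry.Morphisms.Smooth
import Mathlib.AlgebraicGeometry.Noetherian

universe u
open CategoryTheory CategoryTheory.Limits AlgebraicGeometry Opposite

namespace Groth.Agent.H53

set_option backward.isDefEq.respectTransparency false in
/-- The local rings of a scheme smooth over a field are regular. -/
theorem isRegularLocalRing_stalk_of_smooth_field (k : Type u) [Field k] {U : Scheme.{u}}
    (f : U ⟶ Spec (CommRingCat.of k)) [Smooth f] (x : U) :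
    IsRegularLocalRing (U.presheaf.stalk x) := by
  obtain ⟨_, ⟨V, hV, rfl⟩, hxV, -⟩ :=
    U.isBasis_affineOpens.exists_subset_of_mem_open (Set.mem_univ x) isOpen_univ
  revert V
  change ∀ (V : U.Opens), _
  intro V hV hxV
  have hV' : IsAffineOpen V := hV
  have hle : V ≤ f ⁻¹ᵁ ⊤ := le_top
  let ψ : Γ(Spec (CommRingCat.of k), ⊤) →+* Γ(U, V) := (f.appLE ⊤ V hle).hom
  have hψ : ψ.Smooth :=
    HasRingHomProperty.appLE (P := @Smooth) f inferInstance ⟨⊤, isAffineOpen_top _⟩ ⟨V, hV'⟩ hle
  let _ : Algebra Γ(Spec (CommRingCat.of k), ⊤) Γ(U, V) := ψ.toAlgebra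
  have : Algebra.Smooth Γ(Spec (CommRingCat.of k), ⊤) Γ(U, V) := hψ
  have : IsRegularRing Γ(Spec (CommRingCat.of k), ⊤) :=
    IsRegularRing.of_ringEquiv (Scheme.ΓSpecIso (CommRingCat.of k)).commRingCatIsoToRingEquiv.symm
  have hB : IsRegularRing Γ(U, V) :=
    Groth.Agent.H47.isRegularRing_of_smooth Γ(Spec (CommRingCat.of k), ⊤) Γ(U, V)
  let y : ↥V := ⟨x, hxV⟩
  let _ : Algebra Γ(U, V) (U.presheaf.stalk (y : U)) :=
    TopCat.Presheaf.algebra_section_stalk U.presheaf y
  have hloc := hV'.isLocalization_stalk y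
  have h1 : IsRegularLocalRing (Localization.AtPrime (hV'.primeIdealOf y).asIdeal) :=
    inferInstance
  exact IsRegularLocalRing.of_ringEquiv
    (IsLocalization.algEquiv (hV'.primeIdealOf y).asIdeal.primeCompl
      (Localization.AtPrime (hV'.primeIdealOf y).asIdeal) (U.presheaf.stalk (y : U))).toRingEquiv

end Groth.Agent.H53
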