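import Groth.Agent.S0115
import Groth.Agent.S4997

/-! Etale morphisms descend along fppf covers of the source (scheme level). -/

set_option autoImplicit false
universe u

open CategoryTheory CategoryTheory.Limits AlgebraicGeometry

namespace Groth.Agent.H53

theorem locallyQuasiFinite_of_fppf_comp {X Y T : Scheme.{u}} (f : X ⟶ Y) (q : Y ⟶ T)
    [Surjective f] [Flat f] [LocallyOfFinitePresentation f] [LocallyOfFiniteType q]
    [LocallyQuasiFinite (f ≫ q)] : LocallyQuasiFinite q := by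
  rw [locallyQuasiFinite_iff_isDiscrete_preimage_singleton]
  intro s
  have hE := (f ≫ q).isDiscrete_preimage_singleton s
  rw [isDiscrete_iff_forall_mem_exists_isOpen] at hE ⊢
  intro y hy
  obtain ⟨x, rfl⟩ := f.surjective y
  have hx : x ∈ (f ≫ q) ⁻¹' {s} := by
    simpa [Scheme.Hom.comp_apply] using hy
  obtain ⟨u, hu, hux⟩ := hE x hx
  refine ⟨f '' u, f.isOpenMap u hu, ?_⟩
  ext y'
  constructor
  · rintro ⟨⟨x', hx'u, rfl⟩, hy'⟩
    have hx'E : x' ∈ (f ≫ q) ⁻¹' {s} := by
      simpa [Scheme.Hom.comp_apply] using hy'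
    have : x' ∈ u ∩ (f ≫ q) ⁻¹' {s} := ⟨hx'u, hx'E⟩
    rw [hux] at this
    rw [Set.mem_singleton_iff] at this ⊢
    rw [this]
  · intro h
    rw [Set.mem_singleton_iff] at h
    subst h
    have hxu : x ∈ u ∩ (f ≫ q) ⁻¹' {s} := by rw [hux]; rfl
    exact ⟨⟨x, hxu.1, rfl⟩, hy⟩

theorem etale_of_fppf_comp {X Y T : Scheme.{u}} (f : X ⟶ Y) (q : Y ⟶ T)
    [Surjective f] [Flat f] [LocallyOfFinitePresentation f] [Etale (f ≫ q)] : Etale q := by
  have h1 : Smooth q := Groth.Agent.S0115.result f q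
  have h2 : LocallyQuasiFinite (f ≫ q) :=
    ((Groth.Agent.S4997.result (f ≫ q)).1 inferInstance).2
  have h3 : LocallyQuasiFinite q := locallyQuasiFinite_of_fppf_comp f q
  exact (Groth.Agent.S4997.result q).2 ⟨h1, h3⟩

end Groth.Agent.H53
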