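import Groth.Agent.H53.SmoothSectionRing

set_option autoImplicit false
set_option linter.style.haveILetI false

/-! Smooth morphisms of schemes have sections etale-locally. -/

universe u

open CategoryTheory CategoryTheory.Limits AlgebraicGeometry

namespace Groth.Agent.H53

/-- If all coefficients of a polynomial lie in the contraction of a prime, the polynomial lies in
the prime. -/
theorem mvPolynomial_map_mk_ne_zero {S : Type u} [CommRing S] {n : ℕ}
    (q' : Ideal (MvPolynomial (Fin n) S)) (h : MvPolynomial (Fin n) S) (hh : h ∉ q') :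
    MvPolynomial.map (Ideal.Quotient.mk (q'.comap MvPolynomial.C)) h ≠ 0 := by
  intro h0
  apply hh
  have h1 : h ∈ Ideal.map MvPolynomial.C (q'.comap (MvPolynomial.C : S →+* _)) := by
    rw [MvPolynomial.mem_map_C_iff]
    intro m
    have := congrArg (MvPolynomial.coeff m) h0
    rwa [MvPolynomial.coeff_map, MvPolynomial.coeff_zero, Ideal.Quotient.eq_zero_iff_mem] at this
  exact Ideal.map_comap_le h1

/-- **Smooth morphisms have sections etale-locally**: for a smooth morphism `p : U ⟶ V` and a point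
`u` of `U` there is an etale neighbourhood `e : V' ⟶ V` of `p u` over which `p` has a section. -/
theorem exists_etale_section_of_smooth {U V : Scheme.{u}} (p : U ⟶ V) [Smooth p] (u : U) :
    ∃ (V' : Scheme.{u}) (e : V' ⟶ V) (σ : V' ⟶ U) (v' : V'),
      Etale e ∧ σ ≫ p = e ∧ e v' = p u := by
  obtain ⟨V₀, hV₀, U₀, hU₀, hu, le, hstd⟩ := Smooth.exists_isStandardSmooth p u
  obtain ⟨n, g, hgC, hgE⟩ := hstd.exists_etale_mvPolynomial
  let q : Spec Γ(U, U₀) := hU₀.primeIdealOf ⟨u, hu⟩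
  have hq : hU₀.fromSpec q = u := hU₀.fromSpec_primeIdealOf ⟨u, hu⟩
  let G : Spec Γ(U, U₀) ⟶ Spec (CommRingCat.of (MvPolynomial (Fin n) Γ(V, V₀))) :=
    Spec.map (CommRingCat.ofHom g)
  have hG : Etale G := (HasRingHomProperty.Spec_iff (P := @Etale)).2 hgE
  have hopen : IsOpen (Set.range G) := G.isOpenMap.isOpen_range
  obtain ⟨_, ⟨h, rfl⟩, hqh, hsub⟩ :=
    PrimeSpectrum.isTopologicalBasis_basic_opens.exists_subset_of_mem_open
    (show G q ∈ Set.range G from ⟨q, rfl⟩) hopen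
  -- the prime `q'` of the polynomial ring and its contraction `p₀`
  let q' : Ideal (MvPolynomial (Fin n) Γ(V, V₀)) := (G q).asIdeal
  have hhq' : h ∉ q' := hqh
  let p₀ : Ideal Γ(V, V₀) := q'.comap MvPolynomial.C
  obtain ⟨S', _, _, hS', p', hp', a, hp'0, ha⟩ :=
    exists_etale_point p₀ h (mvPolynomial_map_mk_ne_zero q' h hhq')
  let Ψ : MvPolynomial (Fin n) Γ(V, V₀) →ₐ[Γ(V, V₀)] S' := MvPolynomial.aeval a
  let T : Spec (CommRingCat.of S') ⟶ Spec (CommRingCat.of (MvPolynomial (Fin n) Γ(V, V₀))) :=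
    Spec.map (CommRingCat.ofHom Ψ.toRingHom)
  let v₁ : Spec (CommRingCat.of S') := ⟨p', hp'⟩
  have hT : T v₁ ∈ Set.range G := by
    apply hsub
    show h ∉ (T v₁).asIdeal
    exact ha
  obtain ⟨q₁, hq₁⟩ := hT
  obtain ⟨w, hw1, hw2⟩ := Scheme.Pullback.exists_preimage_pullback q₁ v₁ hq₁
  let J : Spec (CommRingCat.of S') ⟶ Spec Γ(V, V₀) :=
    Spec.map (CommRingCat.ofHom (algebraMap Γ(V, V₀) S'))
  have hJ : Etale J :=
    (HasRingHomProperty.Spec_iff (P := @Etale)).2 (RingHom.etale_algebraMap.2 hS')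
  let Cm : Spec (CommRingCat.of (MvPolynomial (Fin n) Γ(V, V₀))) ⟶ Spec Γ(V, V₀) :=
    Spec.map (CommRingCat.ofHom (MvPolynomial.C : Γ(V, V₀) →+* MvPolynomial (Fin n) Γ(V, V₀)))
  have hGC : G ≫ Cm = Spec.map (p.appLE V₀ U₀ le) := by
    rw [← Spec.map_comp]
    congr 1
    ext x
    exact congrFun (congrArg DFunLike.coe hgC) x
  have hTC : T ≫ Cm = J := by
    rw [← Spec.map_comp]
    congr 1
    ext x
    show Ψ (MvPolynomial.C x) = algebraMap _ _ x
    exact MvPolynomial.aeval_C a x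
  have hcomm : hU₀.fromSpec ≫ p = Spec.map (p.appLE V₀ U₀ le) ≫ hV₀.fromSpec :=
    (IsAffineOpen.SpecMap_appLE_fromSpec p hV₀ hU₀ le).symm
  refine ⟨pullback G T, pullback.snd G T ≫ J ≫ hV₀.fromSpec, pullback.fst G T ≫ hU₀.fromSpec, w,
    inferInstance, ?_, ?_⟩
  · rw [Category.assoc, hcomm, ← hGC, ← hTC]
    simp only [Category.assoc]
    rw [pullback.condition_assoc]
  · have e1 : (pullback.snd G T ≫ J ≫ hV₀.fromSpec) w = hV₀.fromSpec (J v₁) := by
      rw [Scheme.Hom.comp_apply, Scheme.Hom.comp_apply, hw2]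
    have e2 : p u = hV₀.fromSpec (Cm (G q)) := by
      rw [← hq, ← Scheme.Hom.comp_apply, hcomm, ← hGC]
      simp only [Scheme.Hom.comp_apply]
    rw [e1, e2]
    congr 1
    apply PrimeSpectrum.ext
    exact hp'0

end Groth.Agent.H53
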