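import Groth.Prelude.Def_AlgSpSub
import Groth.Agent.H53.ChartSq
import Groth.Agent.H53.LocalBase
import Groth.Agent.H53.EtaleLift
import Groth.Agent.H52.ZarLocal

/-! Elementary distinguished squares of algebraic spaces are pushouts. -/

set_option autoImplicit false
universe u

open CategoryTheory CategoryTheory.Limits AlgebraicGeometry Opposite
open AlgSp

namespace Groth.Agent.H53

variable {S : Scheme.{u}}

/-- A field-valued point of `W` whose point lies in the image of a representable closed immersion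
`i : T ⟶ W` factors through `i`. -/
theorem exists_factor_of_mem_range {T W : Sp S} (i : T ⟶ W) (hi : RepWith @IsClosedImmersion i)
    (p : FieldPt W) (hp : Points.mk p ∈ Set.range (Points.map i)) :
    ∃ τ : (yon S).obj p.pt ⟶ T, τ ≫ i = p.toHom := by
  obtain ⟨y, hy⟩ := hp
  have sq := hi.rep.isPullback p.toHom
  have hcl : IsClosedImmersion (hi.rep.snd p.toHom).left := hi.property_snd _
  have h0 : Points.map i y =
      Points.map p.toHom (Points.ofScheme p.pt (IsLocalRing.closedPoint p.K)) := by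
    rw [hy, ← Points.ofPt_eq_map_ofScheme, Points.ofPt_toHom]
  obtain ⟨z, -, hz⟩ := exists_point_of_isPullback sq y _ h0
  have hsurj : Surjective (hi.rep.snd p.toHom).left :=
    ⟨fun s => ⟨Points.toScheme _ z, Subsingleton.elim _ _⟩⟩
  have hred : IsReduced p.pt.left := (inferInstance : IsReduced (Spec (.of p.K)))
  have hiso : IsIso (hi.rep.snd p.toHom).left := isIso_of_isClosedImmersion_of_surjective _
  have hiso' : IsIso (hi.rep.snd p.toHom) :=
    haveI : IsIso ((Over.forget S).map (hi.rep.snd p.toHom)) := hiso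
    isIso_of_reflects_iso _ (Over.forget S)
  refine ⟨(yon S).map (inv (hi.rep.snd p.toHom)) ≫ hi.rep.fst p.toHom, ?_⟩
  rw [Category.assoc, sq.w, ← Category.assoc, ← Functor.map_comp, IsIso.inv_hom_id,
    CategoryTheory.Functor.map_id, Category.id_comp]

/-- In an elementary distinguished situation, a point of `V ×_W V` not lying over `U` lies on the
diagonal. -/
theorem mem_range_diagonal {U V W T PT : Sp S} (j : U ⟶ W) (f : V ⟶ W) (i : T ⟶ W) (p₁ : PT ⟶ T)
    (p₂ : PT ⟶ V) (hi : RepWith @IsClosedImmersion i)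
    (hrange : Set.range (Points.map i) = (Set.range (Points.map j))ᶜ)
    (hPT : IsPullback p₁ p₂ i f) [IsIso p₁]
    (z : Points (pullback f f))
    (hz : Points.map (pullback.fst f f ≫ f) z ∉ Set.range (Points.map j)) :
    z ∈ Set.range (Points.map (pullback.diagonal f)) := by
  induction z using Points.ind with | h p => ?_
  have hmem : Points.mk (p.map (pullback.fst f f ≫ f)) ∈ Set.range (Points.map i) := by
    rw [hrange]; exact hz
  obtain ⟨τ, hτ⟩ := exists_factor_of_mem_range i hi _ hmem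
  rw [FieldPt.toHom_map] at hτ
  change (yon S).obj p.pt ⟶ T at τ
  have h1 : τ ≫ i = (p.toHom ≫ pullback.fst f f) ≫ f := hτ.trans (Category.assoc _ _ _).symm
  have h2 : τ ≫ i = (p.toHom ≫ pullback.snd f f) ≫ f :=
    hτ.trans (by rw [Category.assoc, pullback.condition])
  obtain ⟨l₁, hl₁a, hl₁b⟩ := hPT.exists_lift τ _ h1
  obtain ⟨l₂, hl₂a, hl₂b⟩ := hPT.exists_lift τ _ h2
  have hl : l₁ = l₂ := by rw [← cancel_mono p₁, hl₁a, hl₂a]
  have hv : p.toHom ≫ pullback.fst f f = p.toHom ≫ pullback.snd f f := by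
    rw [← hl₁b, ← hl₂b, hl]
  have hm : p.toHom = (p.toHom ≫ pullback.fst f f) ≫ pullback.diagonal f := by
    apply pullback.hom_ext
    · rw [Category.assoc, pullback.diagonal_fst, Category.comp_id]
    · rw [Category.assoc, pullback.diagonal_snd, Category.comp_id, hv]
  refine ⟨Points.ofPt (p.toHom ≫ pullback.fst f f) (IsLocalRing.closedPoint p.K), ?_⟩
  rw [Points.map_ofPt, ← hm, Points.ofPt_toHom]

/-- For a representable etale chart `c` of `V` and `f : V ⟶ W` with `c ≫ f` representable, the fibre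
square comparing `V₀ ×_V V₀` with `V₀ ×_W V₀` over the relative diagonal of `f`. -/
theorem isPullback_diagonal_charts {V W : Sp S} (f : V ⟶ W) {V₀ R Rv : Over S}
    (c : (yon S).obj V₀ ⟶ V) {pr₁ pr₂ : R ⟶ V₀} {π₁ π₂ : Rv ⟶ V₀}
    (sqR : IsPullback ((yon S).map pr₁) ((yon S).map pr₂) (c ≫ f) (c ≫ f))
    (sqRv : IsPullback ((yon S).map π₁) ((yon S).map π₂) c c) (ι : Rv ⟶ R)
    (hι₁ : ι ≫ pr₁ = π₁) (hι₂ : ι ≫ pr₂ = π₂)
    (ρ : (yon S).obj R ⟶ pullback f f) (hρ₁ : ρ ≫ pullback.fst f f = (yon S).map pr₁ ≫ c)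
    (hρ₂ : ρ ≫ pullback.snd f f = (yon S).map pr₂ ≫ c) :
    IsPullback ((yon S).map π₁ ≫ c) ((yon S).map ι) (pullback.diagonal f) ρ := by
  have w : ((yon S).map π₁ ≫ c) ≫ pullback.diagonal f = (yon S).map ι ≫ ρ := by
    apply pullback.hom_ext
    · rw [Category.assoc, pullback.diagonal_fst, Category.comp_id, Category.assoc,
        hρ₁, ← Category.assoc, ← Functor.map_comp, hι₁]
    · rw [Category.assoc, pullback.diagonal_snd, Category.comp_id, Category.assoc,
        hρ₂, ← Category.assoc, ← Functor.map_comp, hι₂, sqRv.w]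
  have key : ∀ s : PullbackCone (pullback.diagonal f) ρ,
      s.fst = s.snd ≫ (yon S).map pr₁ ≫ c ∧ s.fst = s.snd ≫ (yon S).map pr₂ ≫ c := by
    intro s
    have h1 := s.condition =≫ pullback.fst f f
    have h2 := s.condition =≫ pullback.snd f f
    simp only [Category.assoc, pullback.diagonal_fst, pullback.diagonal_snd, Category.comp_id,
      hρ₁, hρ₂] at h1 h2
    exact ⟨h1, h2⟩
  refine ⟨⟨w⟩, ⟨PullbackCone.IsLimit.mk _ (fun s => sqRv.lift (s.snd ≫ (yon S).map pr₁)
    (s.snd ≫ (yon S).map pr₂) ?_) ?_ ?_ ?_⟩⟩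
  · rw [Category.assoc, Category.assoc, ← (key s).1, ← (key s).2]
  · intro s
    rw [← Category.assoc, sqRv.lift_fst, Category.assoc, ← (key s).1]
  · intro s
    apply sqR.hom_ext
    · rw [Category.assoc, ← Functor.map_comp, hι₁, sqRv.lift_fst]
    · rw [Category.assoc, ← Functor.map_comp, hι₂, sqRv.lift_snd]
  · intro s m _ hm2
    apply sqRv.hom_ext
    · rw [sqRv.lift_fst, ← hm2, Category.assoc, ← Functor.map_comp, hι₁]
    · rw [sqRv.lift_snd, ← hm2, Category.assoc, ← Functor.map_comp, hι₂]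

set_option backward.isDefEq.respectTransparency.types false in
/-- The relative diagonal of an etale morphism from an algebraic space is an open immersion. -/
theorem repWith_isOpenImmersion_diagonal {V W : Sp S} (hV : IsAlgSpace V) (f : V ⟶ W)
    (hf : IsEtaleMor f) : RepWith @IsOpenImmersion (pullback.diagonal f) := by
  obtain ⟨V₀, c, hc1, hc2⟩ := hV.atlas
  have hcf : RepWith @Etale (c ≫ f) := hf c hc1
  refine ⟨representable_diagonal hV.diag f, fun {T' E} t fst e sq => ?_⟩
  change IsOpenImmersion e.left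
  obtain ⟨P₁, a₁, l₁, sq₁⟩ := exists_pullback_yon (t ≫ pullback.fst f f) c hc1.rep
  obtain ⟨P₂, a₂, l₂, sq₂⟩ := exists_pullback_yon (t ≫ pullback.snd f f) c hc1.rep
  have ha₁ : Etale a₁.left := prop_of_isPullback_yon sq₁ hc1
  have ha₁s : Surjective a₁.left := prop_of_isPullback_yon sq₁ hc2
  have ha₂ : Etale a₂.left := prop_of_isPullback_yon sq₂ hc1
  have ha₂s : Surjective a₂.left := prop_of_isPullback_yon sq₂ hc2
  obtain ⟨R, pr₁, pr₂, sqR⟩ := exists_pullback_yon (c ≫ f) (c ≫ f) hcf.rep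
  have hpr₂ : Etale pr₂.left := prop_of_isPullback_yon sqR.flip hcf
  obtain ⟨Rv, π₁, π₂, sqRv⟩ := exists_pullback_yon c c hc1.rep
  have hπ₂ : Etale π₂.left := prop_of_isPullback_yon sqRv.flip hc1
  obtain ⟨ι, hι⟩ := (yon S).map_surjective (sqR.lift ((yon S).map π₁) ((yon S).map π₂)
    (by rw [← Category.assoc, ← Category.assoc, sqRv.w]))
  have hι₁ : ι ≫ pr₁ = π₁ := (yon S).map_injective (by rw [Functor.map_comp, hι, sqR.lift_fst])
  have hι₂ : ι ≫ pr₂ = π₂ := (yon S).map_injective (by rw [Functor.map_comp, hι, sqR.lift_snd])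
  have hιe : Etale ι.left := by
    refine MorphismProperty.of_postcomp (W := @Etale) (W' := @Etale) ι.left pr₂.left hpr₂ ?_
    rw [← Over.comp_left, hι₂]; exact hπ₂
  have hιm : Mono ι := by
    have : Mono ((yon S).map ι) := ⟨fun a b hab => sqRv.hom_ext (by
      have := hab =≫ (yon S).map pr₁
      rwa [Category.assoc, Category.assoc, ← Functor.map_comp, hι₁] at this) (by
      have := hab =≫ (yon S).map pr₂
      rwa [Category.assoc, Category.assoc, ← Functor.map_comp, hι₂] at this)⟩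
    exact (yon S).mono_of_mono_map this
  have hιo : IsOpenImmersion ι.left := IsOpenImmersion.of_flat_of_mono ι.left
  have sqΔ := isPullback_diagonal_charts f c sqR sqRv ι hι₁ hι₂
    (pullback.lift ((yon S).map pr₁ ≫ c) ((yon S).map pr₂ ≫ c)
      (by rw [Category.assoc, Category.assoc]; exact sqR.w))
    (pullback.lift_fst _ _ _) (pullback.lift_snd _ _ _)
  -- the cover `T''` of `T'` on which both components lift to the chart
  have sqT := (IsPullback.of_hasPullback a₁ a₂).map (Over.forget S)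
  have hf₁ : Etale (pullback.fst a₁ a₂).left := MorphismProperty.of_isPullback sqT.flip ha₂
  have hf₁s : Surjective (pullback.fst a₁ a₂).left := MorphismProperty.of_isPullback sqT.flip ha₂s
  have hπe : Etale (pullback.fst a₁ a₂ ≫ a₁).left := by rw [Over.comp_left]; infer_instance
  have hπs : Surjective (pullback.fst a₁ a₂ ≫ a₁).left := by rw [Over.comp_left]; infer_instance
  have h₁ : (yon S).map (pullback.fst a₁ a₂ ≫ l₁) ≫ c =
      (yon S).map (pullback.fst a₁ a₂ ≫ a₁) ≫ t ≫ pullback.fst f f := by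
    rw [Functor.map_comp, Category.assoc, ← sq₁.w, Functor.map_comp, Category.assoc]
  have h₂ : (yon S).map (pullback.snd a₁ a₂ ≫ l₂) ≫ c =
      (yon S).map (pullback.fst a₁ a₂ ≫ a₁) ≫ t ≫ pullback.snd f f := by
    rw [Functor.map_comp, Category.assoc, ← sq₂.w, pullback.condition, Functor.map_comp,
      Category.assoc]
  obtain ⟨r, hr⟩ := (yon S).map_surjective (sqR.lift ((yon S).map (pullback.fst a₁ a₂ ≫ l₁))
    ((yon S).map (pullback.snd a₁ a₂ ≫ l₂)) (by
      rw [← Category.assoc, ← Category.assoc, h₁, h₂, Category.assoc, Category.assoc,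
        Category.assoc, Category.assoc, pullback.condition (f := f)]))
  have hrρ : (yon S).map r ≫ pullback.lift ((yon S).map pr₁ ≫ c) ((yon S).map pr₂ ≫ c)
      (by rw [Category.assoc, Category.assoc]; exact sqR.w) =
      (yon S).map (pullback.fst a₁ a₂ ≫ a₁) ≫ t := by
    apply pullback.hom_ext
    · rw [Category.assoc, pullback.lift_fst, ← Category.assoc, hr, sqR.lift_fst, h₁, Category.assoc]
    · rw [Category.assoc, pullback.lift_snd, ← Category.assoc, hr, sqR.lift_snd, h₂, Category.assoc]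
  have sqE := IsPullback.of_hasPullback e (pullback.fst a₁ a₂ ≫ a₁)
  have outer := (sqE.map (yon S)).paste_horiz sq
  obtain ⟨k, hk1, hk2⟩ := sqΔ.exists_lift
    ((yon S).map (pullback.fst e (pullback.fst a₁ a₂ ≫ a₁)) ≫ fst)
    ((yon S).map (pullback.snd e (pullback.fst a₁ a₂ ≫ a₁)) ≫ (yon S).map r)
    (by rw [outer.w, Category.assoc, hrρ])
  rw [← hk1, ← hrρ] at outer
  have left := IsPullback.of_right outer hk2 sqΔ
  obtain ⟨k₀, rfl⟩ := (yon S).map_surjective k
  have left' : IsPullback k₀ (pullback.snd e (pullback.fst a₁ a₂ ≫ a₁)) ι r :=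
    IsPullback.of_map (yon S) ((yon S).map_injective (by
      rw [Functor.map_comp, Functor.map_comp]; exact left.w)) left
  have left'' := left'.map (Over.forget S)
  have he'' : IsOpenImmersion (pullback.snd e (pullback.fst a₁ a₂ ≫ a₁)).left :=
    MorphismProperty.of_isPullback left'' hιo
  exact MorphismProperty.of_isPullback_of_descendsAlong (P := @IsOpenImmersion)
    (Q := @Surjective ⊓ @Flat ⊓ @LocallyOfFinitePresentation) (sqE.map (Over.forget S)).flip
    ⟨⟨hπs, (inferInstance : Flat (pullback.fst a₁ a₂ ≫ a₁).left)⟩,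
      (inferInstance : LocallyOfFinitePresentation (pullback.fst a₁ a₂ ≫ a₁).left)⟩ he''

/-- A point of the base of a represented pullback square lies in the image of the projection as soon
as its point lies in the image of the morphism pulled back. -/
theorem mem_range_left_of_isPullback {F G : Sp S} {g : F ⟶ G} {T' A : Over S}
    {t : (yon S).obj T' ⟶ G} {fst : (yon S).obj A ⟶ F} {s : A ⟶ T'}
    (sq : IsPullback fst ((yon S).map s) g t) (t' : ↥T'.left)
    (h : Points.ofPt t t' ∈ Set.range (Points.map g)) : t' ∈ Set.range s.left := by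
  obtain ⟨x, hx⟩ := h
  rw [Points.ofPt_eq_map_ofScheme] at hx
  obtain ⟨z, -, hz⟩ := exists_point_of_isPullback sq x (Points.ofScheme T' t') hx
  refine ⟨Points.toScheme A z, ?_⟩
  apply (Points.schemeEquiv T').injective
  change Points.ofScheme T' (s.left (Points.toScheme A z)) = Points.ofScheme T' t'
  rw [← hz]
  conv_rhs => rw [← Points.ofScheme_toScheme A z]
  exact (Points.map_yon_map_apply s (Points.toScheme A z)).symm

/-- Two maps from a representable sheaf agree if they agree on two flat, locally finitely presented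
schemes jointly covering the source. -/
theorem yon_hom_ext_of_two {F : Sp S} {T' A B : Over S} (e : A ⟶ T') (o : B ⟶ T')
    (he1 : Flat e.left) (he2 : LocallyOfFinitePresentation e.left)
    (ho1 : Flat o.left) (ho2 : LocallyOfFinitePresentation o.left)
    (hs : ∀ t' : ↥T'.left, t' ∈ Set.range e.left ∨ t' ∈ Set.range o.left)
    (a b : (yon S).obj T' ⟶ F) (h1 : (yon S).map e ≫ a = (yon S).map e ≫ b)
    (h2 : (yon S).map o ≫ a = (yon S).map o ≫ b) : a = b := by
  let P' : ULift.{u} Bool → Over S := fun k => bif k.down then A else B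
  let π : ∀ k, P' k ⟶ T' := fun k => match k with
    | ⟨true⟩ => e
    | ⟨false⟩ => o
  have hcov := cover_of_family P' π
    (fun k => match k with | ⟨true⟩ => he1 | ⟨false⟩ => ho1)
    (fun k => match k with | ⟨true⟩ => he2 | ⟨false⟩ => ho2)
    (fun z => (hs z).elim (fun h => ⟨⟨true⟩, h⟩) (fun h => ⟨⟨false⟩, h⟩))
  refine hom_ext_of_family P' (fun k => (yon S).map (π k)) hcov a b fun k => ?_
  match k with
  | ⟨true⟩ => exact h1
  | ⟨false⟩ => exact h2

/-- The key compatibility for elementary distinguished squares: two maps to `V` with the same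
image in `W` have the same image under any `b` compatible with some `a` on `U ×_W V`. -/
theorem elemDist_key {U V W T PT P Z : Sp S} (hV : IsAlgSpace V) (j : U ⟶ W) (f : V ⟶ W)
    (hj : RepWith @IsOpenImmersion j) (hf : IsEtaleMor f)
    (i : T ⟶ W) (p₁ : PT ⟶ T) (p₂ : PT ⟶ V) (hi : RepWith @IsClosedImmersion i)
    (hrange : Set.range (Points.map i) = (Set.range (Points.map j))ᶜ)
    (hPT : IsPullback p₁ p₂ i f) [IsIso p₁]
    (p : P ⟶ U) (q : P ⟶ V) (hP : IsPullback p q j f)
    (a : U ⟶ Z) (b : V ⟶ Z) (hab : p ≫ a = q ≫ b)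
    {T' : Over S} (v₁ v₂ : (yon S).obj T' ⟶ V) (hv : v₁ ≫ f = v₂ ≫ f) : v₁ ≫ b = v₂ ≫ b := by
  have hΔ := repWith_isOpenImmersion_diagonal hV f hf
  have sqE := hΔ.rep.isPullback (pullback.lift v₁ v₂ hv)
  have he : IsOpenImmersion (hΔ.rep.snd (pullback.lift v₁ v₂ hv)).left := hΔ.property_snd _
  have hE1 : (yon S).map (hΔ.rep.snd (pullback.lift v₁ v₂ hv)) ≫ v₁ =
      hΔ.rep.fst (pullback.lift v₁ v₂ hv) := by
    have := sqE.w =≫ pullback.fst f f
    simp only [Category.assoc, pullback.diagonal_fst, Category.comp_id, pullback.lift_fst] at this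
    exact this.symm
  have hE2 : (yon S).map (hΔ.rep.snd (pullback.lift v₁ v₂ hv)) ≫ v₂ =
      hΔ.rep.fst (pullback.lift v₁ v₂ hv) := by
    have := sqE.w =≫ pullback.snd f f
    simp only [Category.assoc, pullback.diagonal_snd, Category.comp_id, pullback.lift_snd] at this
    exact this.symm
  have sqU := hj.rep.isPullback (v₁ ≫ f)
  have ho : IsOpenImmersion (hj.rep.snd (v₁ ≫ f)).left := hj.property_snd _
  obtain ⟨l₁, hl₁p, hl₁q⟩ := hP.exists_lift (hj.rep.fst (v₁ ≫ f))
    ((yon S).map (hj.rep.snd (v₁ ≫ f)) ≫ v₁) (by rw [sqU.w, Category.assoc])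
  obtain ⟨l₂, hl₂p, hl₂q⟩ := hP.exists_lift (hj.rep.fst (v₁ ≫ f))
    ((yon S).map (hj.rep.snd (v₁ ≫ f)) ≫ v₂) (by rw [sqU.w, Category.assoc, hv])
  have hU1 : (yon S).map (hj.rep.snd (v₁ ≫ f)) ≫ v₁ ≫ b = hj.rep.fst (v₁ ≫ f) ≫ a := by
    rw [← Category.assoc, ← hl₁q, Category.assoc, ← hab, ← Category.assoc, hl₁p]
  have hU2 : (yon S).map (hj.rep.snd (v₁ ≫ f)) ≫ v₂ ≫ b = hj.rep.fst (v₁ ≫ f) ≫ a := by
    rw [← Category.assoc, ← hl₂q, Category.assoc, ← hab, ← Category.assoc, hl₂p]
  refine yon_hom_ext_of_two (hΔ.rep.snd (pullback.lift v₁ v₂ hv)) (hj.rep.snd (v₁ ≫ f))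
    inferInstance inferInstance inferInstance inferInstance ?_ _ _
    (by rw [← Category.assoc, hE1, ← Category.assoc, hE2]) (by rw [hU1, hU2])
  intro t'
  by_cases ht : Points.ofPt (v₁ ≫ f) t' ∈ Set.range (Points.map j)
  · exact Or.inr (mem_range_left_of_isPullback sqU t' ht)
  · refine Or.inl (mem_range_left_of_isPullback sqE t' ?_)
    apply mem_range_diagonal j f i p₁ p₂ hi hrange hPT
    rw [Points.map_ofPt]
    have : pullback.lift v₁ v₂ hv ≫ pullback.fst f f ≫ f = v₁ ≫ f := by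
      rw [← Category.assoc, pullback.lift_fst]
    rw [this]
    exact ht

/-- The covering condition of `desc_of_family` for a jointly surjective family of representable etale
maps from schemes. -/
theorem cover_of_repWith_family {T : Sp S} {ι : Type u} (Z : ι → Over S)
    (b : ∀ α, (yon S).obj (Z α) ⟶ T) (hb : ∀ α, RepWith @Etale (b α))
    (hs : ∀ x : Points T, ∃ α, x ∈ Set.range (Points.ofPt (b α)))
    (V : Over S) (t : (yon S).obj V ⟶ T) :
    ∃ R : Sieve V, R ∈ J S V ∧ ∀ ⦃W : Over S⦄ (w : W ⟶ V), R w →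
      ∃ (α : ι) (g : W ⟶ Z α), (yon S).map g ≫ b α = (yon S).map w ≫ t := by
  have sq := fun α => (hb α).rep.isPullback' t
  have hπ : ∀ α, Etale ((hb α).rep.snd t).left := fun α => (hb α).property_snd t
  obtain ⟨R, hR, hl⟩ := cover_of_family (fun α => (hb α).rep.pullback t) (fun α => (hb α).rep.snd t)
    (fun α => by have := hπ α; infer_instance) (fun α => by have := hπ α; infer_instance)
    (fun z => by
      obtain ⟨α, u, hu⟩ := hs (Points.ofPt t z)
      refine ⟨α, mem_range_left_of_isPullback (sq α) z ⟨Points.ofScheme _ u, ?_⟩⟩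
      rw [← Points.ofPt_eq_map_ofScheme, hu]) V (𝟙 _)
  refine ⟨R, hR, fun W w hw => ?_⟩
  obtain ⟨α, g, hg⟩ := hl w hw
  refine ⟨α, g ≫ (hb α).rep.fst' t, ?_⟩
  rw [Functor.map_comp, Category.assoc, (sq α).w, ← Category.assoc, hg, Category.comp_id]

theorem isPushout_of_existsUnique {C : Type*} [Category C] {P U V W : C} {p : P ⟶ U} {q : P ⟶ V}
    {j : U ⟶ W} {f : V ⟶ W} (w : p ≫ j = q ≫ f)
    (h : ∀ (Z : C) (a : U ⟶ Z) (b : V ⟶ Z), p ≫ a = q ≫ b →
      ∃! l : W ⟶ Z, j ≫ l = a ∧ f ≫ l = b) : IsPushout p q j f :=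
  ⟨⟨w⟩, ⟨PushoutCocone.IsColimit.mk _ (fun s => (h s.pt s.inl s.inr s.condition).choose)
    (fun s => (h s.pt s.inl s.inr s.condition).choose_spec.1.1)
    (fun s => (h s.pt s.inl s.inr s.condition).choose_spec.1.2)
    (fun s m h1 h2 => (h s.pt s.inl s.inr s.condition).choose_spec.2 m ⟨h1, h2⟩)⟩⟩

/-- The universal property of an elementary distinguished square among sheaves whose corners `U`, `V`
are algebraic spaces. -/
theorem elemDist_existsUnique {U V W P : Sp S} (hU : IsAlgSpace U) (hV : IsAlgSpace V) (j : U ⟶ W)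
    (f : V ⟶ W) (hsq : IsElemDistSq j f) (p : P ⟶ U) (q : P ⟶ V) (hP : IsPullback p q j f)
    (Z : Sp S) (a : U ⟶ Z) (b : V ⟶ Z) (hab : p ≫ a = q ≫ b) :
    ∃! l : W ⟶ Z, j ≫ l = a ∧ f ≫ l = b := by
  obtain ⟨hj, hf, T, PT, i, p₁, p₂, ⟨hi, hrange, -⟩, hPT, hiso⟩ := hsq
  obtain ⟨U₀, cU, hcU1, hcU2⟩ := hU.atlas
  obtain ⟨V₀, cV, hcV1, hcV2⟩ := hV.atlas
  have hjm : Mono j := Groth.Agent.H52.mono_of_repWith_isOpenImmersion j hj
  have hcUe : Epi cU := epi_of_repWith_etale_surjective cU hcU1 hcU2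
  have hcVe : Epi cV := epi_of_repWith_etale_surjective cV hcV1 hcV2
  let Z' : ULift.{u} Bool → Over S := fun k => bif k.down then U₀ else V₀
  let β : ∀ k, (yon S).obj (Z' k) ⟶ W := fun k => match k with
    | ⟨true⟩ => cU ≫ j
    | ⟨false⟩ => cV ≫ f
  let μ : ∀ k, (yon S).obj (Z' k) ⟶ Z := fun k => match k with
    | ⟨true⟩ => cU ≫ a
    | ⟨false⟩ => cV ≫ b
  have hβ : ∀ k, RepWith @Etale (β k) := fun k => match k with
    | ⟨true⟩ => (RepWith @Etale).comp_mem _ _ hcU1 (repWith_mono (fun _ _ e he => by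
        have : IsOpenImmersion e := he
        exact (inferInstance : Etale e)) j hj)
    | ⟨false⟩ => hf cV hcV1
  have hβs : ∀ x : Points W, ∃ k, x ∈ Set.range (Points.ofPt (β k)) := by
    intro x
    by_cases hx : x ∈ Set.range (Points.map j)
    · obtain ⟨y, rfl⟩ := hx
      obtain ⟨u, rfl⟩ := exists_ofPt_eq_of_repWith_surjective cU hcU2 y
      exact ⟨⟨true⟩, u, rfl⟩
    · have hx' : x ∈ Set.range (Points.map i) := by rw [hrange]; exact hx
      obtain ⟨y, rfl⟩ := hx'
      have hy : Points.map p₁ (Points.map (inv p₁) y) = y := by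
        rw [← Points.map_comp, IsIso.inv_hom_id, Points.map_id]
      obtain ⟨v, hv⟩ := exists_ofPt_eq_of_repWith_surjective cV hcV2
        (Points.map p₂ (Points.map (inv p₁) y))
      refine ⟨⟨false⟩, v, ?_⟩
      change Points.ofPt (cV ≫ f) v = _
      rw [← Points.map_ofPt, hv, ← Points.map_comp, ← hPT.w, Points.map_comp, hy]
  have hcov := cover_of_repWith_family Z' β hβ hβs
  have hm : ∀ (W' : Over S) (k k' : ULift.{u} Bool) (g₁ : W' ⟶ Z' k) (g₂ : W' ⟶ Z' k'),
      (yon S).map g₁ ≫ β k = (yon S).map g₂ ≫ β k' →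
        (yon S).map g₁ ≫ μ k = (yon S).map g₂ ≫ μ k' := by
    rintro W' ⟨_ | _⟩ ⟨_ | _⟩ g₁ g₂ hg
    · change (yon S).map g₁ ≫ cV ≫ f = (yon S).map g₂ ≫ cV ≫ f at hg
      change (yon S).map g₁ ≫ cV ≫ b = (yon S).map g₂ ≫ cV ≫ b
      rw [← Category.assoc, ← Category.assoc] at hg ⊢
      exact elemDist_key hV j f hj hf i p₁ p₂ hi hrange hPT p q hP a b hab _ _ hg
    · change (yon S).map g₁ ≫ cV ≫ f = (yon S).map g₂ ≫ cU ≫ j at hg
      change (yon S).map g₁ ≫ cV ≫ b = (yon S).map g₂ ≫ cU ≫ a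
      obtain ⟨l, hl1, hl2⟩ := hP.exists_lift ((yon S).map g₂ ≫ cU) ((yon S).map g₁ ≫ cV)
        (by rw [Category.assoc, Category.assoc, hg])
      rw [← Category.assoc, ← Category.assoc, ← hl1, ← hl2, Category.assoc, Category.assoc, hab]
    · change (yon S).map g₁ ≫ cU ≫ j = (yon S).map g₂ ≫ cV ≫ f at hg
      change (yon S).map g₁ ≫ cU ≫ a = (yon S).map g₂ ≫ cV ≫ b
      obtain ⟨l, hl1, hl2⟩ := hP.exists_lift ((yon S).map g₁ ≫ cU) ((yon S).map g₂ ≫ cV)
        (by rw [Category.assoc, Category.assoc, hg])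
      rw [← Category.assoc, ← Category.assoc, ← hl1, ← hl2, Category.assoc, Category.assoc, hab]
    · change (yon S).map g₁ ≫ cU ≫ j = (yon S).map g₂ ≫ cU ≫ j at hg
      change (yon S).map g₁ ≫ cU ≫ a = (yon S).map g₂ ≫ cU ≫ a
      rw [← Category.assoc, ← Category.assoc, cancel_mono] at hg
      rw [← Category.assoc, ← Category.assoc, hg]
  obtain ⟨L, hL⟩ := desc_of_family Z' β hcov μ hm
  have hL1 : j ≫ L = a := by
    rw [← cancel_epi cU, ← Category.assoc]
    exact hL ⟨true⟩
  have hL2 : f ≫ L = b := by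
    rw [← cancel_epi cV, ← Category.assoc]
    exact hL ⟨false⟩
  refine ⟨L, ⟨hL1, hL2⟩, fun L' hL' => ?_⟩
  refine hom_ext_of_family Z' β hcov L' L fun k => ?_
  match k with
  | ⟨true⟩ =>
    change (cU ≫ j) ≫ L' = (cU ≫ j) ≫ L
    rw [Category.assoc, Category.assoc, hL'.1, hL1]
  | ⟨false⟩ =>
    change (cV ≫ f) ≫ L' = (cV ≫ f) ≫ L
    rw [Category.assoc, Category.assoc, hL'.2, hL2]

end Groth.Agent.H53
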