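import Groth.Agent.H53.FibreDim

/-! Chart independence of the local dimension of fibres for morphisms of sheaves with étale
charts. -/

set_option autoImplicit false
universe u

open CategoryTheory CategoryTheory.Limits AlgebraicGeometry Opposite MorphismProperty
open AlgSp

namespace Groth.Agent.H53

variable {S : Scheme.{u}}

/-- Chart independence of the local dimension of the fibre. -/
theorem fibreDimAt_chart_indep {X Y : Sp S} (f : X ⟶ Y)
    {U V U' V' : Over S} (a : (yon S).obj U ⟶ X) (b : (yon S).obj V ⟶ Y) (h : U ⟶ V)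
    (a' : (yon S).obj U' ⟶ X) (b' : (yon S).obj V' ⟶ Y) (h' : U' ⟶ V')
    (ha : RepWith @Etale a) (hb : RepWith @Etale b) (ha' : RepWith @Etale a')
    (hb' : RepWith @Etale b') (e : a ≫ f = (yon S).map h ≫ b)
    (e' : a' ≫ f = (yon S).map h' ≫ b') (u : ↥U.left) (u' : ↥U'.left)
    (hu : Points.ofPt a u = Points.ofPt a' u') :
    FlatMor.fibreDimAt h.left u = FlatMor.fibreDimAt h'.left u' := by
  obtain ⟨W, p₁, p₂, w, hp₁, hp₂, hw1, hw2, hw⟩ :=
    Groth.Agent.H51.exists_common_etale_refinement a ha a' ha' u u' hu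
  have sq := hb.rep.isPullback' b'
  set q₁ := hb.rep.fst' b' with hq₁
  set q₂ := hb.rep.snd b' with hq₂
  have hq₁E : Etale q₁.left := hb'.property _ _ _ sq.flip
  have hq₂E : Etale q₂.left := hb.property _ _ _ sq
  have hcomm : (yon S).map (p₁ ≫ h) ≫ b = (yon S).map (p₂ ≫ h') ≫ b' := by
    rw [Functor.map_comp, Functor.map_comp, Category.assoc, Category.assoc, ← e, ← e',
      ← Category.assoc, ← Category.assoc, hw]
  obtain ⟨k, hk⟩ := (yon S).map_surjective (sq.lift _ _ hcomm)
  have hk1 : k ≫ q₁ = p₁ ≫ h := by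
    apply (yon S).map_injective
    rw [Functor.map_comp, hk, sq.lift_fst]
  have hk2 : k ≫ q₂ = p₂ ≫ h' := by
    apply (yon S).map_injective
    rw [Functor.map_comp, hk, sq.lift_snd]
  have hk1' : k.left ≫ q₁.left = p₁.left ≫ h.left := congrArg CommaMorphism.left hk1
  have hk2' : k.left ≫ q₂.left = p₂.left ≫ h'.left := congrArg CommaMorphism.left hk2
  have t1 := fibreDimAt_eq_of_etale_square h.left k.left p₁.left q₁.left hk1' w
  have t2 := fibreDimAt_eq_of_etale_square h'.left k.left p₂.left q₂.left hk2' w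
  rw [hw1] at t1
  rw [hw2] at t2
  rw [t1, t2]

end Groth.Agent.H53
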