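import Groth.Agent.H13.NoethDescent
import Mathlib.AlgebraicGeometry.Morphisms.FlatDescent

/-! Descent of local Noetherianity along fppf surjections of schemes. -/

set_option autoImplicit false
universe u

open CategoryTheory CategoryTheory.Limits AlgebraicGeometry Opposite

namespace Groth.Agent.H53

set_option backward.isDefEq.respectTransparency.types false in
theorem isLocallyNoetherian_of_fppf_surjective {X Y : Scheme.{u}} (f : X ⟶ Y)
    [Flat f] [Surjective f] [LocallyOfFinitePresentation f] [IsLocallyNoetherian X] :
    IsLocallyNoetherian Y := by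
  rw [isLocallyNoetherian_iff_of_affine_openCover Y.affineCover]
  intro i
  have h1 : IsLocallyNoetherian (pullback f (Y.affineCover.f i)) :=
    isLocallyNoetherian_of_isOpenImmersion (pullback.fst f (Y.affineCover.f i))
  have hfl : Flat (pullback.snd f (Y.affineCover.f i)) :=
    MorphismProperty.pullback_snd _ _ inferInstance
  have hfp : LocallyOfFinitePresentation (pullback.snd f (Y.affineCover.f i)) :=
    MorphismProperty.pullback_snd _ _ inferInstance
  have hsj : Surjective (pullback.snd f (Y.affineCover.f i)) :=
    MorphismProperty.pullback_snd _ _ inferInstance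
  obtain ⟨V : (pullback f (Y.affineCover.f i)).Opens, hV, e⟩ := (pullback.snd f (Y.affineCover.f i)).isOpenMap.exists_opens_image_eq_of_prespectralSpace
    (pullback.snd f (Y.affineCover.f i)).continuous (by simp) isOpen_univ isCompact_univ
  have h2 : IsLocallyNoetherian V := isLocallyNoetherian_of_isOpenImmersion V.ι
  have h3 : QuasiCompact (V.ι ≫ pullback.snd f (Y.affineCover.f i)) :=
    (quasiCompact_iff_compactSpace _).mpr (isCompact_iff_compactSpace.mp hV)
  have h4 : Surjective (V.ι ≫ pullback.snd f (Y.affineCover.f i)) :=
    ⟨fun x ↦ have ⟨y, hyV, e⟩ := e.ge (Set.mem_univ x); ⟨⟨y, hyV⟩, e⟩⟩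
  exact Groth.Agent.H13.isNoetherianRing_of_flat_surjective_quasiCompact'
    (V.ι ≫ pullback.snd f (Y.affineCover.f i))

end Groth.Agent.H53
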