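import Groth.Agent.H53.LocalST
import Groth.Agent.H49.AlgSpOpen
import Groth.Agent.H50.LocPClass
import Groth.Agent.H52.FlatDescent

/-! fppf morphisms of algebraic spaces are open on points; openness is fppf local on the source. -/

universe u

open CategoryTheory CategoryTheory.Limits AlgebraicGeometry
open AlgSp

namespace Groth.Agent.H53

variable {S : Scheme.{u}}

/-- A flat, locally finitely presented morphism of algebraic spaces is open on points. -/
theorem isOpenMor_of_fppf {X' X : Sp S} (hX' : IsAlgSpace X') (hX : IsAlgSpace X) (g : X' ⟶ X)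
    (h1 : LocP @Flat g) (h2 : LocP @LocallyOfFinitePresentation g) : IsOpenMor g := by
  obtain ⟨V, a, hae, has⟩ := hX.atlas
  obtain ⟨U, a', α, ha'e, ha's, hcomm⟩ := Groth.Agent.H49.exists_chart_lift hX' g a hae has
  refine Groth.Agent.H49.isOpenMap_points_of_charts g (ι := Unit) (fun _ => V) (fun _ => U)
    (fun _ => a) (fun _ => a') (fun _ => α) (fun _ => hcomm) (fun _ => hae) ?_ ?_
  · intro x
    obtain ⟨w, hw⟩ := Groth.Agent.H52.ofPt_surjective_of_repWith_surjective a' ha's x
    exact ⟨(), w, hw⟩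
  · intro _
    have hf : Flat α.left := h1 a' a α ha'e hae hcomm
    have hp : LocallyOfFinitePresentation α.left := h2 a' a α ha'e hae hcomm
    exact α.left.isOpenMap

/-- Openness on points can be tested on a jointly surjective family. -/
theorem isOpenMap_of_family {ι : Type*} {X Y : Sp S} (Xi : ι → Sp S) (g : ∀ i, Xi i ⟶ X)
    (hs : ∀ x : Points X, ∃ i, x ∈ Set.range (Points.map (g i))) (f : X ⟶ Y)
    (H : ∀ i, IsOpenMap (Points.map (g i ≫ f))) : IsOpenMap (Points.map f) := by
  intro Ω hΩ
  have : Points.map f '' Ω = ⋃ i, Points.map (g i ≫ f) '' (Points.map (g i) ⁻¹' Ω) := by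
    ext y
    simp only [Set.mem_image, Set.mem_iUnion, Set.mem_preimage]
    constructor
    · rintro ⟨x, hx, rfl⟩
      obtain ⟨i, z, rfl⟩ := hs x
      exact ⟨i, z, hx, Points.map_comp _ _ _⟩
    · rintro ⟨i, z, hz, rfl⟩
      exact ⟨Points.map (g i) z, hz, (Points.map_comp _ _ _).symm⟩
  rw [this]
  exact isOpen_iUnion fun i => H i _ (hΩ.preimage (Points.continuous_map (g i)))

theorem isOpenMap_points_comp {X Y Z : Sp S} (f : X ⟶ Y) (g : Y ⟶ Z)
    (hf : IsOpenMap (Points.map f)) (hg : IsOpenMap (Points.map g)) :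
    IsOpenMap (Points.map (f ≫ g)) := by
  have : Points.map (f ≫ g) = Points.map g ∘ Points.map f := funext (Points.map_comp _ _)
  rw [this]
  exact hg.comp hf

theorem etLocSrc_flat : Groth.Agent.H50.EtLocSrc (@Flat : MorphismProperty Scheme.{u}) := by
  intro A B C e h he hs hh
  have := he; have := hs
  exact Groth.Agent.H50.flat_of_comp_etale_surjective e h hh

theorem etLocSrc_lfp :
    Groth.Agent.H50.EtLocSrc (@LocallyOfFinitePresentation : MorphismProperty Scheme.{u}) := by
  intro A B C e h he hs hh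
  have := he; have := hs
  exact Groth.Agent.H50.locallyOfFinitePresentation_of_comp_etale_surjective e h hh

theorem locP_flat_of_isPullback {X Y X' Y' : Sp S} (hX : IsAlgSpace X) (hY : IsAlgSpace Y)
    (hY' : IsAlgSpace Y') {q : X' ⟶ X} {p : X' ⟶ Y'} {f : X ⟶ Y} {g : Y' ⟶ Y}
    (sq : IsPullback q p f g) (hf : LocP @Flat f) : LocP @Flat p :=
  locP_of_isPullback @Flat (fun A B e he => by
    have : Etale e := he
    exact (inferInstance : Flat e)) etLocSrc_flat hX hY hY' sq hf

theorem locP_lfp_of_isPullback {X Y X' Y' : Sp S} (hX : IsAlgSpace X) (hY : IsAlgSpace Y)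
    (hY' : IsAlgSpace Y') {q : X' ⟶ X} {p : X' ⟶ Y'} {f : X ⟶ Y} {g : Y' ⟶ Y}
    (sq : IsPullback q p f g) (hf : LocP @LocallyOfFinitePresentation f) :
    LocP @LocallyOfFinitePresentation p :=
  locP_of_isPullback @LocallyOfFinitePresentation (fun A B e he => by
    have : Etale e := he
    exact (inferInstance : LocallyOfFinitePresentation e)) etLocSrc_lfp hX hY hY' sq hf

end Groth.Agent.H53
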