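import Groth.Agent.H53.RetractSch
import Groth.Agent.H53.LfpFppfSource
import Groth.Agent.H53.LftFppfSource2
import Groth.Agent.H53.FlatSource
import Groth.Agent.H53.LocSource
import Groth.Agent.H50.LocPBase
import Groth.Agent.H49.AlgSpCoprod
import Groth.Agent.H49.AlgSpRep

/-! If `g : X ⟶ Y` is a surjection of fppf sheaves and `g ≫ h` is flat / locally of finite type /
locally of finite presentation, then so is `h` (algebraic spaces). -/

set_option autoImplicit false
universe u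

open CategoryTheory CategoryTheory.Limits AlgebraicGeometry Opposite
open AlgSp

namespace Groth.Agent.H53

variable {S : Scheme.{u}}

/-- Sections of the target of a surjection of sheaves lift fppf locally. -/
theorem exists_fppf_lifts {X Y : Sp S} (g : X ⟶ Y) (hg : Sheaf.IsLocallySurjective g) {V : Over S}
    (a : (yon S).obj V ⟶ Y) :
    ∃ R' ∈ Scheme.fppfPrecoverage V.left, ∀ ⦃U' : Scheme.{u}⦄ (v : U' ⟶ V.left), R' v →
      ∃ s : (yon S).obj (Over.mk (v ≫ V.hom)) ⟶ X,
        s ≫ g = (yon S).map (Over.homMk v : Over.mk (v ≫ V.hom) ⟶ V) ≫ a := by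
  have hmem := hg.imageSieve_mem ((J S).uliftYonedaEquiv a)
  obtain ⟨R', hR', hle⟩ := Groth.Agent.H49.exists_fppf_cover_of_mem _ hmem
  refine ⟨R', hR', fun U' v hv => ?_⟩
  obtain ⟨x, hx⟩ := hle v hv
  refine ⟨(J S).uliftYonedaEquiv.symm x, ?_⟩
  apply (J S).uliftYonedaEquiv.injective
  rw [(J S).uliftYonedaEquiv_comp, Equiv.apply_symm_apply]
  have h2 : Y.obj.map (Over.homMk v : Over.mk (v ≫ V.hom) ⟶ V).op ((J S).uliftYonedaEquiv a) =
      (J S).uliftYonedaEquiv ((yon S).map (Over.homMk v : Over.mk (v ≫ V.hom) ⟶ V) ≫ a) :=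
    (J S).uliftYonedaEquiv_naturality a _
  rw [← h2]
  exact hx

/-- The classes of morphisms of schemes to which the argument applies. -/
structure RetractClass (P : MorphismProperty Scheme.{u}) : Prop where
  good : Groth.Agent.H50.GoodClass P
  retract : ∀ {X Y Z : Scheme.{u}} (g : X ⟶ Y) (σ : Y ⟶ X), σ ≫ g = 𝟙 Y → ∀ h : Y ⟶ Z,
    P (g ≫ h) → P h
  presieve : ∀ {U V : Scheme.{u}} (k : U ⟶ V) (R : Presieve U), R ∈ Scheme.fppfPrecoverage U →
    (∀ ⦃U' : Scheme.{u}⦄ (v : U' ⟶ U), R v → P (v ≫ k)) → P k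
  precomp : ∀ {A B C : Scheme.{u}} (k : A ⟶ B) (h : B ⟶ C), Flat k →
    LocallyOfFinitePresentation k → P h → P (k ≫ h)

variable {P : MorphismProperty Scheme.{u}} (hR : RetractClass P)
include hR

/-- A split version of the retract lemma. -/
theorem RetractClass.of_split {T'' U'' T W : Scheme.{u}} (ρ : T'' ⟶ U'') (γ : U'' ⟶ T)
    (hε : Etale (ρ ≫ γ)) (hεs : Surjective (ρ ≫ γ)) (m₀ : T ⟶ W) (H : P (γ ≫ m₀)) : P m₀ := by
  have := hR.good.comp
  have hp₁ : Etale (pullback.fst γ (ρ ≫ γ)) := inferInstance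
  have h1 : P (pullback.fst γ (ρ ≫ γ) ≫ γ ≫ m₀) :=
    P.comp_mem _ _ (hR.good.etale_le _ _ _ hp₁) H
  rw [← Category.assoc, pullback.condition, Category.assoc] at h1
  have h2 : P ((ρ ≫ γ) ≫ m₀) :=
    hR.retract (pullback.snd γ (ρ ≫ γ)) (pullback.lift ρ (𝟙 T'') (by simp))
      (pullback.lift_snd _ _ _) _ h1
  exact hR.good.src (ρ ≫ γ) m₀ hε hεs h2

/-- A morphism to a scheme which has a section and has `P` on charts after composing with a
morphism of schemes: the morphism of schemes has `P`. -/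
theorem RetractClass.prop_of_section {F : Sp S} (hF : IsAlgSpace F) {T W : Over S}
    (gT : F ⟶ (yon S).obj T) (σ : (yon S).obj T ⟶ F) (hσ : σ ≫ gT = 𝟙 _) (m₀ : T ⟶ W)
    (H : LocP P (gT ≫ (yon S).map m₀)) : P m₀.left := by
  obtain ⟨U'', c, hc1, hc2⟩ := hF.atlas
  obtain ⟨γ, hγ⟩ := (yon S).map_surjective (c ≫ gT)
  have h1 : P (γ ≫ m₀).left := by
    refine H c (𝟙 _) (γ ≫ m₀) hc1 (repWith_id _ W) ?_
    rw [Category.comp_id, Functor.map_comp, hγ, Category.assoc]
  obtain ⟨T'', ε, ρ, sq⟩ := exists_pullback_yon σ c hc1.rep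
  have hε : Etale ε.left := prop_of_isPullback_yon sq hc1
  have hεs : Surjective ε.left := prop_of_isPullback_yon sq hc2
  have hcomp : ρ ≫ γ = ε := by
    apply (yon S).map_injective
    rw [Functor.map_comp, hγ, ← Category.assoc, ← sq.w, Category.assoc, hσ, Category.comp_id]
  have hcomp' : ρ.left ≫ γ.left = ε.left := by rw [← Over.comp_left, hcomp]
  exact hR.of_split ρ.left γ.left (by rw [hcomp']; exact hε) (by rw [hcomp']; exact hεs) m₀.left h1

theorem locP_of_sheaf_surjective {X Y Z : Sp S} (hX : IsAlgSpace X) (hY : IsAlgSpace Y)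
    (g : X ⟶ Y) (h : Y ⟶ Z) (hg : Sheaf.IsLocallySurjective g) (H : LocP P (g ≫ h)) :
    LocP P h := by
  intro V W a b k ha hb hcomm
  obtain ⟨R', hR', hlift⟩ := exists_fppf_lifts g hg a
  refine hR.presieve k.left R' hR' fun U' v hv => ?_
  obtain ⟨s, hs⟩ := hlift v hv
  have hv' : (@Flat ⊓ @LocallyOfFinitePresentation : MorphismProperty Scheme.{u}) v :=
    hR'.2 hv
  let T : Over S := Over.mk (v ≫ V.hom)
  let vT : T ⟶ V := Over.homMk v
  let t : (yon S).obj T ⟶ Y := (yon S).map vT ≫ a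
  have hT : IsAlgSpace ((yon S).obj T) := IsAlgSpace.yon_obj T
  have sqX := IsPullback.of_hasPullback g t
  have hXT : IsAlgSpace (pullback g t) :=
    Groth.Agent.H49.isAlgSpace_of_isPullback sqX hY.diag hX hT
  -- `t` is flat and locally of finite presentation
  have ht1 : LocP @Flat t :=
    Groth.Agent.H50.goodClass_flat.locP_comp (IsAlgSpace.yon_obj V) _ _
      (Groth.Agent.H50.goodClass_flat.locP_yon_map vT hv'.1)
      (Groth.Agent.H50.goodClass_flat.locP_of_repWith_etale a ha)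
  have ht2 : LocP @LocallyOfFinitePresentation t :=
    Groth.Agent.H50.goodClass_lfp.locP_comp (IsAlgSpace.yon_obj V) _ _
      (Groth.Agent.H50.goodClass_lfp.locP_yon_map vT hv'.2)
      (Groth.Agent.H50.goodClass_lfp.locP_of_repWith_etale a ha)
  have hp1 : LocP @Flat (pullback.fst g t) :=
    Groth.Agent.H50.goodClass_flat.locP_of_isPullback hT hY hX t g _ _ sqX.flip ht1
  have hp2 : LocP @LocallyOfFinitePresentation (pullback.fst g t) :=
    Groth.Agent.H50.goodClass_lfp.locP_of_isPullback hT hY hX t g _ _ sqX.flip ht2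
  have hp : LocP (@Flat ⊓ @LocallyOfFinitePresentation) (pullback.fst g t) :=
    fun _ _ a' b' k' ha' hb' hc' => ⟨hp1 a' b' k' ha' hb' hc', hp2 a' b' k' ha' hb' hc'⟩
  have H1 : LocP P (pullback.fst g t ≫ g ≫ h) :=
    locP_comp (Q := @Flat ⊓ @LocallyOfFinitePresentation)
      (fun k₁ h₁ hk hh => hR.precomp k₁ h₁ hk.1 hk.2 hh)
      (fun e h₁ he hes hh => hR.good.src e h₁ he hes hh) hX _ _ hp H
  have e1 : (pullback.snd g t ≫ (yon S).map (vT ≫ k)) ≫ b = pullback.fst g t ≫ g ≫ h := by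
    have w : pullback.fst g t ≫ g = pullback.snd g t ≫ (yon S).map vT ≫ a := sqX.w
    calc (pullback.snd g t ≫ (yon S).map (vT ≫ k)) ≫ b
        = pullback.snd g t ≫ (yon S).map vT ≫ (yon S).map k ≫ b := by
          rw [Functor.map_comp]; simp only [Category.assoc]
      _ = pullback.snd g t ≫ (yon S).map vT ≫ a ≫ h := by rw [hcomm]
      _ = (pullback.snd g t ≫ (yon S).map vT ≫ a) ≫ h := by simp only [Category.assoc]
      _ = (pullback.fst g t ≫ g) ≫ h := by rw [← w]
      _ = pullback.fst g t ≫ g ≫ h := Category.assoc _ _ _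
  have H2 : LocP P (pullback.snd g t ≫ (yon S).map (vT ≫ k)) := by
    intro U₁ V₁ a' b' k' ha' hb' hc'
    refine H1 a' (b' ≫ b) k' ha' ((RepWith @Etale).comp_mem _ _ hb' hb) ?_
    rw [← e1, ← Category.assoc, hc', Category.assoc]
  have hσ : s ≫ g = 𝟙 _ ≫ t := by rw [Category.id_comp]; exact hs
  have := hR.prop_of_section hXT (pullback.snd g t) (sqX.lift s (𝟙 _) hσ) (sqX.lift_snd _ _ _)
    (vT ≫ k) H2
  exact this

end Groth.Agent.H53
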