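import Mathlib.AlgebraicGeometry.Morphisms.FlatDescent
import Mathlib.AlgebraicGeometry.Morphisms.LocalFlatDescent

set_option autoImplicit false
universe u
open CategoryTheory CategoryTheory.Limits AlgebraicGeometry Opposite

namespace Groth.Agent.H53

/-- A finite family of flat morphisms from affine schemes to an affine scheme that is jointly
surjective assembles into one fpqc morphism from the (affine) disjoint union. -/
theorem sigmaDesc_fpqc {Z : Scheme.{u}} [IsAffine Z] {m : ℕ} (W : Fin m → Scheme.{u})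
    (c : ∀ j, W j ⟶ Z) [∀ j, IsAffine (W j)] [∀ j, Flat (c j)]
    (hs : ∀ z : Z, ∃ j, z ∈ Set.range (c j)) :
    (@Surjective ⊓ @Flat ⊓ @QuasiCompact : MorphismProperty Scheme.{u}) (Sigma.desc c) := by
  refine ⟨⟨?_, inferInstance⟩, ?_⟩
  · apply Surjective.sigmaDesc_of_union_range_eq_univ
    rw [Set.eq_univ_iff_forall]
    intro z
    obtain ⟨j, hj⟩ := hs z
    exact Set.mem_iUnion.2 ⟨j, hj⟩
  · exact (quasiCompact_iff_compactSpace _).2 inferInstance

/-- A monomorphism of schemes into an affine scheme through which a finite jointly surjective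
family of flat morphisms from affine schemes factors is an isomorphism. -/
theorem isIso_of_mono_of_fpqc_factor {E Z : Scheme.{u}} [IsAffine Z] (e : E ⟶ Z) [Mono e] {m : ℕ}
    (W : Fin m → Scheme.{u}) (c : ∀ j, W j ⟶ Z) [∀ j, IsAffine (W j)] [∀ j, Flat (c j)]
    (hs : ∀ z : Z, ∃ j, z ∈ Set.range (c j)) (l : ∀ j, W j ⟶ E) (hl : ∀ j, l j ≫ e = c j) :
    IsIso e := by
  have hc := sigmaDesc_fpqc W c hs
  have hfac : Sigma.desc l ≫ e = Sigma.desc c := by
    apply Sigma.hom_ext
    intro j
    rw [Sigma.ι_desc_assoc, Sigma.ι_desc, hl]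
  -- the base change of `e` along the cover has a section and is a mono, hence an iso
  have hiso : IsIso (pullback.fst (Sigma.desc c) e) := by
    have : Mono (pullback.fst (Sigma.desc c) e) := inferInstance
    let s : (∐ W) ⟶ pullback (Sigma.desc c) e := pullback.lift (𝟙 _) (Sigma.desc l) (by simp [hfac])
    have hs : s ≫ pullback.fst (Sigma.desc c) e = 𝟙 _ := pullback.lift_fst _ _ _
    have : IsSplitEpi (pullback.fst (Sigma.desc c) e) := ⟨⟨s, hs⟩⟩
    exact isIso_of_mono_of_isSplitEpi _
  exact MorphismProperty.of_pullback_fst_of_descendsAlong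
    (P := MorphismProperty.isomorphisms Scheme.{u}) (Q := @Surjective ⊓ @Flat ⊓ @QuasiCompact)
    (f := Sigma.desc c) (g := e) hc hiso

end Groth.Agent.H53
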