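import Groth.Agent.H53.UnramThick
import Groth.Agent.H53.LQF
import Groth.Agent.H53.ThickMorTop
import Groth.Agent.H53.LocPBase

/-! Transfer of chart-local properties along cartesian morphisms of thickenings. -/

set_option autoImplicit false
universe u

open CategoryTheory CategoryTheory.Limits AlgebraicGeometry Opposite
open AlgSp

namespace Groth.Agent.H53

variable {S : Scheme.{u}}

/-- Locally quasi-finite lifts along a commutative square of thickenings (finite type case). -/
theorem locallyQuasiFinite_of_thick_square {U U' V V' : Scheme.{u}} (i : U ⟶ U') (h : U ⟶ V)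
    (h' : U' ⟶ V') (j : V ⟶ V') (w : i ≫ h' = h ≫ j) (hi : thick i) (hj : thick j)
    [LocallyOfFiniteType h'] [LocallyQuasiFinite h] : LocallyQuasiFinite h' := by
  have : IsClosedImmersion i := hi.1
  have : Surjective i := hi.2
  have : IsClosedImmersion j := hj.1
  have : Surjective j := hj.2
  rw [locallyQuasiFinite_iff_isDiscrete_preimage_singleton]
  intro v'
  obtain ⟨v, rfl⟩ := j.surjective v'
  have e : h' ⁻¹' {j v} = i '' (h ⁻¹' {v}) := by
    ext u'
    constructor
    · intro hu'
      obtain ⟨u, rfl⟩ := i.surjective u'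
      refine ⟨u, ?_, rfl⟩
      have h2 : (i ≫ h') u = (h ≫ j) u := by rw [w]
      simp only [Scheme.Hom.comp_apply] at h2
      have h3 : j (h u) = j v := by rw [← h2]; exact hu'
      exact j.isClosedEmbedding.injective h3
    · rintro ⟨u, hu, rfl⟩
      have h2 : (i ≫ h') u = (h ≫ j) u := by rw [w]
      simp only [Scheme.Hom.comp_apply] at h2
      change h' (i u) = j v
      rw [h2]
      exact congrArg j hu
  rw [e]
  exact (h.isDiscrete_preimage_singleton v).image i.isClosedEmbedding.isInducing

theorem locP_of_thick_chart (P Q : MorphismProperty Scheme.{u})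
    (H : ∀ {U U' V V' : Scheme.{u}} (i : U ⟶ U') (h : U ⟶ V) (h' : U' ⟶ V') (j : V ⟶ V'),
      IsPullback i h h' j → thick i → thick j → Q h' → P h → P h')
    {X X' Y Y' : Sp S} {i : X ⟶ X'} {j : Y ⟶ Y'} {f : X ⟶ Y} {f' : X' ⟶ Y'}
    (hi : IsThickMor i) (hj : IsThickMor j) (hcart : IsPullback i f f' j)
    (hQ : LocP Q f') (hP : LocP P f) : LocP P f' := by
  intro U' V' a' b' h' ha' hb' hcomm
  have sqV := hj.rep.isPullback b'
  have sqU := hi.rep.isPullback a'
  have hjV : thick (hj.rep.snd b').left := hj.property_snd b'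
  have hiU : thick (hi.rep.snd a').left := hi.property_snd a'
  have hbV : RepWith @Etale (hj.rep.fst b') := MorphismProperty.of_isPullback sqV.flip hb'
  have haU : RepWith @Etale (hi.rep.fst a') := MorphismProperty.of_isPullback sqU.flip ha'
  have hw : (hi.rep.fst a' ≫ f) ≫ j = ((yon S).map (hi.rep.snd a' ≫ h')) ≫ b' := by
    rw [Category.assoc, ← hcart.w, ← Category.assoc, sqU.w, Category.assoc, hcomm,
      Functor.map_comp, Category.assoc]
  obtain ⟨k, hk1, hk2⟩ := sqV.exists_lift _ _ hw
  obtain ⟨h, rfl⟩ := (yon S).map_surjective k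
  have hPh : P h.left := hP (hi.rep.fst a') (hj.rep.fst b') h haU hbV hk1.symm
  have hQh' : Q h'.left := hQ a' b' h' ha' hb' hcomm
  have outer : IsPullback (hi.rep.fst a' ≫ f) ((yon S).map (hi.rep.snd a')) j (a' ≫ f') :=
    sqU.paste_horiz hcart.flip
  rw [hcomm, ← hk1] at outer
  have left : IsPullback ((yon S).map h) ((yon S).map (hi.rep.snd a'))
      ((yon S).map (hj.rep.snd b')) ((yon S).map h') :=
    IsPullback.of_right outer (by rw [hk2, Functor.map_comp]) sqV
  have left' : IsPullback h (hi.rep.snd a') (hj.rep.snd b') h' :=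
    IsPullback.of_map (yon S) ((yon S).map_injective (by
      rw [Functor.map_comp, Functor.map_comp]; exact left.w)) left
  have left'' := (left'.map (Over.forget S)).flip
  exact H _ _ _ _ left'' hiU hjV hQh' hPh

variable {X X' Y Y' : Sp S} {i : X ⟶ X'} {j : Y ⟶ Y'} {f : X ⟶ Y} {f' : X' ⟶ Y'}

theorem locP_lqf_iff_of_thick (hi : IsThickMor i) (hj : IsThickMor j)
    (hcart : IsPullback i f f' j) (hX' : IsAlgSpace X') (hY : IsAlgSpace Y) (hY' : IsAlgSpace Y')
    (hft' : LocP @LocallyOfFiniteType f') :
    LocP (@LocallyQuasiFinite ⊓ @LocallyOfFiniteType) f ↔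
      LocP (@LocallyQuasiFinite ⊓ @LocallyOfFiniteType) f' := by
  constructor
  · intro hf
    refine locP_of_thick_chart (@LocallyQuasiFinite ⊓ @LocallyOfFiniteType) @LocallyOfFiniteType
      ?_ hi hj hcart hft' hf
    intro U U' V V' i₀ h h' j₀ sq hi₀ hj₀ hQ hP
    have : LocallyOfFiniteType h' := hQ
    have : LocallyQuasiFinite h := hP.1
    exact ⟨locallyQuasiFinite_of_thick_square i₀ h h' j₀ sq.w hi₀ hj₀, hQ⟩
  · intro hf'
    refine locP_of_isPullback (@LocallyQuasiFinite ⊓ @LocallyOfFiniteType) ?_ etLocSrc_lqf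
      hX' hY' hY hcart hf'
    intro A B e he
    have : Etale e := he
    exact ⟨locallyQuasiFinite_of_etale e, inferInstance⟩

theorem locP_unramified_iff_of_thick (hi : IsThickMor i) (hj : IsThickMor j)
    (hcart : IsPullback i f f' j) (hX' : IsAlgSpace X') (hY : IsAlgSpace Y) (hY' : IsAlgSpace Y')
    (hft' : LocP @LocallyOfFiniteType f') :
    LocP (@LocallyOfFiniteType ⊓ @FormallyUnramified) f ↔
      LocP (@LocallyOfFiniteType ⊓ @FormallyUnramified) f' := by
  constructor
  · intro hf
    refine locP_of_thick_chart (@LocallyOfFiniteType ⊓ @FormallyUnramified) @LocallyOfFiniteType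
      ?_ hi hj hcart hft' hf
    intro U U' V V' i₀ h h' j₀ sq hi₀ hj₀ hQ hP
    have : LocallyOfFiniteType h' := hQ
    have : FormallyUnramified h := hP.2
    have : IsClosedImmersion j₀ := hj₀.1
    have : Surjective j₀ := hj₀.2
    exact ⟨hQ, formallyUnramified_of_isPullback_thick sq⟩
  · intro hf'
    refine locP_of_isPullback (@LocallyOfFiniteType ⊓ @FormallyUnramified) ?_ ?_
      hX' hY' hY hcart hf'
    · intro A B e he
      have : Etale e := he
      exact ⟨inferInstance, inferInstance⟩
    · intro A B C e h he hs hh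
      have := he; have := hs
      exact ⟨Groth.Agent.H50.locallyOfFiniteType_of_comp_etale_surjective e h hh.1,
        Groth.Agent.H51.formallyUnramified_of_comp_etale_surjective e h hh.2⟩

end Groth.Agent.H53
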