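import Groth.Agent.H53.Charts
import Groth.Agent.H53.Points
import Groth.Agent.H49.AlgSpRep

/-! Compatible etale chart diagrams for a morphism of algebraic spaces and a base change of it. -/

set_option autoImplicit false
universe u

open CategoryTheory CategoryTheory.Limits AlgebraicGeometry Opposite
open AlgSp

namespace Groth.Agent.H53

variable {S : Scheme.{u}}

/-- Base-change charts: for a cartesian square `X' = X ×_Y Y'` of algebraic spaces there are surjective
etale chart diagrams `h : U ⟶ V` of `f` and `h' : U' ⟶ V'` of `f'` with `h'` the base change of `h`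
along `v : V' ⟶ V`, compatibly with the projections. -/
theorem exists_baseChange_charts {X Y X' Y' : Sp S} (hX : IsAlgSpace X) (hY : IsAlgSpace Y)
    (hY' : IsAlgSpace Y') (f : X ⟶ Y) (aY : Y' ⟶ Y) (bX : X' ⟶ X) (f' : X' ⟶ Y')
    (sq : IsPullback bX f' f aY) :
    ∃ (U V U' V' : Over S) (a : (yon S).obj U ⟶ X) (b : (yon S).obj V ⟶ Y)
      (a' : (yon S).obj U' ⟶ X') (b' : (yon S).obj V' ⟶ Y')
      (h : U ⟶ V) (h' : U' ⟶ V') (g : U' ⟶ U) (v : V' ⟶ V),
      RepWith @Etale a ∧ RepWith @Surjective a ∧ RepWith @Etale b ∧ RepWith @Surjective b ∧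
      RepWith @Etale a' ∧ RepWith @Surjective a' ∧ RepWith @Etale b' ∧ RepWith @Surjective b' ∧
      a ≫ f = (yon S).map h ≫ b ∧ a' ≫ f' = (yon S).map h' ≫ b' ∧
      a' ≫ bX = (yon S).map g ≫ a ∧ b' ≫ aY = (yon S).map v ≫ b ∧
      IsPullback g.left h'.left h.left v.left := by
  have hcompE : MorphismProperty.IsStableUnderComposition (RepWith (S := S) @Etale) := inferInstance
  obtain ⟨V, b, hbE, hbS⟩ := hY.atlas
  -- `X_V = X ×_Y V`
  have sqXV : IsPullback (pullback.fst f b) (pullback.snd f b) f b := IsPullback.of_hasPullback f b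
  have hXV : IsAlgSpace (pullback f b) :=
    Groth.Agent.H49.isAlgSpace_of_isPullback sqXV hY.diag hX (IsAlgSpace.yon_obj V)
  have hπ₁E : RepWith @Etale (pullback.fst f b) := MorphismProperty.of_isPullback sqXV.flip hbE
  have hπ₁S : RepWith @Surjective (pullback.fst f b) := MorphismProperty.of_isPullback sqXV.flip hbS
  obtain ⟨U, cU, hcE, hcS⟩ := hXV.atlas
  obtain ⟨h, hh⟩ := (yon S).map_surjective (cU ≫ pullback.snd f b)
  -- `Y'_V = Y' ×_Y V`
  have sqYV : IsPullback (pullback.fst aY b) (pullback.snd aY b) aY b :=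
    IsPullback.of_hasPullback aY b
  have hYV : IsAlgSpace (pullback aY b) :=
    Groth.Agent.H49.isAlgSpace_of_isPullback sqYV hY.diag hY' (IsAlgSpace.yon_obj V)
  have hρ₁E : RepWith @Etale (pullback.fst aY b) := MorphismProperty.of_isPullback sqYV.flip hbE
  have hρ₁S : RepWith @Surjective (pullback.fst aY b) :=
    MorphismProperty.of_isPullback sqYV.flip hbS
  obtain ⟨V', cV', hc'E, hc'S⟩ := hYV.atlas
  obtain ⟨v, hv⟩ := (yon S).map_surjective (cV' ≫ pullback.snd aY b)
  have hb'E : RepWith @Etale (cV' ≫ pullback.fst aY b) := (RepWith @Etale).comp_mem _ _ hc'E hρ₁E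
  have hb'S : RepWith @Surjective (cV' ≫ pullback.fst aY b) :=
    (RepWith @Surjective).comp_mem _ _ hc'S hρ₁S
  have hvb : (cV' ≫ pullback.fst aY b) ≫ aY = (yon S).map v ≫ b := by
    rw [Category.assoc, sqYV.w, ← Category.assoc, hv]
  -- `X'_{V'} = X' ×_{Y'} V'`
  have sqX'V' : IsPullback (pullback.fst f' (cV' ≫ pullback.fst aY b))
      (pullback.snd f' (cV' ≫ pullback.fst aY b)) f' (cV' ≫ pullback.fst aY b) :=
    IsPullback.of_hasPullback _ _
  have hσ₁E : RepWith @Etale (pullback.fst f' (cV' ≫ pullback.fst aY b)) :=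
    MorphismProperty.of_isPullback sqX'V'.flip hb'E
  have hσ₁S : RepWith @Surjective (pullback.fst f' (cV' ≫ pullback.fst aY b)) :=
    MorphismProperty.of_isPullback sqX'V'.flip hb'S
  -- the big rectangle `X'_{V'} ⟶ X` over `V' ⟶ Y`
  have big : IsPullback (pullback.fst f' (cV' ≫ pullback.fst aY b) ≫ bX)
      (pullback.snd f' (cV' ≫ pullback.fst aY b)) f ((yon S).map v ≫ b) := by
    have := sqX'V'.paste_horiz sq
    rwa [hvb] at this
  -- the map `τ : X'_{V'} ⟶ X_V`
  obtain ⟨τ, hτ₁, hτ₂⟩ := sqXV.exists_lift (pullback.fst f' (cV' ≫ pullback.fst aY b) ≫ bX)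
    (pullback.snd f' (cV' ≫ pullback.fst aY b) ≫ (yon S).map v)
    (by rw [big.w, Category.assoc])
  have sqτ : IsPullback τ (pullback.snd f' (cV' ≫ pullback.fst aY b))
      (pullback.snd f b) ((yon S).map v) := by
    refine IsPullback.of_right ?_ hτ₂ sqXV
    rw [hτ₁]
    exact big
  -- the scheme `U' = U ×_V V'`
  obtain ⟨U', g, h', sqU'⟩ := exists_pullback_yon ((yon S).map h) ((yon S).map v)
    (IsAlgSpace.representable_from_yon (IsAlgSpace.yon_obj V) _)
  obtain ⟨p₂, hp₂τ, hp₂σ⟩ := sqτ.exists_lift ((yon S).map g ≫ cU) ((yon S).map h')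
    (by rw [Category.assoc, ← hh, sqU'.w])
  have sqp₂ : IsPullback ((yon S).map g) p₂ cU τ := by
    refine IsPullback.of_bot ?_ hp₂τ.symm sqτ
    rw [hp₂σ, ← hh]
    exact sqU'
  have hp₂E : RepWith @Etale p₂ := MorphismProperty.of_isPullback sqp₂ hcE
  have hp₂S : RepWith @Surjective p₂ := MorphismProperty.of_isPullback sqp₂ hcS
  refine ⟨U, V, U', V', cU ≫ pullback.fst f b, b, p₂ ≫ pullback.fst f' (cV' ≫ pullback.fst aY b),
    cV' ≫ pullback.fst aY b, h, h', g, v, (RepWith @Etale).comp_mem _ _ hcE hπ₁E,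
    (RepWith @Surjective).comp_mem _ _ hcS hπ₁S, hbE, hbS,
    (RepWith @Etale).comp_mem _ _ hp₂E hσ₁E, (RepWith @Surjective).comp_mem _ _ hp₂S hσ₁S,
    hb'E, hb'S, ?_, ?_, ?_, hvb, ?_⟩
  · rw [Category.assoc, sqXV.w, ← Category.assoc, hh]
  · rw [Category.assoc, sqX'V'.w, ← Category.assoc, hp₂σ]
  · rw [Category.assoc, ← hτ₁, ← Category.assoc, hp₂τ, Category.assoc]
  · exact (IsPullback.of_map (yon S) (by
      apply (yon S).map_injective
      rw [Functor.map_comp, Functor.map_comp]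
      exact sqU'.w) sqU').map (Over.forget S)

end Groth.Agent.H53
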