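import Groth.Agent.H53.ThickMorTop
import Groth.Agent.H49.AlgSpSepDescent

/-! Morphisms of thickenings: diagonal; separatedness and quasi-separatedness. -/

set_option autoImplicit false
universe u

open CategoryTheory CategoryTheory.Limits AlgebraicGeometry Opposite
open AlgSp

namespace Groth.Agent.H53

variable {S : Scheme.{u}}

instance thick_isMultiplicative : (thick.{u}).IsMultiplicative where
  id_mem X := ⟨(inferInstance : IsClosedImmersion (𝟙 X)), (inferInstance : Surjective (𝟙 X))⟩
  comp_mem f g hf hg := by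
    have := hf.1; have := hf.2; have := hg.1; have := hg.2
    exact ⟨(inferInstance : IsClosedImmersion (f ≫ g)), (inferInstance : Surjective (f ≫ g))⟩

theorem isThickMor_comp {F G H : Sp S} {a : F ⟶ G} {b : G ⟶ H} (ha : IsThickMor a)
    (hb : IsThickMor b) : IsThickMor (a ≫ b) :=
  (RepWith (S := S) thick).comp_mem a b ha hb

variable {X X' Y Y' : Sp S} {i : X ⟶ X'} {j : Y ⟶ Y'} {f : X ⟶ Y} {f' : X' ⟶ Y'}

theorem exists_thick_diagonal (hi : IsThickMor i) (hj : IsThickMor j) (w : i ≫ f' = f ≫ j) :
    ∃ k : pullback f f ⟶ pullback f' f', IsThickMor k ∧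
      pullback.diagonal f ≫ k = i ≫ pullback.diagonal f' := by
  have := mono_of_isThickMor j hj
  -- intermediate object `M = X' ×_{Y'} X`
  have hw1 : (pullback.fst f f ≫ i) ≫ f' = pullback.snd f f ≫ (i ≫ f') := by
    rw [Category.assoc, w, ← Category.assoc, ← Category.assoc, pullback.condition]
  let k₁ : pullback f f ⟶ pullback f' (i ≫ f') := pullback.lift _ _ hw1
  have hw2 : pullback.fst f' (i ≫ f') ≫ f' = (pullback.snd f' (i ≫ f') ≫ i) ≫ f' := by
    rw [Category.assoc, pullback.condition]
  let k₂ : pullback f' (i ≫ f') ⟶ pullback f' f' := pullback.lift _ _ hw2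
  have sqM : IsPullback (pullback.snd f' (i ≫ f')) (pullback.fst f' (i ≫ f')) (i ≫ f') f' :=
    (IsPullback.of_hasPullback f' (i ≫ f')).flip
  -- `k₁` is a base change of `i`
  have outer1 : IsPullback (pullback.snd f f) (pullback.fst f f) (f ≫ j) (f ≫ j) :=
    isPullback_comp_mono (IsPullback.of_hasPullback f f).flip j
  have e1 : k₁ ≫ pullback.snd f' (i ≫ f') = pullback.snd f f := pullback.lift_snd _ _ _
  have e1' : k₁ ≫ pullback.fst f' (i ≫ f') = pullback.fst f f ≫ i := pullback.lift_fst _ _ _
  rw [← e1, ← w] at outer1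
  have left1 : IsPullback k₁ (pullback.fst f f) (pullback.fst f' (i ≫ f')) i :=
    IsPullback.of_right outer1 e1' sqM
  -- `k₂` is a base change of `i`
  have e2 : k₂ ≫ pullback.fst f' f' = pullback.fst f' (i ≫ f') := pullback.lift_fst _ _ _
  have e2' : k₂ ≫ pullback.snd f' f' = pullback.snd f' (i ≫ f') ≫ i := pullback.lift_snd _ _ _
  have outer2 : IsPullback (k₂ ≫ pullback.fst f' f') (pullback.snd f' (i ≫ f')) f' (i ≫ f') := by
    rw [e2]
    exact IsPullback.of_hasPullback f' (i ≫ f')
  have left2 : IsPullback k₂ (pullback.snd f' (i ≫ f')) (pullback.snd f' f') i :=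
    IsPullback.of_right outer2 e2' (IsPullback.of_hasPullback f' f')
  refine ⟨k₁ ≫ k₂, isThickMor_comp (isThickMor_of_isPullback left1.flip hi)
    (isThickMor_of_isPullback left2.flip hi), ?_⟩
  apply pullback.hom_ext
  · rw [Category.assoc, Category.assoc, e2, e1', ← Category.assoc, pullback.diagonal_fst,
      Category.id_comp, Category.assoc, pullback.diagonal_fst, Category.comp_id]
  · rw [Category.assoc, Category.assoc, e2', ← Category.assoc k₁, e1, ← Category.assoc,
      pullback.diagonal_snd, Category.id_comp, Category.assoc, pullback.diagonal_snd,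
      Category.comp_id]

theorem isSeparatedMor_iff_isUnivClosedMor_diagonal (hX : IsAlgSpace X) (f : X ⟶ Y) :
    IsSeparatedMor f ↔ IsUnivClosedMor (pullback.diagonal f) := by
  have hD := Groth.Agent.H49.diagProps_diagonal hX f
  constructor
  · intro hp
    exact Groth.Agent.H49.isUnivClosedMor_of_repWith (Groth.Agent.H49.repWith_of_le
      (fun A B g (hg : IsClosedImmersion g) => (inferInstance : UniversallyClosed g)) hp)
  · intro h
    have h5 := Groth.Agent.H49.repWith_universallyClosed_of_isUnivClosedMor hD.1 h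
    exact Groth.Agent.H49.repWith_isClosedImmersion_of_univClosed_lft_mono h5 hD.2.1
      hD.2.2.2.2.1

theorem isQuasiSeparatedMor_iff_isQuasiCompactMor_diagonal (hX : IsAlgSpace X) (f : X ⟶ Y) :
    IsQuasiSeparatedMor f ↔ IsQuasiCompactMor (pullback.diagonal f) :=
  Groth.Agent.H49.repWith_quasiCompact_iff _ (Groth.Agent.H49.diagProps_diagonal hX f).1

theorem isSeparatedMor_iff_of_thick (hi : IsThickMor i) (hj : IsThickMor j) (w : i ≫ f' = f ≫ j)
    (hX : IsAlgSpace X) (hX' : IsAlgSpace X') (hY : IsAlgSpace Y) (hY' : IsAlgSpace Y') :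
    (IsSeparatedMor f ↔ IsSeparatedMor f') ∧ (IsQuasiSeparatedMor f ↔ IsQuasiSeparatedMor f') := by
  obtain ⟨k, hk, hkw⟩ := exists_thick_diagonal hi hj w
  have hP : IsAlgSpace (pullback f f) :=
    Groth.Agent.H49.isAlgSpace_of_isPullback (IsPullback.of_hasPullback f f) hY.diag hX hX
  have hP' : IsAlgSpace (pullback f' f') :=
    Groth.Agent.H49.isAlgSpace_of_isPullback (IsPullback.of_hasPullback f' f') hY'.diag hX' hX'
  constructor
  · rw [isSeparatedMor_iff_isUnivClosedMor_diagonal hX, isSeparatedMor_iff_isUnivClosedMor_diagonal hX']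
    exact univSp_iff_of_thick topInv_closed hi hk hkw.symm hX hX' hP hP'
  · rw [isQuasiSeparatedMor_iff_isQuasiCompactMor_diagonal hX,
      isQuasiSeparatedMor_iff_isQuasiCompactMor_diagonal hX']
    exact isQuasiCompactMor_iff_of_thick hi hk hkw.symm hX hX' hP hP'

end Groth.Agent.H53
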