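import Groth.Agent.H53.FTThick

/-! Finite type lifts along a finite order thickening for a cartesian square (scheme level). -/

set_option autoImplicit false
universe u

open CategoryTheory CategoryTheory.Limits AlgebraicGeometry

namespace Groth.Agent.H53

set_option backward.isDefEq.respectTransparency false in
theorem ker_appTop_pow_eq_bot {U U' : Scheme.{u}} (i : U ⟶ U') [QuasiCompact i] [IsAffine U']
    (n : ℕ) (hn : i.ker ^ n = ⊥) : RingHom.ker i.appTop.hom ^ n = ⊥ := by
  have h1 : i.ker.ideal ⟨⊤, isAffineOpen_top U'⟩ = RingHom.ker i.appTop.hom :=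
    i.ker_apply ⟨⊤, isAffineOpen_top U'⟩
  have h2 := congr($(hn).ideal ⟨⊤, isAffineOpen_top U'⟩)
  rw [Scheme.IdealSheafData.ideal_pow, Pi.pow_apply, h1] at h2
  rw [h2]
  rfl

/-- Affine case: locally of finite type lifts along a finite order thickening, for a cartesian
square. -/
theorem locallyOfFiniteType_of_isPullback_powZero_affine {U U' V V' : Scheme.{u}} [IsAffine U']
    [IsAffine V'] {i : U ⟶ U'} {h : U ⟶ V} {h' : U' ⟶ V'} {j : V ⟶ V'}
    (sq : IsPullback i h h' j) [IsClosedImmersion j] (n : ℕ) (hpow : i.ker ^ (n + 1) = ⊥)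
    [LocallyOfFiniteType h] : LocallyOfFiniteType h' := by
  have : IsAffine V := isAffine_of_isAffineHom j
  have : IsAffine U := IsAffine.of_isPullback sq
  have hci : IsClosedImmersion i := MorphismProperty.of_isPullback sq.flip inferInstance
  have po := (isPushout_appTop_of_isPullback sq).flip
  rw [HasRingHomProperty.iff_of_isAffine (P := @LocallyOfFiniteType)]
  have hFT : h.appTop.hom.FiniteType :=
    (HasRingHomProperty.iff_of_isAffine (P := @LocallyOfFiniteType)).1 inferInstance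
  have hsurj : Function.Surjective j.appTop.hom :=
    (IsClosedImmersion.isAffine_surjective_of_isAffine j).2
  have hker := ker_appTop_pow_eq_bot i (n + 1) hpow
  let _ : Algebra Γ(V', ⊤) Γ(V, ⊤) := j.appTop.hom.toAlgebra
  let _ : Algebra Γ(V', ⊤) Γ(U', ⊤) := h'.appTop.hom.toAlgebra
  let _ : Algebra Γ(V, ⊤) Γ(U, ⊤) := h.appTop.hom.toAlgebra
  let _ : Algebra Γ(U', ⊤) Γ(U, ⊤) := i.appTop.hom.toAlgebra
  let _ : Algebra Γ(V', ⊤) Γ(U, ⊤) := (h.appTop.hom.comp j.appTop.hom).toAlgebra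
  have : IsScalarTower Γ(V', ⊤) Γ(V, ⊤) Γ(U, ⊤) := IsScalarTower.of_algebraMap_eq' rfl
  have : IsScalarTower Γ(V', ⊤) Γ(U', ⊤) Γ(U, ⊤) := IsScalarTower.of_algebraMap_eq' (by
    have := congrArg (fun k => k.hom) po.w
    exact this)
  have : Algebra.IsPushout Γ(V', ⊤) Γ(V, ⊤) Γ(U', ⊤) Γ(U, ⊤) :=
    CommRingCat.isPushout_iff_isPushout.1 po
  have : Algebra.FiniteType Γ(V, ⊤) Γ(U, ⊤) := hFT
  exact finiteType_of_isPushout_pow (A' := Γ(V', ⊤)) (A := Γ(V, ⊤)) (B' := Γ(U', ⊤))
    (B := Γ(U, ⊤)) hsurj n hker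

end Groth.Agent.H53
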