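import Groth.Agent.H53.ThickBC
import Groth.Agent.H53.FTThickSch

/-! Base change of `n`th order thickenings of algebraic spaces. -/

set_option autoImplicit false
universe u
open CategoryTheory CategoryTheory.Limits AlgebraicGeometry Opposite AlgSp

namespace Groth.Agent.H53

variable {S : Scheme.{u}}

set_option backward.isDefEq.respectTransparency false in
/-- For a cartesian square of a closed immersion into an affine scheme along a morphism from an
affine scheme, the kernel of the pulled back closed immersion is contained in the extension of the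
kernel (global sections). -/
theorem ker_appTop_le_map_of_isPullback {W Z W' V' : Scheme.{u}} (i : W ⟶ Z) [IsClosedImmersion i]
    [IsAffine Z] (p : V' ⟶ Z) [IsAffine V'] (q : W' ⟶ W) (i' : W' ⟶ V')
    (sq : IsPullback q i' i p) :
    RingHom.ker i'.appTop.hom ≤ (RingHom.ker i.appTop.hom).map p.appTop.hom := by
  have hci' : IsClosedImmersion i' := MorphismProperty.of_isPullback sq ‹IsClosedImmersion i›
  obtain ⟨hW, hsurj⟩ := IsClosedImmersion.isAffine_surjective_of_isAffine i
  let I₀ : Ideal Γ(Z, ⊤) := RingHom.ker i.appTop.hom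
  let K : Ideal Γ(V', ⊤) := I₀.map p.appTop.hom
  let e : (Γ(Z, ⊤) ⧸ I₀) ≃+* Γ(W, ⊤) := RingHom.quotientKerEquivOfSurjective hsurj
  have hle : ∀ a ∈ I₀, ((Ideal.Quotient.mk K).comp p.appTop.hom) a = 0 := fun a ha => by
    rw [RingHom.comp_apply, Ideal.Quotient.eq_zero_iff_mem]
    exact Ideal.mem_map_of_mem _ ha
  let ψ : Γ(W, ⊤) →+* Γ(V', ⊤) ⧸ K :=
    (Ideal.Quotient.lift I₀ ((Ideal.Quotient.mk K).comp p.appTop.hom) hle).comp e.symm.toRingHom
  have hψ : i.appTop ≫ CommRingCat.ofHom ψ =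
      p.appTop ≫ CommRingCat.ofHom (Ideal.Quotient.mk K) := by
    ext z
    change ψ (i.appTop.hom z) = _
    have h1 : e.symm (i.appTop.hom z) = Ideal.Quotient.mk I₀ z := by
      rw [RingEquiv.symm_apply_eq]
      rfl
    change (Ideal.Quotient.lift I₀ _ hle) (e.symm (i.appTop.hom z)) = _
    rw [h1, Ideal.Quotient.lift_mk]
    rfl
  let s : Spec (.of (Γ(V', ⊤) ⧸ K)) ⟶ V' :=
    Spec.map (CommRingCat.ofHom (Ideal.Quotient.mk K)) ≫ V'.isoSpec.inv
  let r : Spec (.of (Γ(V', ⊤) ⧸ K)) ⟶ W := Spec.map (CommRingCat.ofHom ψ) ≫ W.isoSpec.inv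
  have hrs : r ≫ i = s ≫ p := by
    simp only [r, s, Category.assoc]
    rw [← Scheme.isoSpec_inv_naturality i, ← Scheme.isoSpec_inv_naturality p,
      ← Spec.map_comp_assoc, ← Spec.map_comp_assoc, hψ]
  obtain ⟨t, -, ht⟩ : ∃ t, t ≫ q = r ∧ t ≫ i' = s :=
    ⟨sq.lift r s hrs, sq.lift_fst _ _ _, sq.lift_snd _ _ _⟩
  have ht' : t ≫ i' ≫ V'.isoSpec.hom = Spec.map (CommRingCat.ofHom (Ideal.Quotient.mk K)) := by
    rw [← Category.assoc, ht]
    simp only [s, Category.assoc, Iso.inv_hom_id, Category.comp_id]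
  have hfac : CommRingCat.ofHom (Ideal.Quotient.mk K) =
      i'.appTop ≫ (t.appTop ≫ (Scheme.ΓSpecIso (.of (Γ(V', ⊤) ⧸ K))).hom) := by
    have hnat := Scheme.ΓSpecIso_naturality (CommRingCat.ofHom (Ideal.Quotient.mk K))
    have h4 := congrArg Scheme.Hom.appTop ht'
    simp only [Scheme.Hom.comp_appTop] at h4
    rw [Scheme.isoSpec_hom, Scheme.toSpecΓ_appTop] at h4
    rw [← h4, Category.assoc, Category.assoc] at hnat
    rw [← cancel_epi (Scheme.ΓSpecIso Γ(V', ⊤)).hom]
    exact hnat.symm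
  intro x hx
  change x ∈ K
  rw [← Ideal.Quotient.eq_zero_iff_mem]
  have h2 := congr(($hfac).hom x)
  simp only [CommRingCat.hom_comp, RingHom.comp_apply] at h2
  rw [RingHom.mem_ker.mp hx, map_zero, map_zero] at h2
  exact h2

set_option backward.isDefEq.respectTransparency false in
/-- A closed immersion into an affine scheme whose kernel on global sections has vanishing
`m`th power has kernel ideal sheaf with vanishing `m`th power. -/
theorem ker_pow_eq_bot_of_ker_appTop {W V : Scheme.{u}} (i : W ⟶ V) [QuasiCompact i] [IsAffine V]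
    (m : ℕ) (h : RingHom.ker i.appTop.hom ^ m = ⊥) : i.ker ^ m = ⊥ := by
  apply Scheme.IdealSheafData.ext_of_isAffine
  have h1 : i.ker.ideal ⟨⊤, isAffineOpen_top _⟩ = RingHom.ker i.appTop.hom :=
    i.ker_apply ⟨⊤, isAffineOpen_top _⟩
  rw [Scheme.IdealSheafData.ideal_pow, Pi.pow_apply, h1, h]
  rfl

/-- Base change of an `n`th order closed immersion into an affine scheme along a morphism from
an affine scheme. -/
theorem powZero_of_isPullback_of_isAffine {W Z W' V' : Scheme.{u}} (i : W ⟶ Z)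
    [IsClosedImmersion i] [IsAffine Z] (n : ℕ) (hi : i.ker ^ (n + 1) = ⊥) (p : V' ⟶ Z)
    [IsAffine V'] (q : W' ⟶ W) (i' : W' ⟶ V') (sq : IsPullback q i' i p) :
    i'.ker ^ (n + 1) = ⊥ := by
  have hci' : IsClosedImmersion i' := MorphismProperty.of_isPullback sq ‹IsClosedImmersion i›
  have hI₀ := ker_appTop_pow_eq_bot i (n + 1) hi
  have hle := ker_appTop_le_map_of_isPullback i p q i' sq
  refine ker_pow_eq_bot_of_ker_appTop i' (n + 1) ?_
  rw [eq_bot_iff]
  refine (Ideal.pow_right_mono hle (n + 1)).trans ?_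
  rw [← Ideal.map_pow, hI₀, Ideal.map_bot]

set_option backward.isDefEq.respectTransparency false in
/-- A closed immersion into an affine scheme has `n`th order as soon as it is dominated, over a
jointly surjective family of flat morphisms from affine schemes, by `n`th order closed
immersions. -/
theorem powZero_of_flat_family {W V : Scheme.{u}} (i : W ⟶ V) [IsClosedImmersion i] [IsAffine V]
    (n : ℕ) {ι : Type*} (Vk : ι → Scheme.{u}) (c : ∀ k, Vk k ⟶ V) [∀ k, IsAffine (Vk k)]
    [∀ k, Flat (c k)] (hs : ∀ z : V, ∃ k, z ∈ Set.range (c k))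
    (Wk : ι → Scheme.{u}) (ik : ∀ k, Wk k ⟶ Vk k) (q : ∀ k, Wk k ⟶ W)
    (hcomm : ∀ k, ik k ≫ c k = q k ≫ i) [∀ k, IsClosedImmersion (ik k)]
    (hk : ∀ k, (ik k).ker ^ (n + 1) = ⊥) : i.ker ^ (n + 1) = ⊥ := by
  refine ker_pow_eq_bot_of_ker_appTop i (n + 1) ?_
  rw [eq_bot_iff]
  intro z hz
  rw [Ideal.mem_bot]
  refine eq_zero_of_flat_family Vk c hs z fun k => ?_
  have hker : RingHom.ker i.appTop.hom ≤ (RingHom.ker (ik k).appTop.hom).comap (c k).appTop.hom := by
    intro z hz
    rw [Ideal.mem_comap, RingHom.mem_ker]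
    have h3 := congrArg Scheme.Hom.appTop (hcomm k)
    simp only [Scheme.Hom.comp_appTop] at h3
    have h4 := congr(($h3).hom z)
    simp only [CommRingCat.hom_comp, RingHom.comp_apply] at h4
    rw [h4, RingHom.mem_ker.mp hz, map_zero]
  have hpow := ker_appTop_pow_eq_bot (ik k) (n + 1) (hk k)
  have h5 : RingHom.ker i.appTop.hom ^ (n + 1) ≤
      ((RingHom.ker (ik k).appTop.hom) ^ (n + 1)).comap (c k).appTop.hom :=
    (Ideal.pow_right_mono hker (n + 1)).trans (Ideal.le_comap_pow _ _)
  have h6 := h5 hz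
  rw [hpow, Ideal.mem_comap, Ideal.mem_bot] at h6
  exact h6

/-- One chart of the base change argument for `n`th order thickenings. -/
theorem exists_powZero_over_chart {T T' : Sp S} {j : T ⟶ T'} {n : ℕ} (hj : IsNThickMor n j)
    {V W : Over S} (t : (yon S).obj V ⟶ T') (fst : (yon S).obj W ⟶ T) (snd : W ⟶ V)
    (sq : IsPullback fst ((yon S).map snd) j t) {P Z : Over S} (hP : IsAffine P.left)
    (hZ : IsAffine Z.left) (c : P ⟶ V) (β : (yon S).obj Z ⟶ T') (hβ : RepWith @Etale β)
    (l : P ⟶ Z) (hcomm : (yon S).map c ≫ t = (yon S).map l ≫ β) :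
    ∃ (Wk : Over S) (ik : Wk ⟶ P) (q : Wk ⟶ W), ik ≫ c = q ≫ snd ∧
      IsClosedImmersion ik.left ∧ powZero n ik.left := by
  have hrep : Representable j := hj.1.rep
  have sq' := hrep.isPullback β
  have hsz' : powZero n (hrep.snd β).left := hj.2 β (hrep.fst β) (hrep.snd β) hZ hβ sq'
  have hth' : thick (hrep.snd β).left := hj.1.property β _ _ sq'
  have sqk := hrep.isPullback ((yon S).map l ≫ β)
  have hthk : thick (hrep.snd ((yon S).map l ≫ β)).left := hj.1.property _ _ _ sqk
  obtain ⟨m, hm1, hm2⟩ : ∃ m, m ≫ hrep.fst β = hrep.fst ((yon S).map l ≫ β) ∧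
      m ≫ (yon S).map (hrep.snd β) = (yon S).map (hrep.snd ((yon S).map l ≫ β)) ≫ (yon S).map l :=
    ⟨sq'.lift _ _ (by rw [sqk.w, Category.assoc]), sq'.lift_fst _ _ _, sq'.lift_snd _ _ _⟩
  obtain ⟨m₀, rfl⟩ := (yon S).map_surjective m
  have sqL : IsPullback ((yon S).map m₀) ((yon S).map (hrep.snd ((yon S).map l ≫ β)))
      ((yon S).map (hrep.snd β)) ((yon S).map l) :=
    IsPullback.of_right (by rw [hm1]; exact sqk) hm2 sq'
  have sqL' : IsPullback m₀ (hrep.snd ((yon S).map l ≫ β)) (hrep.snd β) l :=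
    IsPullback.of_map (yon S) ((yon S).map_injective (by
      rw [Functor.map_comp, Functor.map_comp]; exact sqL.w)) sqL
  have sqL'' := sqL'.map (Over.forget S)
  have : IsClosedImmersion (hrep.snd β).left := hth'.1
  have hszk : powZero n (hrep.snd ((yon S).map l ≫ β)).left :=
    powZero_of_isPullback_of_isAffine (hrep.snd β).left n hsz' l.left m₀.left
      (hrep.snd ((yon S).map l ≫ β)).left sqL''
  obtain ⟨q, hq1, hq2⟩ : ∃ q, q ≫ fst = hrep.fst ((yon S).map l ≫ β) ∧
      q ≫ (yon S).map snd = (yon S).map (hrep.snd ((yon S).map l ≫ β)) ≫ (yon S).map c :=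
    ⟨sq.lift _ _ (by rw [sqk.w, Category.assoc, hcomm]), sq.lift_fst _ _ _, sq.lift_snd _ _ _⟩
  obtain ⟨q₀, rfl⟩ := (yon S).map_surjective q
  refine ⟨hrep.pullback ((yon S).map l ≫ β), hrep.snd ((yon S).map l ≫ β), q₀, ?_, hthk.1, hszk⟩
  apply (yon S).map_injective
  rw [Functor.map_comp, Functor.map_comp, hq2]

/-- An `n`th order thickening of algebraic spaces pulls back to an `n`th order closed immersion
along an ARBITRARY map from an affine scheme (not only along etale charts). -/
theorem powZero_of_isPullback_of_isNThickMor {T T' : Sp S} {j : T ⟶ T'} {n : ℕ}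
    (hj : IsNThickMor n j) (hT' : IsAlgSpace T') {V W : Over S} (hV : IsAffine V.left)
    (t : (yon S).obj V ⟶ T') (fst : (yon S).obj W ⟶ T) (snd : W ⟶ V)
    (sq : IsPullback fst ((yon S).map snd) j t) : powZero n snd.left := by
  have hth : thick snd.left := hj.1.property t fst snd sq
  have : IsClosedImmersion snd.left := hth.1
  obtain ⟨ι, P, c, Z, β, l, hP, hZ, hβ, hc, hsurj, hcomm⟩ := exists_affine_etale_refinement hT' V t
  choose Wk ik q h1 h2 h3 using fun k =>
    exists_powZero_over_chart hj t fst snd sq (hP k) (hZ k) (c k) (β k) (hβ k) (l k) (hcomm k)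
  have : ∀ k, Flat (c k).left := fun k => by
    have := hc k
    infer_instance
  exact powZero_of_flat_family snd.left n (fun k => (P k).left) (fun k => (c k).left) hsurj
    (fun k => (Wk k).left) (fun k => (ik k).left) (fun k => (q k).left)
    (fun k => by rw [← Over.comp_left, ← Over.comp_left, h1 k]) h3

/-- `n`th order thickenings of algebraic spaces are stable under arbitrary base change. -/
theorem isNThickMor_of_isPullback {T T' R R' : Sp S} {j : T ⟶ T'} {n : ℕ} (hj : IsNThickMor n j)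
    (hT' : IsAlgSpace T') {j' : R ⟶ R'} {p : R ⟶ T} {p' : R' ⟶ T'} (sq : IsPullback p j' j p') :
    IsNThickMor n j' := by
  refine ⟨MorphismProperty.of_isPullback (P := AlgSp.RepWith AlgSp.thick) sq hj.1, ?_⟩
  intro V W b fst snd hV hb sq₂
  exact powZero_of_isPullback_of_isNThickMor hj hT' hV (b ≫ p') (fst ≫ p) snd (sq₂.paste_horiz sq)

/-- Finite order thickenings of algebraic spaces are stable under arbitrary base change. -/
theorem isFinThickMor_of_isPullback {T T' R R' : Sp S} {j : T ⟶ T'} (hj : IsFinThickMor j)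
    (hT' : IsAlgSpace T') {j' : R ⟶ R'} {p : R ⟶ T} {p' : R' ⟶ T'} (sq : IsPullback p j' j p') :
    IsFinThickMor j' := by
  obtain ⟨n, hn⟩ := hj
  exact ⟨n, isNThickMor_of_isPullback hn hT' sq⟩

end Groth.Agent.H53
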