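import Groth.Agent.H53.ThickChart
import Groth.Agent.H53.FTThickSch
import Groth.Agent.H53.FibreDimThick

/-! Base change of a chart diagram along a cartesian morphism of thickenings; finite type and
fibre dimension along finite order thickenings. -/

set_option autoImplicit false
universe u

open CategoryTheory CategoryTheory.Limits AlgebraicGeometry Opposite
open AlgSp

namespace Groth.Agent.H53

variable {S : Scheme.{u}}

/-- The base change of a chart diagram of `f'` along a cartesian morphism of thickenings. -/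
theorem exists_thick_chart_square {X X' Y Y' : Sp S} {i : X ⟶ X'} {j : Y ⟶ Y'} {f : X ⟶ Y}
    {f' : X' ⟶ Y'} (hi : IsThickMor i) (hj : IsThickMor j) (hcart : IsPullback i f f' j)
    {U' V' : Over S} (a' : (yon S).obj U' ⟶ X') (b' : (yon S).obj V' ⟶ Y') (h' : U' ⟶ V')
    (ha' : RepWith @Etale a') (hb' : RepWith @Etale b') (hcomm : a' ≫ f' = (yon S).map h' ≫ b') :
    ∃ (U V : Over S) (a : (yon S).obj U ⟶ X) (b : (yon S).obj V ⟶ Y) (h : U ⟶ V) (i₀ : U ⟶ U')
      (j₀ : V ⟶ V'), RepWith @Etale a ∧ RepWith @Etale b ∧ a ≫ f = (yon S).map h ≫ b ∧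
        IsPullback a ((yon S).map i₀) i a' ∧ IsPullback b ((yon S).map j₀) j b' ∧
        IsPullback i₀.left h.left h'.left j₀.left ∧ thick i₀.left ∧ thick j₀.left := by
  have sqV := hj.rep.isPullback b'
  have sqU := hi.rep.isPullback a'
  have hjV : thick (hj.rep.snd b').left := hj.property_snd b'
  have hiU : thick (hi.rep.snd a').left := hi.property_snd a'
  have hbV : RepWith @Etale (hj.rep.fst b') := MorphismProperty.of_isPullback sqV.flip hb'
  have haU : RepWith @Etale (hi.rep.fst a') := MorphismProperty.of_isPullback sqU.flip ha'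
  have hw : (hi.rep.fst a' ≫ f) ≫ j = ((yon S).map (hi.rep.snd a' ≫ h')) ≫ b' := by
    rw [Category.assoc, ← hcart.w, ← Category.assoc, sqU.w, Category.assoc, hcomm,
      Functor.map_comp, Category.assoc]
  obtain ⟨k, hk1, hk2⟩ := sqV.exists_lift _ _ hw
  obtain ⟨h, rfl⟩ := (yon S).map_surjective k
  have outer : IsPullback (hi.rep.fst a' ≫ f) ((yon S).map (hi.rep.snd a')) j (a' ≫ f') :=
    sqU.paste_horiz hcart.flip
  rw [hcomm, ← hk1] at outer
  have left : IsPullback ((yon S).map h) ((yon S).map (hi.rep.snd a'))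
      ((yon S).map (hj.rep.snd b')) ((yon S).map h') :=
    IsPullback.of_right outer (by rw [hk2, Functor.map_comp]) sqV
  have left' : IsPullback h (hi.rep.snd a') (hj.rep.snd b') h' :=
    IsPullback.of_map (yon S) ((yon S).map_injective (by
      rw [Functor.map_comp, Functor.map_comp]; exact left.w)) left
  have left'' := (left'.map (Over.forget S)).flip
  exact ⟨_, _, hi.rep.fst a', hj.rep.fst b', h, hi.rep.snd a', hj.rep.snd b', haU, hbV, hk1.symm,
    sqU, sqV, left'', hiU, hjV⟩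


/-- Locally of finite type lifts along a cartesian morphism of thickenings whose source
thickening has finite order. -/
theorem locP_lft_of_finThick {X X' Y Y' : Sp S} {i : X ⟶ X'} {j : Y ⟶ Y'} {f : X ⟶ Y}
    {f' : X' ⟶ Y'} (hi : IsFinThickMor i) (hj : IsThickMor j) (hcart : IsPullback i f f' j)
    (hP : LocP @LocallyOfFiniteType f) : LocP @LocallyOfFiniteType f' := by
  obtain ⟨n, hthick, hpow⟩ := hi
  intro U' V' a' b' h' ha' hb' hcomm
  have : MorphismProperty.RespectsRight @LocallyOfFiniteType @IsOpenImmersion :=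
    ⟨fun i hi f hf => by
      have : IsOpenImmersion i := hi
      have : LocallyOfFiniteType f := hf
      exact MorphismProperty.comp_mem _ f i hf inferInstance⟩
  rw [IsZariskiLocalAtSource.iff_exists_resLE (P := @LocallyOfFiniteType)]
  intro x
  obtain ⟨_, ⟨W', hW', rfl⟩, hxW', -⟩ :=
    V'.left.isBasis_affineOpens.exists_subset_of_mem_open (Set.mem_univ (h'.left x)) isOpen_univ
  obtain ⟨_, ⟨T', hT', rfl⟩, hxT', hTW : T' ≤ h'.left ⁻¹ᵁ W'⟩ :=
    U'.left.isBasis_affineOpens.exists_subset_of_mem_open hxW' (h'.left ⁻¹ᵁ W').isOpen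
  refine ⟨W', T', hxT', hTW, ?_⟩
  let T'S : Over S := Over.mk (Scheme.Opens.ι T' ≫ U'.hom)
  let W'S : Over S := Over.mk (Scheme.Opens.ι W' ≫ V'.hom)
  let ιT : T'S ⟶ U' := Over.homMk (Scheme.Opens.ι T') rfl
  let ιW : W'S ⟶ V' := Over.homMk (Scheme.Opens.ι W') rfl
  let h'' : T'S ⟶ W'S := Over.homMk (h'.left.resLE W' T' hTW) (by
    change h'.left.resLE W' T' hTW ≫ Scheme.Opens.ι W' ≫ V'.hom = Scheme.Opens.ι T' ≫ U'.hom
    rw [Scheme.Hom.resLE_comp_ι_assoc, Over.w])
  have hh'' : h'' ≫ ιW = ιT ≫ h' := Over.OverMorphism.ext (Scheme.Hom.resLE_comp_ι _ _)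
  have ha'' : RepWith @Etale ((yon S).map ιT ≫ a') :=
    repWith_etale_map_comp ιT (by change Etale (Scheme.Opens.ι T'); infer_instance) a' ha'
  have hb'' : RepWith @Etale ((yon S).map ιW ≫ b') :=
    repWith_etale_map_comp ιW (by change Etale (Scheme.Opens.ι W'); infer_instance) b' hb'
  have hcomm'' : ((yon S).map ιT ≫ a') ≫ f' = (yon S).map h'' ≫ ((yon S).map ιW ≫ b') := by
    rw [Category.assoc, hcomm, ← Category.assoc, ← Functor.map_comp, ← hh'', Functor.map_comp,
      Category.assoc]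
  obtain ⟨U, V, a, b, h, i₀, j₀, hae, hbe, hc, sqa, sqb, sq, hi₀, hj₀⟩ :=
    exists_thick_chart_square hthick hj hcart _ _ h'' ha'' hb'' hcomm''
  have hPh : LocallyOfFiniteType h.left := hP a b h hae hbe hc
  have hpow₀ : powZero n i₀.left := hpow _ a i₀ hT' ha'' sqa
  have : IsClosedImmersion j₀.left := hj₀.1
  have : IsAffine (Scheme.Opens.toScheme T') := hT'
  have : IsAffine (Scheme.Opens.toScheme W') := hW'
  exact locallyOfFiniteType_of_isPullback_powZero_affine sq n hpow₀


/-- Transfer of a pointed chart diagram of `f'` to a pointed chart diagram of `f` with the same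
local dimension of the fibre. -/
theorem exists_chart_fibreDim_of_thick {X X' Y Y' : Sp S} {i : X ⟶ X'} {j : Y ⟶ Y'} {f : X ⟶ Y}
    {f' : X' ⟶ Y'} (hi : IsThickMor i) (hj : IsThickMor j) (hcart : IsPullback i f f' j)
    {U' V' : Over S} (a' : (yon S).obj U' ⟶ X') (b' : (yon S).obj V' ⟶ Y') (h' : U' ⟶ V')
    (ha' : RepWith @Etale a') (hb' : RepWith @Etale b') (hcomm : a' ≫ f' = (yon S).map h' ≫ b')
    (u' : ↥U'.left) (x : Points X) (hx : Points.map i x = Points.ofPt a' u') :
    ∃ (U V : Over S) (a : (yon S).obj U ⟶ X) (b : (yon S).obj V ⟶ Y) (h : U ⟶ V) (u : ↥U.left),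
      RepWith @Etale a ∧ RepWith @Etale b ∧ a ≫ f = (yon S).map h ≫ b ∧ Points.ofPt a u = x ∧
        FlatMor.fibreDimAt h.left u = FlatMor.fibreDimAt h'.left u' := by
  obtain ⟨U, V, a, b, h, i₀, j₀, hae, hbe, hc, sqa, sqb, sq, hi₀, hj₀⟩ :=
    exists_thick_chart_square hi hj hcart a' b' h' ha' hb' hcomm
  have : Surjective i₀.left := hi₀.2
  have : IsClosedImmersion j₀.left := hj₀.1
  obtain ⟨u, rfl⟩ := i₀.left.surjective u'
  refine ⟨U, V, a, b, h, u, hae, hbe, hc, ?_, ?_⟩
  · apply (isHomeomorph_points_of_isThickMor i hi).injective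
    rw [hx, Points.map_ofPt, sqa.w, ofPt_yon_map_comp]
  · exact fibreDimAt_eq_of_isPullback_isPreimmersion sq u

/-- The pointwise fibre dimension condition transfers along a cartesian morphism of
thickenings. -/
theorem hasAtMor_fibreDim_iff_of_thick {X X' Y Y' : AlgSp.Space S} (i : X ⟶ X') (j : Y ⟶ Y')
    (f : X ⟶ Y) (f' : X' ⟶ Y') (hi : IsThickMor i.hom) (hj : IsThickMor j.hom)
    (hcart : IsPullback i.hom f.hom f'.hom j.hom) (d : WithBot ℕ∞) :
    (∀ x, HasAtMor (fun _ _ h u => FlatMor.fibreDimAt h u = d) f.hom x) ↔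
      (∀ x', HasAtMor (fun _ _ h u => FlatMor.fibreDimAt h u = d) f'.hom x') := by
  constructor
  · intro H x'
    obtain ⟨x, rfl⟩ := (isHomeomorph_points_of_isThickMor i.hom hi).surjective x'
    obtain ⟨U₁, V₁, a₁, b₁, h₁, u₁, ha₁, hb₁, e₁, hu₁, hd₁⟩ := H x
    obtain ⟨U', V', a', b', h', u', ha', hb', e', hu'⟩ :=
      Groth.Agent.H51.exists_chart_diagram f' (Points.map i.hom x)
    obtain ⟨U, V, a, b, h, u, ha, hb, e, hu, hd⟩ :=
      exists_chart_fibreDim_of_thick hi hj hcart a' b' h' ha' hb' e' u' x hu'.symm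
    refine ⟨U', V', a', b', h', u', ha', hb', e', hu', ?_⟩
    change FlatMor.fibreDimAt h'.left u' = d
    rw [← hd, ← hd₁]
    exact fibreDimAt_chart_indep f.hom a b h a₁ b₁ h₁ ha hb ha₁ hb₁ e e₁ u u₁ (hu.trans hu₁.symm)
  · intro H x
    obtain ⟨U', V', a', b', h', u', ha', hb', e', hu', hd'⟩ := H (Points.map i.hom x)
    obtain ⟨U, V, a, b, h, u, ha, hb, e, hu, hd⟩ :=
      exists_chart_fibreDim_of_thick hi hj hcart a' b' h' ha' hb' e' u' x hu'.symm
    exact ⟨U, V, a, b, h, u, ha, hb, e, hu, hd.trans hd'⟩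

end Groth.Agent.H53
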