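import Mathlib

/-!
# Elementary derivations and projectivity of `R₀ ⊗[B] Ω[B⁄A]`

For an `A`-algebra `B` and a `B`-algebra `R₀`, the `R₀`-module `R₀ ⊗[B] Ω[B⁄A]` is projective if and
only if `A`-derivations from `B` into `R₀`-modules lift along surjections.
-/

set_option autoImplicit false
universe u

namespace Groth.Agent.H53.DerLift

open TensorProduct

variable (A : Type u) [CommRing A] {B : Type u} [CommRing B] [Algebra A B]
  (R₀ : Type u) [CommRing R₀] [Algebra B R₀]

/-- An elementary notion of `A`-derivation from `B` into an `R₀`-module, `B` acting through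
`B → R₀`. -/
structure IsDer {N : Type u} [AddCommGroup N] [Module R₀ N] (D : B → N) : Prop where
  map_add : ∀ x y, D (x + y) = D x + D y
  map_mul : ∀ x y, D (x * y) = algebraMap B R₀ x • D y + algebraMap B R₀ y • D x
  map_algebraMap : ∀ a : A, D (algebraMap A B a) = 0

variable {A R₀}
variable {N : Type u} [AddCommGroup N] [Module R₀ N]

/-- The linear map attached to an elementary derivation. -/
theorem IsDer.exists_linear {D : B → N} (hD : IsDer A R₀ D) :
    ∃ φ : R₀ ⊗[B] Ω[B⁄A] →ₗ[R₀] N, ∀ x, φ (1 ⊗ₜ KaehlerDifferential.D A B x) = D x := by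
  let _ : Module B N := Module.compHom N (algebraMap B R₀)
  have : IsScalarTower B R₀ N := ⟨fun b r n ↦ by
    change (b • r) • n = algebraMap B R₀ b • r • n
    rw [Algebra.smul_def, mul_smul]⟩
  let _ : Module A N := Module.compHom N (algebraMap A B)
  have : IsScalarTower A B N := ⟨fun a b n ↦ by
    change (a • b) • n = algebraMap A B a • b • n
    rw [Algebra.smul_def, mul_smul]⟩
  have hD1 : D 1 = 0 := by
    have := hD.map_algebraMap 1
    rwa [map_one] at this
  let D' : Derivation A B N :=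
    { toFun := D
      map_add' := hD.map_add
      map_smul' := fun a x ↦ by
        rw [Algebra.smul_def, hD.map_mul, hD.map_algebraMap, smul_zero, add_zero]
        rfl
      map_one_eq_zero' := hD1
      leibniz' := fun x y ↦ hD.map_mul x y }
  refine ⟨LinearMap.liftBaseChange R₀ D'.liftKaehlerDifferential, fun x ↦ ?_⟩
  rw [LinearMap.liftBaseChange_tmul, one_smul, Derivation.liftKaehlerDifferential_comp_D]
  rfl

/-- The elementary derivation attached to a linear map. -/
theorem isDer_of_linear (φ : R₀ ⊗[B] Ω[B⁄A] →ₗ[R₀] N) :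
    IsDer A R₀ (fun x ↦ φ (1 ⊗ₜ KaehlerDifferential.D A B x)) where
  map_add x y := by rw [map_add, tmul_add, map_add]
  map_mul x y := by
    have h1 : ∀ (b : B) (ω : Ω[B⁄A]), (1 : R₀) ⊗ₜ[B] (b • ω) =
        algebraMap B R₀ b • ((1 : R₀) ⊗ₜ[B] ω) := by
      intro b ω
      rw [tmul_smul, smul_tmul', smul_tmul', Algebra.smul_def, smul_eq_mul]
    change φ (1 ⊗ₜ KaehlerDifferential.D A B (x * y)) = _
    rw [Derivation.leibniz, tmul_add, map_add, h1, h1, map_smul, map_smul]
  map_algebraMap a := by rw [Derivation.map_algebraMap, tmul_zero, map_zero]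

theorem span_one_tmul_D :
    Submodule.span R₀ (Set.range fun x : B ↦ ((1 : R₀) ⊗ₜ[B] KaehlerDifferential.D A B x)) = ⊤ := by
  rw [eq_top_iff]
  rintro z -
  induction z using TensorProduct.induction_on with
  | zero => exact zero_mem _
  | add x y hx hy => exact add_mem hx hy
  | tmul r ω =>
    have hω : ω ∈ Submodule.span B (Set.range (KaehlerDifferential.D A B)) := by
      rw [KaehlerDifferential.span_range_derivation]
      trivial
    induction hω using Submodule.span_induction with
    | mem ω hω =>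
      obtain ⟨x, rfl⟩ := hω
      have : r ⊗ₜ[B] KaehlerDifferential.D A B x = r • ((1 : R₀) ⊗ₜ[B] KaehlerDifferential.D A B x) := by
        rw [smul_tmul', smul_eq_mul, mul_one]
      rw [this]
      exact Submodule.smul_mem _ _ (Submodule.subset_span ⟨x, rfl⟩)
    | zero => rw [tmul_zero]; exact zero_mem _
    | add ω ω' _ _ h h' => rw [tmul_add]; exact add_mem h h'
    | smul b ω _ h =>
      have : r ⊗ₜ[B] (b • ω) = algebraMap B R₀ b • (r ⊗ₜ[B] ω) := by
        rw [tmul_smul, smul_tmul', smul_tmul', Algebra.smul_def, smul_eq_mul]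
      rw [this]
      exact Submodule.smul_mem _ _ h

theorem linear_ext {φ₁ φ₂ : R₀ ⊗[B] Ω[B⁄A] →ₗ[R₀] N}
    (h : ∀ x, φ₁ (1 ⊗ₜ KaehlerDifferential.D A B x) = φ₂ (1 ⊗ₜ KaehlerDifferential.D A B x)) :
    φ₁ = φ₂ := by
  apply LinearMap.ext_on_range (span_one_tmul_D (A := A) (B := B) (R₀ := R₀))
  exact h

variable (A R₀)

/-- If derivations lift along surjections then `R₀ ⊗[B] Ω[B⁄A]` is projective. -/
theorem projective_of_isDer_lift
    (H : ∀ (N N'' : Type u) [AddCommGroup N] [AddCommGroup N''] [Module R₀ N] [Module R₀ N'']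
      (p : N →ₗ[R₀] N''), Function.Surjective p → ∀ D'' : B → N'', IsDer A R₀ D'' →
        ∃ D : B → N, IsDer A R₀ D ∧ ∀ x, p (D x) = D'' x) :
    Module.Projective R₀ (R₀ ⊗[B] Ω[B⁄A]) := by
  refine Module.Projective.of_lifting_property ?_
  intro N N'' _ _ _ _ f g hf
  obtain ⟨D, hD, hDp⟩ := H N N'' f hf _ (isDer_of_linear g)
  obtain ⟨φ, hφ⟩ := hD.exists_linear
  refine ⟨φ, linear_ext fun x ↦ ?_⟩
  rw [LinearMap.comp_apply, hφ, hDp]

/-- If `R₀ ⊗[B] Ω[B⁄A]` is projective then derivations lift along surjections. -/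
theorem exists_isDer_lift [Module.Projective R₀ (R₀ ⊗[B] Ω[B⁄A])]
    {N N'' : Type u} [AddCommGroup N] [AddCommGroup N''] [Module R₀ N] [Module R₀ N'']
    (p : N →ₗ[R₀] N'') (hp : Function.Surjective p) (D'' : B → N'') (hD'' : IsDer A R₀ D'') :
    ∃ D : B → N, IsDer A R₀ D ∧ ∀ x, p (D x) = D'' x := by
  obtain ⟨φ'', hφ''⟩ := hD''.exists_linear
  obtain ⟨φ, hφ⟩ := Module.projective_lifting_property p φ'' hp
  refine ⟨_, isDer_of_linear φ, fun x ↦ ?_⟩
  have := congr($hφ (1 ⊗ₜ KaehlerDifferential.D A B x))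
  rw [LinearMap.comp_apply] at this
  rw [this, hφ'']

end Groth.Agent.H53.DerLift
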