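import Groth.Agent.S10533
import Groth.Agent.H53.LocalBase
import Groth.Agent.H51.SpFinite
import Groth.Agent.H1.Descent

/-! `RepWith Q` is fpqc local on the base for classes `Q` of affine morphisms of schemes which are
Zariski local on the target and descend along fpqc morphisms. -/

set_option autoImplicit false
universe u

open CategoryTheory CategoryTheory.Limits AlgebraicGeometry
open AlgSp

namespace Groth.Agent.H53

variable {S : Scheme.{u}}

/-- Descent of `RepWith P` along an fpqc covering for a morphism already known to be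
representable. -/
theorem repWith_of_fpqc_cover (P : MorphismProperty Scheme.{u}) [IsZariskiLocalAtTarget P]
    [P.DescendsAlong (@Surjective ⊓ @Flat ⊓ @QuasiCompact)] {ι : Type u} {Y : Sp S}
    (Yi : ι → Sp S) (g : ∀ i, Yi i ⟶ Y) (hcov : IsFpqcCover Yi g) {X : Sp S} (f : X ⟶ Y)
    (hrep : Representable f) (Xi : ι → Sp S) (p : ∀ i, Xi i ⟶ Yi i) (q : ∀ i, Xi i ⟶ X)
    (hsq : ∀ i, IsPullback (q i) (p i) f (g i)) (hp : ∀ i, RepWith P (p i)) : RepWith P f := by
  refine repWith_of_fpqc_local P f hrep fun Z hZ t => ?_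
  obtain ⟨m, W, c, hW, hc, hs, hl⟩ := hcov.2 Z hZ t
  refine ⟨m, W, c, hW, hc, hs, fun j V' fst' s' sq' => ?_⟩
  obtain ⟨i, l, hl⟩ := hl j
  rw [← hl] at sq'
  have sqL := IsPullback.of_right
    (h₁₁ := (hsq i).lift fst' ((yon S).map s' ≫ l) (by rw [sq'.w, Category.assoc]))
    (by rw [(hsq i).lift_fst]; exact sq') ((hsq i).lift_snd _ _ _) (hsq i)
  exact (hp i).2 _ _ _ sqL

theorem isAffineMor_of_repWith (Q : MorphismProperty Scheme.{u})
    (hQ : ∀ {A B : Scheme.{u}} (g : A ⟶ B), Q g → IsAffineHom g) {X Y : Sp S} {f : X ⟶ Y}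
    (hf : RepWith Q f) : IsAffineMor f := by
  intro Z hZ g
  refine ⟨hf.rep.pullback g, hf.rep.snd g, hf.rep.fst g, hf.rep.isPullback g, ?_⟩
  have : IsAffineHom (hf.rep.snd g).left := hQ _ (hf.property_snd g)
  exact isAffine_of_isAffineHom (hf.rep.snd g).left

/-- `RepWith Q` is fpqc local on the base for `Q` a class of affine morphisms of schemes, Zariski
local on the target, which descends along fpqc morphisms. -/
theorem isLocalOnBase_fpqc_repWith_of_affine (Q : MorphismProperty Scheme.{u})
    [IsZariskiLocalAtTarget Q] [Q.DescendsAlong (@Surjective ⊓ @Flat ⊓ @QuasiCompact)]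
    (hQ : ∀ {A B : Scheme.{u}} (g : A ⟶ B), Q g → IsAffineHom g) :
    IsLocalOnBase (IsFpqcCover (S := S)) (RepWith Q) := by
  intro ι Y Yi g hY hYi hcov X f hX Xi p q hXi hsq
  constructor
  · intro hf i
    exact MorphismProperty.of_isPullback (P := RepWith Q) (hsq i) hf
  · intro hp
    have haff : IsAffineMor f :=
      (Groth.Agent.S10533.result S Yi g hY hYi hcov f hX Xi p q hXi hsq).2
        (fun i => isAffineMor_of_repWith Q hQ (hp i))
    exact repWith_of_fpqc_cover Q Yi g hcov f (Groth.Agent.H51.representable_of_isAffineMor haff)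
      Xi p q hsq hp

/-- Transfer of locality on the base along a pointwise equivalence of properties. -/
theorem isLocalOnBase_congr {τ : CovNotion S} {P P' : MorphismProperty (Sp S)}
    (h : ∀ ⦃X Y : Sp S⦄ (f : X ⟶ Y), P f ↔ P' f) (hP : IsLocalOnBase τ P) :
    IsLocalOnBase τ P' := by
  intro ι Y Yi g hY hYi hcov X f hX Xi p q hXi hsq
  rw [← h f]
  simp only [← h]
  exact hP Yi g hY hYi hcov f hX Xi p q hXi hsq

end Groth.Agent.H53
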