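import Groth.Agent.H53.LocSource
import Groth.Agent.H53.EtaleIff
import Groth.Agent.H51.EtSource
import Groth.Agent.H50.EtSrcEasy
import Groth.Agent.H50.EtSrcInst

universe u
open CategoryTheory CategoryTheory.Limits AlgebraicGeometry Opposite AlgSp

namespace Groth.Agent.H53

variable {S : Scheme.{u}}

/-- Etale morphisms are locally quasi-finite. -/
theorem locallyQuasiFinite_of_etale_appLE {X Y : Scheme.{u}} (f : X ⟶ Y) [Etale f] :
    LocallyQuasiFinite f := by
  rw [HasRingHomProperty.iff_appLE (P := @LocallyQuasiFinite)]
  intro U V e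
  have h : (f.appLE U.1 V.1 e).hom.Etale :=
    HasRingHomProperty.appLE (P := @Etale) f inferInstance U V e
  algebraize [(f.appLE U.1 V.1 e).hom]
  have : Algebra.Etale Γ(Y, U.1) Γ(X, V.1) := h
  rw [RingHom.QuasiFinite]
  infer_instance

/-- A Zariski-source-local property, stable under precomposition with etale morphisms, which
descends along surjective etale maps on the source is local at the source for the etale
precoverage. -/
theorem isLocalAtSource_etale_of (P : MorphismProperty Scheme.{u}) [IsZariskiLocalAtSource P]
    (hcomp : ∀ {A B C : Scheme.{u}} (e : A ⟶ B) (h : B ⟶ C), Etale e → P h → P (e ≫ h))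
    (hdesc : ∀ {A B C : Scheme.{u}} (e : A ⟶ B) (h : B ⟶ C), Etale e → Surjective e →
      P (e ≫ h) → P h) :
    P.IsLocalAtSource (Scheme.precoverage @Etale) where
  comp {_ _ f _} hR _ g hg hf := hcomp g f (hR.2 hg) hf
  of_forall_comp {_ _ f R} hR H :=
    Groth.Agent.H51.of_forall_comp_of_mem_etalePrecoverage hdesc f R hR H

/-- Etale coverings are coverings by chartwise etale morphisms. -/
theorem isCover_locP_etale_of_isEtCover {ι : Type u} {X : Sp S} (Xi : ι → Sp S) (g : ∀ i, Xi i ⟶ X)
    (h : IsEtCover Xi g) : IsCover (LocP @Etale) Xi g :=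
  ⟨fun i => locP_etale_of_isEtaleMor (g i) (h.1 i), h.2⟩

/-- Source locality of `LocP P` for etale coverings. -/
theorem isLocalOnSource_etCover_locP (P : MorphismProperty Scheme.{u})
    [P.IsLocalAtSource (Scheme.precoverage @Etale)] :
    IsLocalOnSource (IsEtCover (S := S)) (LocP P) := by
  intro ι X Xi g hX hXi hcov Y f hY
  exact isLocalOnSource_locP_of_precoverage P @Etale le_rfl Xi g hX hXi
    (isCover_locP_etale_of_isEtCover Xi g hcov) f hY

theorem isLocalAtSource_etale_lqf :
    (@LocallyQuasiFinite ⊓ @LocallyOfFiniteType : MorphismProperty Scheme.{u}).IsLocalAtSource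
      (Scheme.precoverage @Etale) :=
  isLocalAtSource_etale_of _
    (fun e h he hh => by
      have := he; have := hh.1; have := hh.2
      have := locallyQuasiFinite_of_etale_appLE e
      exact ⟨inferInstance, inferInstance⟩)
    (fun e h he hs hh =>
      ⟨Groth.Agent.H50.locallyQuasiFinite_of_comp_etale_surjective e h hh.1,
        Groth.Agent.H50.locallyOfFiniteType_of_comp_etale_surjective e h hh.2⟩)

theorem isLocalAtSource_etale_unramified :
    (@LocallyOfFiniteType ⊓ @FormallyUnramified : MorphismProperty Scheme.{u}).IsLocalAtSource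
      (Scheme.precoverage @Etale) :=
  isLocalAtSource_etale_of _
    (fun e h he hh => by
      have := he; have := hh.1; have h2 := hh.2
      exact ⟨inferInstance, MorphismProperty.comp_mem _ e h inferInstance h2⟩)
    (fun e h he hs hh =>
      ⟨Groth.Agent.H50.locallyOfFiniteType_of_comp_etale_surjective e h hh.1,
        Groth.Agent.H51.formallyUnramified_of_comp_etale_surjective e h hh.2⟩)

theorem isLocalAtSource_etale_etale :
    MorphismProperty.IsLocalAtSource (@Etale : MorphismProperty Scheme.{u})
      (Scheme.precoverage @Etale) :=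
  isLocalAtSource_etale_of _
    (fun e h he hh => by
      have := he
      have : Etale h := hh
      exact (inferInstance : Etale (e ≫ h)))
    (fun e h he hs hh => Groth.Agent.H51.etale_of_comp_etale_surjective e h hh)

end Groth.Agent.H53
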