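import Groth.Agent.H53.FormalCharts
import Mathlib.AlgebraicGeometry.Morphisms.FlatMono

universe u
open CategoryTheory CategoryTheory.Limits AlgebraicGeometry Opposite AlgSp

namespace Groth.Agent.H53

variable {S : Scheme.{u}}

/-- The image of an open subset under a thickening (surjective closed immersion) is open. -/
theorem isOpen_range_comp_of_thick {A B C : Scheme.{u}} (k₀ : A ⟶ B) [IsOpenImmersion k₀]
    (σ : B ⟶ C) [IsClosedImmersion σ] [Surjective σ] : IsOpen (Set.range (k₀ ≫ σ)) := by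
  have hbij : Function.Bijective σ := ⟨σ.isClosedEmbedding.injective, σ.surjective⟩
  have h1 : Set.range (k₀ ≫ σ) = (σ '' (Set.range k₀)ᶜ)ᶜ := by
    rw [Set.image_compl_eq hbij, compl_compl]
    ext x
    simp only [Set.mem_range, Set.mem_image, Scheme.Hom.comp_apply]
    constructor
    · rintro ⟨y, rfl⟩
      exact ⟨k₀ y, ⟨y, rfl⟩, rfl⟩
    · rintro ⟨_, ⟨y, rfl⟩, rfl⟩
      exact ⟨y, rfl⟩
  rw [h1]
  exact (σ.isClosedEmbedding.isClosedMap _ k₀.isOpenEmbedding.isOpen_range.isClosed_compl).isOpen_compl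

/-- Base change of a square-zero thickening of affine schemes over `S` along a morphism from an
affine scheme, computed in sheaves. -/
theorem thick_sqZero_of_isPullback_yon {T T' W WT : Over S} (j : T ⟶ T') (hT' : IsAffine T'.left)
    (h1 : thick j.left) (h2 : sqZero j.left) (ω : W ⟶ T') (hW : IsAffine W.left)
    (θ : WT ⟶ T) (wT : WT ⟶ W)
    (sq : IsPullback ((yon S).map θ) ((yon S).map wT) ((yon S).map j) ((yon S).map ω)) :
    thick wT.left ∧ sqZero wT.left := by
  have sq' : IsPullback θ wT j ω :=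
    IsPullback.of_map (yon S) ((yon S).map_injective (by
      rw [Functor.map_comp, Functor.map_comp]; exact sq.w)) sq
  have sq'' := sq'.map (Over.forget S)
  have : IsClosedImmersion j.left := h1.1
  exact ⟨MorphismProperty.of_isPullback sq'' h1,
    sqZero_of_isPullback_of_isAffine j.left h2 ω.left θ.left wT.left sq''⟩

/-- An etale morphism (in the chart sense `IsEtaleMor`) from an algebraic space is formally etale.
The proof avoids deformation of etale algebras: the etale cover of the thickened scheme is found as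
an open subscheme of the pullback of a chart. -/
theorem isFormallyEtaleMor_of_isEtaleMor {Z' Y' : Sp S} (hZ' : IsAlgSpace Z') (e' : Z' ⟶ Y')
    (he' : IsEtaleMor e') : IsFormallyEtaleMor e' := by
  obtain ⟨U, c, hc, hc'⟩ := hZ'.atlas
  have hg : RepWith @Etale (c ≫ e') := he' c hc
  have hgE := isFormallyEtaleMor_of_repWith_etale _ hg
  have hu : IsFormallyUnramifiedMor e' := isFormallyUnramifiedMor_of_comp c e' hc hc'
    (isFormallyUnramifiedMor_of_isFormallyEtaleMor hgE)
  refine isFormallyEtaleMor_of_smooth_of_unramified ?_ hu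
  intro sq
  obtain ⟨V, v, π, P⟩ : ∃ (V : Over S) (v : (yon S).obj V ⟶ (yon S).obj U) (π : V ⟶ sq.ptT'),
      IsPullback v ((yon S).map π) (c ≫ e') sq.bot := ⟨_, _, _, hg.rep.isPullback sq.bot⟩
  obtain ⟨T₁, t₁, ρ, Q⟩ : ∃ (T₁ : Over S) (t₁ : (yon S).obj T₁ ⟶ (yon S).obj U) (ρ : T₁ ⟶ sq.ptT),
      IsPullback t₁ ((yon S).map ρ) c sq.top := ⟨_, _, _, hc.rep.isPullback sq.top⟩
  obtain ⟨VT, τ', σ, R⟩ : ∃ (VT : Over S) (τ' : (yon S).obj VT ⟶ (yon S).obj sq.ptT) (σ : VT ⟶ V),
      IsPullback τ' ((yon S).map σ) ((yon S).map sq.j) ((yon S).map π) :=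
    ⟨_, _, _, (representable_yon_map sq.j).isPullback _⟩
  obtain ⟨τ, rfl⟩ := (yon S).map_surjective τ'
  have hπ : Etale π.left := hg.property _ _ _ P
  have hρ1 : Etale ρ.left := hc.property _ _ _ Q
  have hρ2 : Surjective ρ.left := hc'.property _ _ _ Q
  have hjthick := isFOThickMor_infSq_j sq
  have hσ : thick σ.left := hjthick.1.property _ _ _ R
  have hτ : Etale τ.left := ((repWith_yon_map_iff @Etale π).2 hπ).property _ _ _ R.flip
  have hjsurj : Function.Surjective sq.j.left :=
    Groth.Agent.H8.specMap_quotientMk_surjective sq.I sq.sq_zero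
  -- the map `k : T₁ ⟶ V`
  obtain ⟨κ, hκ1, hκ2⟩ : ∃ κ : (yon S).obj T₁ ⟶ (yon S).obj V, κ ≫ v = t₁ ∧
      κ ≫ (yon S).map π = (yon S).map ρ ≫ (yon S).map sq.j :=
    ⟨P.lift t₁ ((yon S).map ρ ≫ (yon S).map sq.j) (by
      rw [← Category.assoc, Q.w, Category.assoc, sq.comm, Category.assoc]),
      P.lift_fst _ _ _, P.lift_snd _ _ _⟩
  obtain ⟨k, rfl⟩ := (yon S).map_surjective κ
  have hkπ : k ≫ π = ρ ≫ sq.j :=
    (yon S).map_injective (by rw [Functor.map_comp, Functor.map_comp]; exact hκ2)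
  -- its factorization `k₀ : T₁ ⟶ VT` through the thickening
  obtain ⟨κ₀, hκ₀1, hκ₀2⟩ : ∃ κ₀ : (yon S).obj T₁ ⟶ (yon S).obj VT,
      κ₀ ≫ (yon S).map τ = (yon S).map ρ ∧ κ₀ ≫ (yon S).map σ = (yon S).map k :=
    ⟨R.lift ((yon S).map ρ) ((yon S).map k) hκ2.symm, R.lift_fst _ _ _, R.lift_snd _ _ _⟩
  obtain ⟨k₀, rfl⟩ := (yon S).map_surjective κ₀
  have hk₀τ : k₀ ≫ τ = ρ := (yon S).map_injective (by rw [Functor.map_comp]; exact hκ₀1)
  have hk₀σ : k₀ ≫ σ = k := (yon S).map_injective (by rw [Functor.map_comp]; exact hκ₀2)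
  have hk₀E : Etale k₀.left := by
    have : Etale (k₀.left ≫ τ.left) := by
      rw [← Over.comp_left, hk₀τ]; exact hρ1
    exact Etale.of_comp k₀.left τ.left
  have hk₀M : Mono k₀.left := by
    have h1 : Mono ((yon S).map k₀) := by
      refine ⟨fun x y hxy => Q.hom_ext ?_ ?_⟩
      · rw [← hκ1, ← hκ₀2]
        simp only [← Category.assoc]
        rw [hxy]
      · rw [← hκ₀1]
        simp only [← Category.assoc]
        rw [hxy]
    have h2 : Mono k₀ := (yon S).mono_of_mono_map h1
    infer_instance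
  have hk₀O : IsOpenImmersion k₀.left := IsOpenImmersion.of_flat_of_mono k₀.left
  have hσC : IsClosedImmersion σ.left := hσ.1
  have hσS : Surjective σ.left := hσ.2
  have hopen : IsOpen (Set.range k.left) := by
    rw [← hk₀σ]
    exact isOpen_range_comp_of_thick k₀.left σ.left
  -- the open subscheme `U₁` of `V` with underlying set the image of `k`
  let U₁ : V.left.Opens := ⟨Set.range k.left, hopen⟩
  have hrange : Set.range k.left ⊆ Set.range U₁.ι := by
    rw [Scheme.Opens.range_ι]; exact subset_rfl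
  have hj₁O : IsOpenImmersion.lift U₁.ι k.left hrange ≫ (overOf V U₁.ι).hom = T₁.hom := by
    change IsOpenImmersion.lift U₁.ι k.left hrange ≫ U₁.ι ≫ V.hom = T₁.hom
    rw [IsOpenImmersion.lift_fac_assoc, Over.w k]
  let j₁ : T₁ ⟶ overOf V U₁.ι := Over.homMk (IsOpenImmersion.lift U₁.ι k.left hrange) hj₁O
  have hj₁ : j₁ ≫ overHom V U₁.ι = k := by
    ext
    exact IsOpenImmersion.lift_fac _ _ _
  have hπ₁E : Etale (overHom V U₁.ι ≫ π).left := by
    change Etale (U₁.ι ≫ π.left)
    infer_instance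
  have hπ₁S : Surjective (overHom V U₁.ι ≫ π).left := by
    refine ⟨fun x => ?_⟩
    obtain ⟨t, rfl⟩ := hjsurj x
    obtain ⟨z, rfl⟩ := hρ2.surj t
    refine ⟨j₁.left z, ?_⟩
    have e : j₁ ≫ overHom V U₁.ι ≫ π = ρ ≫ sq.j := by rw [← Category.assoc, hj₁, hkπ]
    have e' : j₁.left ≫ (overHom V U₁.ι ≫ π).left = ρ.left ≫ sq.j.left := by
      rw [← Over.comp_left, ← Over.comp_left, e]
    have := congr($e' z)
    simpa only [Scheme.Hom.comp_apply] using this
  have hEpi : Epi ((yon S).map (overHom V U₁.ι ≫ π)) :=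
    epi_of_repWith_etale_surjective _ ((repWith_yon_map_iff _ _).2 hπ₁E)
      ((repWith_yon_map_iff _ _).2 hπ₁S)
  -- the candidate on the cover `U₁`
  obtain ⟨l, hl⟩ := desc_of_epi ((yon S).map (overHom V U₁.ι ≫ π))
    ((yon S).map (overHom V U₁.ι) ≫ v ≫ c) (fun W g₁ g₂ hW hg => by
      have hω : g₁ ≫ overHom V U₁.ι ≫ π = g₂ ≫ overHom V U₁.ι ≫ π :=
        (yon S).map_injective (by rw [Functor.map_comp, Functor.map_comp]; exact hg)
      obtain ⟨WT, θ', wT, Rw⟩ : ∃ (WT : Over S) (θ' : (yon S).obj WT ⟶ (yon S).obj sq.ptT)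
          (wT : WT ⟶ W), IsPullback θ' ((yon S).map wT) ((yon S).map sq.j)
            ((yon S).map (g₁ ≫ overHom V U₁.ι ≫ π)) :=
        ⟨_, _, _, (representable_yon_map sq.j).isPullback _⟩
      obtain ⟨θ, rfl⟩ := (yon S).map_surjective θ'
      have hT'aff : IsAffine sq.ptT'.left := by dsimp; infer_instance
      have hjt : thick sq.j.left :=
        ⟨IsClosedImmersion.spec_of_surjective _ Ideal.Quotient.mk_surjective, ⟨hjsurj⟩⟩
      have hjs : sqZero sq.j.left := sqZero_specMap_quotientMk sq.I sq.sq_zero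
      obtain ⟨hw1, hw2⟩ := thick_sqZero_of_isPullback_yon sq.j hT'aff hjt hjs _ hW θ wT Rw
      have hthickW : IsFOThickMor ((yon S).map wT) := isFOThickMor_yon_map wT hW hw1 hw2
      have key : ∀ g : W ⟶ overOf V U₁.ι, g ≫ overHom V U₁.ι ≫ π = g₁ ≫ overHom V U₁.ι ≫ π →
          (yon S).map wT ≫ (yon S).map g ≫ (yon S).map (overHom V U₁.ι) ≫ v ≫ c =
            (yon S).map θ ≫ sq.top := by
        intro g hgω
        obtain ⟨ν, hν1, hν2⟩ : ∃ ν : (yon S).obj WT ⟶ (yon S).obj VT,
            ν ≫ (yon S).map τ = (yon S).map θ ∧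
            ν ≫ (yon S).map σ = (yon S).map (wT ≫ g ≫ overHom V U₁.ι) :=
          ⟨R.lift ((yon S).map θ) ((yon S).map (wT ≫ g ≫ overHom V U₁.ι)) (by
            rw [Rw.w, ← Functor.map_comp, ← Functor.map_comp, Category.assoc, Category.assoc, hgω]),
            R.lift_fst _ _ _, R.lift_snd _ _ _⟩
        obtain ⟨n, rfl⟩ := (yon S).map_surjective ν
        have hnτ : n ≫ τ = θ := (yon S).map_injective (by rw [Functor.map_comp]; exact hν1)
        have hnσ : n ≫ σ = wT ≫ g ≫ overHom V U₁.ι :=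
          (yon S).map_injective (by rw [Functor.map_comp]; exact hν2)
        have hr : Set.range n.left ⊆ Set.range k₀.left := by
          rintro _ ⟨x, rfl⟩
          have h1 : σ.left (n.left x) ∈ Set.range k.left := by
            have e' := congrArg (fun q => q.left) hnσ
            simp only [Over.comp_left] at e'
            have e'' := congr($e' x)
            simp only [Scheme.Hom.comp_apply] at e''
            rw [e'']
            exact (g.left (wT.left x)).2
          obtain ⟨z, hz⟩ := h1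
          refine ⟨z, hσC.isClosedEmbedding.injective ?_⟩  
          rw [← hz, ← hk₀σ, Over.comp_left, Scheme.Hom.comp_apply]
        have hrO : IsOpenImmersion.lift k₀.left n.left hr ≫ T₁.hom = WT.hom := by
          rw [← Over.w k₀, IsOpenImmersion.lift_fac_assoc, Over.w n]
        let r : WT ⟶ T₁ := Over.homMk (IsOpenImmersion.lift k₀.left n.left hr) hrO
        have hrk : r ≫ k₀ = n := by
          ext
          exact IsOpenImmersion.lift_fac _ _ _
        have e1 : wT ≫ g ≫ overHom V U₁.ι = r ≫ k := by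
          rw [← hnσ, ← hrk, Category.assoc, hk₀σ]
        have e2 : r ≫ ρ = θ := by rw [← hk₀τ, ← Category.assoc, hrk, hnτ]
        rw [← Category.assoc ((yon S).map g), ← Functor.map_comp, ← Category.assoc,
          ← Functor.map_comp, e1, Functor.map_comp, Category.assoc, ← Category.assoc _ v c, hκ1, Q.w,
          ← Category.assoc, ← Functor.map_comp, e2]
      refine thick_lift_unique e' hu ((yon S).map wT) hthickW (IsAlgSpace.yon_obj W)
        ((yon S).map θ ≫ sq.top) ((yon S).map (g₁ ≫ overHom V U₁.ι ≫ π) ≫ sq.bot) _ _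
        (key g₁ rfl) ?_ (key g₂ hω.symm) ?_
      · simp only [Category.assoc]
        rw [P.w, ← Category.assoc, ← Functor.map_comp, ← Category.assoc, ← Functor.map_comp,
          Category.assoc]
      · simp only [Category.assoc]
        rw [P.w, ← Category.assoc, ← Functor.map_comp, ← Category.assoc, ← Functor.map_comp,
          Category.assoc, hω])
  refine ⟨l, ?_, ?_⟩
  · have : Epi ((yon S).map ρ) := epi_of_repWith_etale_surjective _
      ((repWith_yon_map_iff _ _).2 hρ1) ((repWith_yon_map_iff _ _).2 hρ2)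
    rw [← cancel_epi ((yon S).map ρ)]
    have e : ρ ≫ sq.j = j₁ ≫ (overHom V U₁.ι ≫ π) := by
      rw [← Category.assoc, hj₁, hkπ]
    rw [← Category.assoc, ← Functor.map_comp, e, Functor.map_comp, Category.assoc, hl,
      ← Category.assoc, ← Functor.map_comp, hj₁, ← Category.assoc, hκ1, Q.w]
  · rw [← cancel_epi ((yon S).map (overHom V U₁.ι ≫ π)), ← Category.assoc, hl]
    simp only [Category.assoc]
    rw [P.w, ← Category.assoc, ← Functor.map_comp]

end Groth.Agent.H53
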