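import Mathlib.RingTheory.Etale.StandardEtale
import Mathlib.RingTheory.Unramified.LocalStructure
import Mathlib.RingTheory.Polynomial.Basic
import Mathlib.Algebra.Polynomial.Lifts

/-!
# Lifting standard etale pairs along square-zero surjections
-/

set_option autoImplicit false
universe u
open Polynomial

namespace Groth.Agent.H53

theorem standardEtalePair_ext {R : Type*} [CommRing R] {P Q : StandardEtalePair R}
    (hf : P.f = Q.f) (hg : P.g = Q.g) : P = Q := by
  cases P; cases Q
  simp only at hf hg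
  subst hf hg
  rfl

/-- A standard etale pair lifts along a surjection with square-zero kernel. -/
theorem exists_lift_standardEtalePair {A R : Type*} [CommRing A] [CommRing R] (φ : A →+* R)
    (hsurj : Function.Surjective φ) (hker : RingHom.ker φ ^ 2 = ⊥) (P₀ : StandardEtalePair R) :
    ∃ P' : StandardEtalePair A, P'.map φ = P₀ := by
  obtain ⟨F, hF, -, hFm⟩ :=
    Polynomial.lifts_and_natDegree_eq_and_monic (Polynomial.mem_lifts_of_surjective hsurj P₀.f)
      P₀.monic_f
  obtain ⟨G, hG⟩ := Polynomial.map_surjective φ hsurj P₀.g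
  obtain ⟨p₁, p₂, n, e⟩ := P₀.cond
  obtain ⟨P₁, hP₁⟩ := Polynomial.map_surjective φ hsurj p₁
  obtain ⟨P₂, hP₂⟩ := Polynomial.map_surjective φ hsurj p₂
  set E : A[X] := derivative F * P₁ + F * P₂ - G ^ n with hE
  have hEmap : E.map φ = 0 := by
    rw [hE, Polynomial.map_sub, Polynomial.map_add, Polynomial.map_mul, Polynomial.map_mul,
      Polynomial.map_pow, ← Polynomial.derivative_map, hF, hG, hP₁, hP₂, e, sub_self]
  have hEmem : E ∈ (RingHom.ker φ).map (C : A →+* A[X]) := by
    rw [← Polynomial.ker_mapRingHom, RingHom.mem_ker]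
    exact hEmap
  have hEE : E * E = 0 := by
    have : E * E ∈ ((RingHom.ker φ).map (C : A →+* A[X])) ^ 2 := by
      rw [pow_two]; exact Ideal.mul_mem_mul hEmem hEmem
    rwa [← Ideal.map_pow, hker, Ideal.map_bot, Ideal.mem_bot] at this
  refine ⟨⟨F, hFm, G, P₁ * (G ^ n - E), P₂ * (G ^ n - E), 2 * n, ?_⟩, ?_⟩
  · have h1 : derivative F * P₁ + F * P₂ = G ^ n + E := by rw [hE]; ring
    calc derivative F * (P₁ * (G ^ n - E)) + F * (P₂ * (G ^ n - E))
        = (derivative F * P₁ + F * P₂) * (G ^ n - E) := by ring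
      _ = (G ^ n + E) * (G ^ n - E) := by rw [h1]
      _ = G ^ (2 * n) - E * E := by ring
      _ = G ^ (2 * n) := by rw [hEE, sub_zero]
  · exact standardEtalePair_ext hF hG


open scoped TensorProduct

/-- Local lifting of etale algebras along a square-zero surjection `A → R`: an etale `R`-algebra
`B₀` is, around any prime, the base change of an etale `A`-algebra. -/
theorem exists_etale_lift_away {A R B₀ : Type u} [CommRing A] [CommRing R] [CommRing B₀]
    [Algebra A R] (hsurj : Function.Surjective (algebraMap A R))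
    (hker : RingHom.ker (algebraMap A R) ^ 2 = ⊥) [Algebra R B₀] [Algebra.Etale R B₀]
    (q : Ideal B₀) [q.IsPrime] :
    ∃ f : B₀, f ∉ q ∧ ∃ (B' : Type u) (_ : CommRing B') (_ : Algebra A B'), Algebra.Etale A B' ∧
      Nonempty (Localization.Away f ≃ₐ[R] R ⊗[A] B') := by
  obtain ⟨f, hf, H⟩ := Algebra.IsEtaleAt.exists_isStandardEtale (R := R) q
  obtain ⟨⟨P₀, x₀, hmap, hbij⟩⟩ := H.nonempty_standardEtalePresentation
  obtain ⟨P', rfl⟩ := exists_lift_standardEtalePair (algebraMap A R) hsurj hker P₀
  refine ⟨f, hf, P'.Ring, inferInstance, inferInstance, inferInstance, ⟨?_⟩⟩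
  let 𝓟₁ : StandardEtalePresentation R (Localization.Away f) := ⟨P'.map (algebraMap A R), x₀, hmap, hbij⟩
  let 𝓟₂ : StandardEtalePresentation A P'.Ring :=
    ⟨P', P'.X, P'.hasMap_X, by simpa [StandardEtalePair.lift_X_left] using Function.bijective_id⟩
  exact 𝓟₁.equivRing.trans (𝓟₂.baseChange (T := R)).equivRing.symm

end Groth.Agent.H53
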