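import Mathlib
import Groth.Agent.S1434
import Groth.Agent.H49.Thickening
import Groth.Agent.H8.FormallyEtale

/-!
# First order infinitesimal neighbourhood of a partial section

Given `f : X ⟶ Y`, a thickening `i : T₀ ⟶ T` and a commutative square `a : T₀ ⟶ X`, `b : T ⟶ Y`,
we construct the first order infinitesimal neighbourhood `Z` of the graph of `a` in `X ×_Y T`.
It is affine over `T` and every solution of the lifting problem over a first order thickening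
factors through it.
-/

set_option autoImplicit false
universe u

namespace Groth.Agent.H53.FONbhd

open AlgebraicGeometry CategoryTheory Limits

theorem isInducing_of_comp_surjective {α β γ : Type*} [TopologicalSpace α] [TopologicalSpace β]
    [TopologicalSpace γ] {f : α → β} {g : β → γ} (hf : Continuous f) (hfs : Function.Surjective f)
    (hg : Continuous g) (h : Topology.IsInducing (g ∘ f)) : Topology.IsInducing g := by
  rw [Topology.isInducing_iff]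
  apply le_antisymm hg.le_induced
  intro s hs
  have h1 : IsOpen (f ⁻¹' s) := hs.preimage hf
  obtain ⟨t, ht, hts⟩ := h.isOpen_iff.mp h1
  refine ⟨t, ht, ?_⟩
  ext y
  obtain ⟨x, rfl⟩ := hfs y
  have := Set.ext_iff.mp hts x
  simpa using this

set_option backward.isDefEq.respectTransparency false in
theorem exists_foNbhd {X Y T₀ T : Scheme.{u}} (f : X ⟶ Y) (i : T₀ ⟶ T) [IsClosedImmersion i]
    (hi : Function.Surjective i) (a : T₀ ⟶ X) (b : T ⟶ Y) (w : i ≫ b = a ≫ f) :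
    ∃ (Z : Scheme.{u}) (j : T₀ ⟶ Z) (ζ : Z ⟶ X) (π : Z ⟶ T),
      IsAffineHom π ∧ j ≫ ζ = a ∧ j ≫ π = i ∧ ζ ≫ f = π ≫ b ∧
      (∀ (Q : Scheme.{u}) (l₁ l₂ : Q ⟶ Z), l₁ ≫ ζ = l₂ ≫ ζ → l₁ ≫ π = l₂ ≫ π → l₁ = l₂) ∧
      (∀ (Q₀ Q : Scheme.{u}) (t : Q₀ ⟶ Q), MoreMor.IsFirstOrderThickening t →
        ∀ (r : Q₀ ⟶ T₀) (l : Q ⟶ X) (m : Q ⟶ T), l ≫ f = m ≫ b → t ≫ l = r ≫ a → t ≫ m = r ≫ i →
          ∃ l' : Q ⟶ Z, l' ≫ ζ = l ∧ l' ≫ π = m) := by
  let p₁ := pullback.fst f b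
  let p₂ := pullback.snd f b
  let σ₀ : T₀ ⟶ pullback f b := pullback.lift a i w.symm
  have hσ₁ : σ₀ ≫ p₁ = a := pullback.lift_fst _ _ _
  have hσ₂ : σ₀ ≫ p₂ = i := pullback.lift_snd _ _ _
  have : IsImmersion (σ₀ ≫ p₂) := by rw [hσ₂]; infer_instance
  have : IsImmersion σ₀ := IsImmersion.of_comp σ₀ p₂
  let W := σ₀.coborderRange
  let c : T₀ ⟶ W := σ₀.liftCoborder
  have hc : c ≫ W.ι = σ₀ := σ₀.liftCoborder_ι
  let K := c.ker ^ 2
  let ι' : K.subscheme ⟶ W := K.subschemeι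
  have hK : ι'.ker = K := K.ker_subschemeι
  have hle : ι'.ker ≤ c.ker := by
    rw [hK]
    intro U
    change (c.ker.ideal U) ^ 2 ≤ c.ker.ideal U
    exact Ideal.pow_le_self (by norm_num)
  let j : T₀ ⟶ K.subscheme := IsClosedImmersion.lift ι' c hle
  have hj : j ≫ ι' = c := IsClosedImmersion.lift_fac _ _ _
  have hjsurj : Function.Surjective j := by
    intro z
    have h1 : ι' z ∈ Set.range c := by
      have h2 : ι' z ∈ Set.range ι' := ⟨z, rfl⟩
      rw [K.range_subschemeι, Scheme.IdealSheafData.support_pow _ _ (by norm_num),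
        Scheme.Hom.support_ker, c.isClosedEmbedding.isClosed_range.closure_eq] at h2
      exact h2
    obtain ⟨t, ht⟩ := h1
    refine ⟨t, ι'.isEmbedding.injective ?_⟩
    rw [← Scheme.Hom.comp_apply, hj, ht]
  let ζ : K.subscheme ⟶ X := ι' ≫ W.ι ≫ p₁
  let π : K.subscheme ⟶ T := ι' ≫ W.ι ≫ p₂
  have hjζ : j ≫ ζ = a := by
    simp only [ζ]
    rw [reassoc_of% hj, reassoc_of% hc, hσ₁]
  have hjπ : j ≫ π = i := by
    simp only [π]
    rw [reassoc_of% hj, reassoc_of% hc, hσ₂]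
  have hπsurj : Function.Surjective π := by
    intro t
    obtain ⟨t₀, rfl⟩ := hi t
    exact ⟨j t₀, by rw [← Scheme.Hom.comp_apply, hjπ]⟩
  have hπ : IsAffineHom π := by
    apply isAffineHom_of_isInducing
    · refine isInducing_of_comp_surjective j.continuous hjsurj π.continuous ?_
      have : (π : K.subscheme → T) ∘ (j : T₀ → K.subscheme) = (i : T₀ → T) := by
        ext x
        simp only [Function.comp_apply]
        rw [← Scheme.Hom.comp_apply, hjπ]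
      rw [this]
      exact i.isClosedEmbedding.isInducing
    · rw [hπsurj.range_eq]
      exact isClosed_univ
  refine ⟨K.subscheme, j, ζ, π, hπ, hjζ, hjπ, ?_, ?_, ?_⟩
  · simp only [ζ, π, Category.assoc]
    rw [pullback.condition]
  · intro Q l₁ l₂ h1 h2
    rw [← cancel_mono (ι' ≫ W.ι)]
    apply pullback.hom_ext
    · simpa only [Category.assoc, ζ] using h1
    · simpa only [Category.assoc, π] using h2
  · intro Q₀ Q t ht r l m h1 h2 h3
    have := ht.1.1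
    have htsurj : Function.Surjective t := ht.1.2.surj
    let l' : Q ⟶ pullback f b := pullback.lift l m h1
    have hl'₁ : l' ≫ p₁ = l := pullback.lift_fst _ _ _
    have hl'₂ : l' ≫ p₂ = m := pullback.lift_snd _ _ _
    have htl' : t ≫ l' = r ≫ σ₀ := by
      apply pullback.hom_ext
      · rw [Category.assoc, Category.assoc]
        change t ≫ l' ≫ p₁ = r ≫ σ₀ ≫ p₁
        rw [hl'₁, hσ₁, h2]
      · rw [Category.assoc, Category.assoc]
        change t ≫ l' ≫ p₂ = r ≫ σ₀ ≫ p₂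
        rw [hl'₂, hσ₂, h3]
    have hrange : Set.range l' ⊆ Set.range W.ι := by
      rintro _ ⟨q, rfl⟩
      obtain ⟨q₀, rfl⟩ := htsurj q
      rw [← Scheme.Hom.comp_apply, htl', Scheme.Hom.comp_apply, Scheme.Opens.range_ι]
      exact subset_coborder ⟨_, rfl⟩
    let lW : Q ⟶ W := IsOpenImmersion.lift W.ι l' hrange
    have hlW : lW ≫ W.ι = l' := IsOpenImmersion.lift_fac _ _ _
    have htlW : t ≫ lW = r ≫ c := by
      rw [← cancel_mono W.ι, Category.assoc, hlW, Category.assoc, hc, htl']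
    obtain ⟨lZ, hlZ, -⟩ := Groth.Agent.S1434.result c.ker t ht (r ≫ c.toImage) lW (by
      rw [Category.assoc]
      change r ≫ c.toImage ≫ c.imageι = t ≫ lW
      rw [c.toImage_imageι, htlW])
    refine ⟨lZ, ?_, ?_⟩
    · simp only [ζ]
      change lZ ≫ (c.ker ^ 2).subschemeι ≫ W.ι ≫ p₁ = l
      rw [reassoc_of% hlZ, reassoc_of% hlW, hl'₁]
    · simp only [π]
      change lZ ≫ (c.ker ^ 2).subschemeι ≫ W.ι ≫ p₂ = m
      rw [reassoc_of% hlZ, reassoc_of% hlW, hl'₂]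

/-- Ring-level form of the first order neighbourhood for a lifting problem over `Spec A`. -/
theorem exists_foNbhd_ring {X Y : Scheme.{u}} (f : X ⟶ Y) {A : Type u} [CommRing A] (I : Ideal A)
    (hI : I ^ 2 = ⊥) (a : Spec (CommRingCat.of (A ⧸ I)) ⟶ X) (b : Spec (CommRingCat.of A) ⟶ Y)
    (w : Spec.map (CommRingCat.ofHom (Ideal.Quotient.mk I)) ≫ b = a ≫ f) :
    ∃ (B : CommRingCat.{u}) (α : CommRingCat.of A ⟶ B) (ε : B ⟶ CommRingCat.of (A ⧸ I))
      (ζ : Spec B ⟶ X),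
      α ≫ ε = CommRingCat.ofHom (Ideal.Quotient.mk I) ∧ Spec.map ε ≫ ζ = a ∧
      ζ ≫ f = Spec.map α ≫ b ∧
      (∀ (R : CommRingCat.{u}) (ψ₁ ψ₂ : B ⟶ R), Spec.map ψ₁ ≫ ζ = Spec.map ψ₂ ≫ ζ →
        α ≫ ψ₁ = α ≫ ψ₂ → ψ₁ = ψ₂) ∧
      (∀ (R R₀ : CommRingCat.{u}) (φ : R ⟶ R₀), MoreMor.IsFirstOrderThickening (Spec.map φ) →
        ∀ (θ : CommRingCat.of (A ⧸ I) ⟶ R₀) (β : CommRingCat.of A ⟶ R) (l : Spec R ⟶ X),
          β ≫ φ = CommRingCat.ofHom (Ideal.Quotient.mk I) ≫ θ → l ≫ f = Spec.map β ≫ b →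
          Spec.map φ ≫ l = Spec.map θ ≫ a → ∃ ψ : B ⟶ R, α ≫ ψ = β ∧ Spec.map ψ ≫ ζ = l) := by
  have hi : Function.Surjective (Spec.map (CommRingCat.ofHom (Ideal.Quotient.mk I))) :=
    Groth.Agent.H8.specMap_quotientMk_surjective I hI
  have : IsClosedImmersion (Spec.map (CommRingCat.ofHom (Ideal.Quotient.mk I))) :=
    IsClosedImmersion.spec_of_surjective _ Ideal.Quotient.mk_surjective
  obtain ⟨Z, j, ζ, π, hπ, hjζ, hjπ, hζπ, hmono, hfac⟩ :=
    exists_foNbhd f (Spec.map (CommRingCat.ofHom (Ideal.Quotient.mk I))) hi a b w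
  have hZ : IsAffine Z := isAffine_of_isAffineHom π
  let e : Z ≅ Spec Γ(Z, ⊤) := Z.isoSpec
  let α : CommRingCat.of A ⟶ Γ(Z, ⊤) := Spec.preimage (e.inv ≫ π)
  have hα : Spec.map α = e.inv ≫ π := Spec.map_preimage _
  let ε : Γ(Z, ⊤) ⟶ CommRingCat.of (A ⧸ I) := Spec.preimage (j ≫ e.hom)
  have hε : Spec.map ε = j ≫ e.hom := Spec.map_preimage _
  refine ⟨Γ(Z, ⊤), α, ε, e.inv ≫ ζ, ?_, ?_, ?_, ?_, ?_⟩
  · apply Spec.map_injective
    rw [Spec.map_comp, hα, hε, Category.assoc, Iso.hom_inv_id_assoc, hjπ]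
  · rw [hε, Category.assoc, Iso.hom_inv_id_assoc, hjζ]
  · rw [Category.assoc, hζπ, hα, Category.assoc]
  · intro R ψ₁ ψ₂ h1 h2
    apply Spec.map_injective
    rw [← cancel_mono e.inv]
    apply hmono
    · simpa only [Category.assoc] using h1
    · have := congr(Spec.map $h2)
      simpa only [Spec.map_comp, hα, Category.assoc] using this
  · intro R R₀ φ hφ θ β l h1 h2 h3
    obtain ⟨l', hl'1, hl'2⟩ := hfac (Spec R₀) (Spec R) (Spec.map φ) hφ (Spec.map θ) l (Spec.map β)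
      h2 h3 (by rw [← Spec.map_comp, h1, Spec.map_comp])
    refine ⟨Spec.preimage (l' ≫ e.hom), ?_, ?_⟩
    · apply Spec.map_injective
      rw [Spec.map_comp, Spec.map_preimage, hα, Category.assoc, Iso.hom_inv_id_assoc, hl'2]
    · rw [Spec.map_preimage, Category.assoc, Iso.hom_inv_id_assoc, hl'1]

set_option backward.isDefEq.respectTransparency false in
/-- The local lifting property of the first order neighbourhood ring: ring maps `B ⟶ R''` lift
along surjections `R' ⟶ R''` such that `R' ⟶ R₀` has square-zero kernel, provided `Spec R₀`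
lands in an affine open on which `f` is formally smooth. -/
theorem exists_lift_of_foNbhd {X Y : Scheme.{u}} (f : X ⟶ Y) {A : Type u} [CommRing A] (I : Ideal A)
    (a : Spec (CommRingCat.of (A ⧸ I)) ⟶ X) (b : Spec (CommRingCat.of A) ⟶ Y)
    (B : CommRingCat.{u}) (α : CommRingCat.of A ⟶ B) (ε : B ⟶ CommRingCat.of (A ⧸ I))
    (ζ : Spec B ⟶ X) (h2 : Spec.map ε ≫ ζ = a) (h3 : ζ ≫ f = Spec.map α ≫ b)
    (h4 : ∀ (R : CommRingCat.{u}) (ψ₁ ψ₂ : B ⟶ R), Spec.map ψ₁ ≫ ζ = Spec.map ψ₂ ≫ ζ →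
        α ≫ ψ₁ = α ≫ ψ₂ → ψ₁ = ψ₂)
    (h5 : ∀ (R R₀ : CommRingCat.{u}) (φ : R ⟶ R₀), MoreMor.IsFirstOrderThickening (Spec.map φ) →
        ∀ (θ : CommRingCat.of (A ⧸ I) ⟶ R₀) (β : CommRingCat.of A ⟶ R) (l : Spec R ⟶ X),
          β ≫ φ = CommRingCat.ofHom (Ideal.Quotient.mk I) ≫ θ → l ≫ f = Spec.map β ≫ b →
          Spec.map φ ≫ l = Spec.map θ ≫ a → ∃ ψ : B ⟶ R, α ≫ ψ = β ∧ Spec.map ψ ≫ ζ = l)
    {U : X.Opens} {V : Y.Opens} (hU : IsAffineOpen U) (hV : IsAffineOpen V) (hUV : U ≤ f ⁻¹ᵁ V)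
    (hsm : letI := (f.appLE V U hUV).hom.toAlgebra; Algebra.FormallySmooth Γ(Y, V) Γ(X, U))
    (R' R'' R₀ : CommRingCat.{u}) (π : R' ⟶ R'') (ρ : R'' ⟶ R₀)
    (hπ : Function.Surjective π.hom) (hρ : Function.Surjective ρ.hom)
    (hsq : ∀ x y : R', ρ.hom (π.hom x) = 0 → ρ.hom (π.hom y) = 0 → x * y = 0)
    (β : CommRingCat.of A ⟶ R') (θ : CommRingCat.of (A ⧸ I) ⟶ R₀)
    (hβθ : β ≫ π ≫ ρ = CommRingCat.ofHom (Ideal.Quotient.mk I) ≫ θ)
    (hland : Set.range (Spec.map θ ≫ a) ⊆ U)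
    (ψ'' : B ⟶ R'') (hψ1 : α ≫ ψ'' = β ≫ π) (hψ2 : ψ'' ≫ ρ = ε ≫ θ) :
    ∃ ψ : B ⟶ R', ψ ≫ π = ψ'' ∧ α ≫ ψ = β := by
  have hπt : MoreMor.IsFirstOrderThickening (Spec.map π) :=
    Groth.Agent.H49.isFirstOrderThickening_specMap_of_surjective π hπ (fun x y hx hy ↦
      hsq x y (by rw [hx, map_zero]) (by rw [hy, map_zero]))
  have hρt : MoreMor.IsFirstOrderThickening (Spec.map ρ) :=
    Groth.Agent.H49.isFirstOrderThickening_specMap_of_surjective ρ hρ (fun x y hx hy ↦ by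
      obtain ⟨x', rfl⟩ := hπ x
      obtain ⟨y', rfl⟩ := hπ y
      rw [← map_mul, hsq x' y' hx hy, map_zero])
  have hπρt : MoreMor.IsFirstOrderThickening (Spec.map (π ≫ ρ)) :=
    Groth.Agent.H49.isFirstOrderThickening_specMap_of_surjective (π ≫ ρ)
      (by rw [CommRingCat.hom_comp]; exact hρ.comp hπ) (fun x y hx hy ↦ hsq x y hx hy)
  have := hπt.1.1
  have hnil : IsNilpotent (Spec.map π).ker := ⟨2, by rw [pow_two, hπt.2]; rfl⟩
  let a' : Spec R'' ⟶ X := Spec.map ψ'' ≫ ζ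
  let b' : Spec R' ⟶ Y := Spec.map β ≫ b
  have w' : Spec.map π ≫ b' = a' ≫ f := by
    simp only [a', b']
    rw [← Spec.map_comp_assoc, ← hψ1, Spec.map_comp_assoc, Category.assoc, h3]
  have ha' : Set.range a' ⊆ U := by
    rintro _ ⟨y, rfl⟩
    obtain ⟨y₀, rfl⟩ := hρt.1.2.surj y
    apply hland
    refine ⟨y₀, ?_⟩
    simp only [a']
    rw [← Scheme.Hom.comp_apply, ← Spec.map_comp_assoc, hψ2, Spec.map_comp_assoc, h2]
  have hb' : Set.range b' ⊆ V := by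
    rintro _ ⟨y, rfl⟩
    obtain ⟨y'', rfl⟩ := hπt.1.2.surj y
    rw [← Scheme.Hom.comp_apply, w', Scheme.Hom.comp_apply]
    exact hUV (ha' ⟨y'', rfl⟩)
  obtain ⟨l, hl1, hl2⟩ := Groth.Agent.H8.exists_lift_of_formallySmooth_appLE hU hV hUV hsm
    (Spec.map π) hnil a' b' w' ha' hb'
  obtain ⟨ψ, hψα, hψζ⟩ := h5 R' R₀ (π ≫ ρ) hπρt θ β l hβθ hl2 (by
    rw [Spec.map_comp, Category.assoc, hl1]
    simp only [a']
    rw [← Spec.map_comp_assoc, hψ2, Spec.map_comp_assoc, h2])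
  refine ⟨ψ, ?_, hψα⟩
  apply h4
  · rw [Spec.map_comp, Category.assoc, hψζ, hl1]
  · rw [← Category.assoc, hψα, hψ1]

end Groth.Agent.H53.FONbhd
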