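import Groth.Agent.H53.UnramThick

/-! Finite type lifts along a finite order thickening for a cartesian square (ring level). -/

set_option autoImplicit false
universe u

open TensorProduct

namespace Groth.Agent.H53

theorem surjective_of_isPushout_surjective {A' A B' B : Type u} [CommRing A'] [CommRing A]
    [CommRing B'] [CommRing B] [Algebra A' A] [Algebra A' B'] [Algebra A B] [Algebra B' B]
    [Algebra A' B] [IsScalarTower A' A B] [IsScalarTower A' B' B]
    [Algebra.IsPushout A' A B' B] (hs : Function.Surjective (algebraMap A' A)) :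
    Function.Surjective (algebraMap B' B) := by
  intro b
  obtain ⟨t, rfl⟩ := (Algebra.IsPushout.equiv A' A B' B).surjective b
  induction t using TensorProduct.induction_on with
  | zero => exact ⟨0, by rw [map_zero, map_zero]⟩
  | tmul a b' =>
    obtain ⟨a', rfl⟩ := hs a
    refine ⟨algebraMap A' B' a' * b', ?_⟩
    rw [Algebra.IsPushout.equiv_tmul, map_mul, ← IsScalarTower.algebraMap_apply,
      ← IsScalarTower.algebraMap_apply]
  | add x y hx hy =>
    obtain ⟨b₁, h₁⟩ := hx
    obtain ⟨b₂, h₂⟩ := hy
    exact ⟨b₁ + b₂, by rw [map_add, map_add, h₁, h₂]⟩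

theorem finiteType_of_isPushout_pow {A' A B' B : Type u} [CommRing A'] [CommRing A]
    [CommRing B'] [CommRing B] [Algebra A' A] [Algebra A' B'] [Algebra A B] [Algebra B' B]
    [Algebra A' B] [IsScalarTower A' A B] [IsScalarTower A' B' B]
    [Algebra.IsPushout A' A B' B] (hs : Function.Surjective (algebraMap A' A)) (n : ℕ)
    (hpow : RingHom.ker (algebraMap B' B) ^ (n + 1) = ⊥) [Algebra.FiniteType A B] :
    Algebra.FiniteType A' B' := by
  classical
  obtain ⟨k, f, hf⟩ := Algebra.FiniteType.iff_quotient_mvPolynomial''.1 ‹Algebra.FiniteType A B›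
  have hsB : Function.Surjective (algebraMap B' B) := surjective_of_isPushout_surjective hs
  choose y hy using fun i => hsB (f (MvPolynomial.X i))
  let g : MvPolynomial (Fin k) A' →ₐ[A'] B' := MvPolynomial.aeval y
  have hcompat : ∀ p, algebraMap B' B (g p) = f (MvPolynomial.map (algebraMap A' A) p) := by
    intro p
    induction p using MvPolynomial.induction_on with
    | C a =>
      simp only [g, MvPolynomial.aeval_C, MvPolynomial.map_C]
      rw [← IsScalarTower.algebraMap_apply, ← MvPolynomial.algebraMap_eq, AlgHom.commutes,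
        ← IsScalarTower.algebraMap_apply]
    | add p q hp hq => rw [map_add, map_add, hp, hq, map_add, map_add]
    | mul_X p i hp =>
      rw [map_mul, map_mul, hp, map_mul, map_mul, MvPolynomial.map_X]
      congr 1
      simp only [g, MvPolynomial.aeval_X]
      exact hy i
  set I := RingHom.ker (algebraMap A' A) with hI
  set J := RingHom.ker (algebraMap B' B) with hJ
  let C : Submodule A' B' := Subalgebra.toSubmodule g.range
  have hIJ : I.map (algebraMap A' B') ≤ J := by
    rw [Ideal.map_le_iff_le_comap]
    intro a ha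
    rw [Ideal.mem_comap, hJ, RingHom.mem_ker, ← IsScalarTower.algebraMap_apply,
      IsScalarTower.algebraMap_apply A' A B, (RingHom.mem_ker).1 ha, map_zero]
  -- every element differs from an element of `C` by an element of `J`
  have hdiff : ∀ b' : B', ∃ c ∈ C, b' - c ∈ J := by
    intro b'
    obtain ⟨p, hp⟩ := hf (algebraMap B' B b')
    obtain ⟨p', rfl⟩ := MvPolynomial.map_surjective (algebraMap A' A) hs p
    refine ⟨g p', ⟨p', rfl⟩, ?_⟩
    rw [hJ, RingHom.mem_ker, map_sub, hcompat, hp, sub_self]
  -- `A ⊗ (B'/C) = 0`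
  have hone : ∀ x ∈ J, (1 : A) ⊗ₜ[A'] x = 0 := by
    intro x hx
    apply (Algebra.IsPushout.equiv A' A B' B).injective
    rw [Algebra.IsPushout.equiv_tmul, map_zero, map_one, one_mul]
    exact hx
  have hone' : ∀ b' : B', (1 : A) ⊗ₜ[A'] (C.mkQ b') = 0 := by
    intro b'
    obtain ⟨c, hc, hbc'⟩ := hdiff b'
    have e1 : C.mkQ b' = C.mkQ (b' - c) := by
      have hc0 : C.mkQ c = 0 := (Submodule.Quotient.mk_eq_zero C).2 hc
      rw [map_sub, hc0, sub_zero]
    rw [e1]
    have := congrArg (LinearMap.lTensor A C.mkQ) (hone _ hbc')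
    rwa [LinearMap.lTensor_tmul, map_zero] at this
  have hsub : Subsingleton (A ⊗[A'] (B' ⧸ C)) := by
    refine ⟨fun s t => ?_⟩
    have hz : ∀ t : A ⊗[A'] (B' ⧸ C), t = 0 := by
      intro t
      induction t using TensorProduct.induction_on with
      | zero => rfl
      | tmul a m =>
        obtain ⟨a', rfl⟩ := hs a
        obtain ⟨b', rfl⟩ := C.mkQ_surjective m
        rw [Algebra.algebraMap_eq_smul_one, TensorProduct.smul_tmul, ← map_smul]
        exact hone' _
      | add x y hx hy => rw [hx, hy, add_zero]
    rw [hz s, hz t]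
  have htop := smul_top_eq_top_of_subsingleton_tensor hs (B' ⧸ C) hsub
  have hpowtop : ∀ m : ℕ, (I ^ m • ⊤ : Submodule A' (B' ⧸ C)) = ⊤ := by
    intro m
    induction m with
    | zero => rw [pow_zero, Ideal.one_eq_top, Submodule.top_smul]
    | succ m ih => rw [pow_succ, Submodule.mul_smul, htop, ih]
  have hbot : (I ^ (n + 1) • ⊤ : Submodule A' (B' ⧸ C)) = ⊥ := by
    rw [eq_bot_iff, Submodule.smul_le]
    intro r hr m _
    obtain ⟨b', rfl⟩ := C.mkQ_surjective m
    have h1 : algebraMap A' B' r ∈ J ^ (n + 1) := by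
      have : algebraMap A' B' r ∈ (I ^ (n + 1)).map (algebraMap A' B') :=
        Ideal.mem_map_of_mem _ hr
      rw [Ideal.map_pow] at this
      exact Ideal.pow_right_mono hIJ _ this
    rw [hpow] at h1
    have h2 : algebraMap A' B' r = 0 := h1
    rw [← map_smul, Algebra.smul_def, h2, zero_mul, map_zero]
    exact Submodule.zero_mem _
  have hCtop : C = ⊤ := by
    have h3 : (⊤ : Submodule A' (B' ⧸ C)) = ⊥ := by rw [← hpowtop (n + 1), hbot]
    have : Subsingleton (B' ⧸ C) := (Submodule.subsingleton_iff A').1
      (subsingleton_of_bot_eq_top h3.symm)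
    exact Submodule.Quotient.subsingleton_iff.1 this
  have hg : Function.Surjective g := by
    intro b'
    have : b' ∈ C := by rw [hCtop]; trivial
    exact this
  exact Algebra.FiniteType.of_surjective g hg

end Groth.Agent.H53
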