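import Groth.Agent.H53.FibreEtale

/-! The local dimension of fibres is étale local on source and target (S7408), and invariant
under base change along closed immersions. -/

set_option autoImplicit false
universe u

open CategoryTheory CategoryTheory.Limits AlgebraicGeometry

namespace Groth.Agent.H53

theorem localDim_fiber_eq {U V : Scheme.{u}} (h : U ⟶ V) (x : U) (y : V) (hy : h x = y)
    (z : h.fiber y) (hz : h.fiberι y z = x) :
    FlatMor.localDim (h.fiber y) z = FlatMor.fibreDimAt h x := by
  subst hy
  have : z = h.asFiber x :=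
    (h.fiberι _).isEmbedding.injective (by rw [hz, Scheme.Hom.fiberι_asFiber])
  rw [this]
  rfl

/-- The local dimension of the fibre is étale local on source and target (S7408). -/
theorem fibreDimAt_eq_of_etale_square {U U' V V' : Scheme.{u}} (h : U ⟶ V) (h' : U' ⟶ V')
    (a : U' ⟶ U) (b : V' ⟶ V) [Etale a] [Etale b] (comm : h' ≫ b = a ≫ h) (u' : U') :
    FlatMor.fibreDimAt h (a u') = FlatMor.fibreDimAt h' u' := by
  let φ : h'.fiber (h' u') ⟶ h.fiber (b (h' u')) :=
    pullback.map h' (V'.fromSpecResidueField (h' u')) h (V.fromSpecResidueField (b (h' u'))) a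
      (Spec.map (b.residueFieldMap (h' u'))) b comm (by simp)
  have hφ1 : φ ≫ h.fiberι (b (h' u')) = h'.fiberι (h' u') ≫ a := pullback.lift_fst _ _ _
  have hφ2 : φ ≫ h.fiberToSpecResidueField (b (h' u')) =
      h'.fiberToSpecResidueField (h' u') ≫ Spec.map (b.residueFieldMap (h' u')) :=
    pullback.lift_snd _ _ _
  have : Etale φ := etale_fiberMap h h' a b comm (h' u') φ hφ1 hφ2
  have e := Groth.Agent.H51.localDim_eq_of_etale φ (h'.asFiber u')
  have hy : h (a u') = b (h' u') := by
    rw [← Scheme.Hom.comp_apply, ← comm, Scheme.Hom.comp_apply]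
  have hz : h.fiberι (b (h' u')) (φ (h'.asFiber u')) = a u' := by
    rw [← Scheme.Hom.comp_apply, hφ1, Scheme.Hom.comp_apply, Scheme.Hom.fiberι_asFiber]
  rw [← localDim_fiber_eq h (a u') (b (h' u')) hy _ hz, ← e]
  rfl

end Groth.Agent.H53
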