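import Groth.Agent.H53.FibreDimLSCSp
import Groth.Agent.S10680
import Groth.Agent.H53.ZMT.GenFinDense5
import Groth.Agent.H53.ZMT.GenFinSp
import Groth.Agent.H17.Chev.Main
import Groth.Agent.H17.Chev.DimEqScheme

/-!
# Local constancy of the fibre dimension for proper flat morphisms of finite presentation
-/

set_option autoImplicit false
universe u
open CategoryTheory CategoryTheory.Limits AlgebraicGeometry Opposite

namespace Groth.Agent.H53.FibreDimLSC

open AlgSp

/-- The local fibre dimensions of a morphism locally of finite type with quasi-compact source are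
bounded. -/
theorem exists_nat_fibreDimAt_le {U V : Scheme.{u}} (h : U ⟶ V) [LocallyOfFiniteType h]
    [CompactSpace ↥U] : ∃ N : ℕ, ∀ u : U, FlatMor.fibreDimAt h u ≤ (N : WithBot ℕ∞) := by
  have hcov : (Set.univ : Set U) ⊆ ⋃ n : ℕ, {u : U | FlatMor.fibreDimAt h u ≤ (n : WithBot ℕ∞)} := by
    intro u _
    obtain ⟨n, hn⟩ := Groth.Agent.H17.Chev.exists_nat_eq_fibreDimAt h u
    exact Set.mem_iUnion.2 ⟨n, hn.le⟩
  obtain ⟨t, ht⟩ := isCompact_univ.elim_finite_subcover _
    (fun n => Groth.Agent.H17.Chev.isOpen_setOf_fibreDimAt_le h n) hcov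
  refine ⟨t.sup id, fun u => ?_⟩
  obtain ⟨n, hnt, hn⟩ := Set.mem_iUnion₂.1 (ht (Set.mem_univ u))
  refine le_trans hn ?_
  have : n ≤ t.sup id := Finset.le_sup (f := id) hnt
  exact_mod_cast this

variable {S : Scheme.{u}}

/-- The relative dimensions of a morphism of finite type at the points of a fibre are bounded. -/
theorem exists_nat_hasAtMor_fibreDimAt_le {X Y : AlgSp.Space S} (f : X ⟶ Y)
    (hft : IsFiniteTypeMor f.hom) (y : Points Y.obj) :
    ∃ N : ℕ, ∀ x : Points X.obj, Points.map f.hom x = y →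
      HasAtMor (fun _ _ h u => FlatMor.fibreDimAt h u ≤ (N : WithBot ℕ∞)) f.hom x := by
  obtain ⟨V, b, hVaff, hbe, hbcov⟩ :=
    ZMT.exists_affine_chart_covering Y.property {y} (Set.finite_singleton _)
  obtain ⟨v, hv⟩ := hbcov y rfl
  have hVaff' : IsAffine V.left := hVaff
  let XV : Sp S := pullback f.hom b
  let prX : XV ⟶ X.obj := pullback.fst f.hom b
  let prV : XV ⟶ (yon S).obj V := pullback.snd f.hom b
  have sq : IsPullback prX prV f.hom b := IsPullback.of_hasPullback _ _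
  have hVqc : IsQuasiCompactSp ((yon S).obj V) :=
    ⟨V, 𝟙 _, repWith_id _ _, repWith_id _ _, (inferInstance : CompactSpace ↥V.left)⟩
  have hXVqc : IsQuasiCompactSp XV := hft.2 (IsAlgSpace.yon_obj V) hVqc b prX prV sq
  obtain ⟨U₁, m, hU₁aff, hme, hms⟩ := ZMT.exists_affine_atlas hXVqc
  have hU₁aff' : IsAffine U₁.left := hU₁aff
  obtain ⟨h₁, hh₁⟩ := (yon S).map_surjective (m ≫ prV)
  have hprXe : RepWith @Etale prX := MorphismProperty.of_isPullback sq.flip hbe
  let a₁ : (yon S).obj U₁ ⟶ X.obj := m ≫ prX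
  have ha₁ : RepWith @Etale a₁ := (RepWith @Etale).comp_mem _ _ hme hprXe
  have e₁ : a₁ ≫ f.hom = (yon S).map h₁ ≫ b := by
    rw [Category.assoc, sq.w, ← Category.assoc, hh₁]
  have hlft : LocallyOfFiniteType h₁.left := hft.1 a₁ b h₁ ha₁ hbe e₁
  obtain ⟨N, hN⟩ := exists_nat_fibreDimAt_le h₁.left
  refine ⟨N, fun x hx => ?_⟩
  have hxy : Points.map f.hom x = Points.map b (Points.ofScheme V v) := by
    rw [hx, ← Points.ofPt_eq_map_ofScheme, hv]
  obtain ⟨w, hw1, -⟩ := exists_point_of_isPullback sq x _ hxy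
  obtain ⟨u₁, hu₁⟩ := exists_ofPt_eq_of_repWith_surjective m hms w
  refine ⟨U₁, V, a₁, b, h₁, u₁, ha₁, hbe, e₁, ?_, hN u₁⟩
  rw [← hw1, ← hu₁, Points.map_ofPt]

theorem withBot_enat_eq_bot_iff (x : WithBot ℕ∞) : x = ⊥ ↔ x < ((0 : ℕ) : WithBot ℕ∞) := by
  induction x using WithBot.recBotCoe with
  | bot => simp
  | coe e =>
    induction e using ENat.recTopCoe with
    | top =>
      constructor
      · intro h
        exact absurd h (by simp)
      · intro h
        have : ((0 : ℕ) : WithBot ℕ∞) ≤ ((⊤ : ℕ∞) : WithBot ℕ∞) := le_top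
        exact absurd (lt_of_lt_of_le h this) (lt_irrefl _)
    | coe n =>
      constructor
      · intro h
        exact absurd h (by simp)
      · intro h
        exfalso
        have h' : n < 0 := by exact_mod_cast h
        omega

theorem withBot_enat_eq_zero_iff (x : WithBot ℕ∞) :
    x = ((0 : ℕ) : WithBot ℕ∞) ↔ ⊥ < x ∧ x < ((1 : ℕ) : WithBot ℕ∞) := by
  induction x using WithBot.recBotCoe with
  | bot => simp
  | coe e =>
    induction e using ENat.recTopCoe with
    | top =>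
      constructor
      · intro h
        have h' : (⊤ : ℕ∞) = ((0 : ℕ) : ℕ∞) := by exact_mod_cast h
        simp at h'
      · rintro ⟨-, h⟩
        have : ((1 : ℕ) : WithBot ℕ∞) ≤ ((⊤ : ℕ∞) : WithBot ℕ∞) := le_top
        exact absurd (lt_of_lt_of_le h this) (lt_irrefl _)
    | coe n =>
      have h0 : (⊥ : WithBot ℕ∞) < ((n : ℕ∞) : WithBot ℕ∞) := WithBot.bot_lt_coe _
      simp only [h0, true_and]
      norm_cast
      omega

theorem withBot_enat_eq_iff (x : WithBot ℕ∞) (a b c : ℕ) (hab : a + 1 = b) (hbc : b + 1 = c) :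
    x = (b : WithBot ℕ∞) ↔ (a : WithBot ℕ∞) < x ∧ x < (c : WithBot ℕ∞) := by
  induction x using WithBot.recBotCoe with
  | bot => simp
  | coe e =>
    induction e using ENat.recTopCoe with
    | top =>
      constructor
      · intro h
        have h' : (⊤ : ℕ∞) = (b : ℕ∞) := by exact_mod_cast h
        simp at h'
      · rintro ⟨-, h⟩
        have : (c : WithBot ℕ∞) ≤ ((⊤ : ℕ∞) : WithBot ℕ∞) := le_top
        exact absurd (lt_of_lt_of_le h this) (lt_irrefl _)
    | coe n =>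
      norm_cast
      omega

theorem withBot_enat_cases (d : WithBot ℕ∞) :
    d = ⊥ ∨ d = ((⊤ : ℕ∞) : WithBot ℕ∞) ∨ ∃ n : ℕ, d = (n : WithBot ℕ∞) := by
  induction d using WithBot.recBotCoe with
  | bot => exact Or.inl rfl
  | coe e =>
    induction e using ENat.recTopCoe with
    | top => exact Or.inr (Or.inl rfl)
    | coe n => exact Or.inr (Or.inr ⟨n, rfl⟩)

/-- **S10692.** -/
theorem s10692 {X Y : AlgSp.Space S} (f : X ⟶ Y) (hf1 : IsProperMor f.hom)
    (hf2 : LocP @Flat f.hom) (hf3 : IsFinitePresentationMor f.hom) (d : WithBot ℕ∞) :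
    IsOpen {y : Points Y.obj | ∀ (k : FieldPt Y.obj), Points.mk k = y →
      ∀ (Xk : Sp S) (fst : Xk ⟶ X.obj) (snd : Xk ⟶ (yon S).obj k.pt),
        IsPullback fst snd f.hom k.toHom → AlgSp.dim Xk = d} := by
  let G : (WithBot ℕ∞ → Prop) → Set (Points Y.obj) := fun P =>
    {y : Points Y.obj | ∀ (k : FieldPt Y.obj), Points.mk k = y →
      ∀ (Xk : Sp S) (fst : Xk ⟶ X.obj) (snd : Xk ⟶ (yon S).obj k.pt),
        IsPullback fst snd f.hom k.toHom → P (AlgSp.dim Xk)}
  have hG_congr : ∀ P Q : WithBot ℕ∞ → Prop, (∀ x, P x ↔ Q x) → G P = G Q := by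
    intro P Q h
    have : P = Q := funext fun x => propext (h x)
    rw [this]
  have hG_and : ∀ P Q : WithBot ℕ∞ → Prop, G (fun x => P x ∧ Q x) = G P ∩ G Q := by
    intro P Q
    ext y
    constructor
    · intro H
      exact ⟨fun k hk Xk fst snd sq => (H k hk Xk fst snd sq).1,
        fun k hk Xk fst snd sq => (H k hk Xk fst snd sq).2⟩
    · rintro ⟨H1, H2⟩ k hk Xk fst snd sq
      exact ⟨H1 k hk Xk fst snd sq, H2 k hk Xk fst snd sq⟩
  have hup : ∀ d' : WithBot ℕ∞, IsOpen (G (fun x => x < d')) :=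
    fun d' => Groth.Agent.S10680.result f hf1 d'
  have hlow : ∀ d' : WithBot ℕ∞, IsOpen (G (fun x => d' < x)) := fun d' => s10679 f hf2 hf3 d'
  change IsOpen (G (fun x => x = d))
  rcases withBot_enat_cases d with rfl | rfl | ⟨n, rfl⟩
  · rw [hG_congr _ (fun x => x < ((0 : ℕ) : WithBot ℕ∞)) withBot_enat_eq_bot_iff]
    exact hup _
  · convert isOpen_empty
    rw [Set.eq_empty_iff_forall_notMem]
    intro y hy
    obtain ⟨k, hk⟩ := Points.mk_surjective y
    have sq := IsPullback.of_hasPullback f.hom k.toHom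
    have h1 : AlgSp.dim (pullback f.hom k.toHom) = ((⊤ : ℕ∞) : WithBot ℕ∞) := hy k hk _ _ _ sq
    obtain ⟨N, hN⟩ := exists_nat_hasAtMor_fibreDimAt_le f hf1.2.1 y
    have h2 := ((Groth.Agent.S10678.result f hf1.2.1 y k hk _ _ _ sq).2 N).2 hN
    rw [h1] at h2
    have h3 : (⊤ : ℕ∞) ≤ (N : ℕ∞) := by exact_mod_cast h2
    simp at h3
  · cases n with
    | zero =>
      rw [hG_congr _ (fun x => ⊥ < x ∧ x < ((1 : ℕ) : WithBot ℕ∞)) withBot_enat_eq_zero_iff]
      change IsOpen (G (fun x => (fun x => ⊥ < x) x ∧ (fun x => x < ((1 : ℕ) : WithBot ℕ∞)) x))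
      rw [hG_and (fun x => ⊥ < x) (fun x => x < ((1 : ℕ) : WithBot ℕ∞))]
      exact (hlow ⊥).inter (hup _)
    | succ m =>
      rw [hG_congr _ (fun x => ((m : ℕ) : WithBot ℕ∞) < x ∧ x < ((m + 2 : ℕ) : WithBot ℕ∞))
        (fun x => withBot_enat_eq_iff x m (m + 1) (m + 2) rfl rfl)]
      change IsOpen (G (fun x => (fun x => ((m : ℕ) : WithBot ℕ∞) < x) x ∧
        (fun x => x < ((m + 2 : ℕ) : WithBot ℕ∞)) x))
      rw [hG_and (fun x => ((m : ℕ) : WithBot ℕ∞) < x) (fun x => x < ((m + 2 : ℕ) : WithBot ℕ∞))]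
      exact (hlow _).inter (hup _)

end Groth.Agent.H53.FibreDimLSC
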