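import Groth.Agent.S1341
import Groth.Agent.S9374
import Groth.Agent.H49.CMChart
import Groth.Agent.H49.FibreDimAtBC
import Groth.Agent.H53.FibreDim
import Groth.Agent.H17.Chev.Irreducible
import Groth.Agent.H22.NNDim

/-!
# Lower semicontinuity of the fibre dimension for flat morphisms locally of finite presentation
(scheme level)
-/

set_option autoImplicit false
universe u
open CategoryTheory CategoryTheory.Limits AlgebraicGeometry TopologicalSpace

namespace Groth.Agent.H53.FibreDimLSC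

variable {U V : Scheme.{u}} (h : U ⟶ V) [Flat h] [LocallyOfFinitePresentation h]

/-- The locus of Cohen–Macaulay points of fibre dimension `> d` is open. -/
theorem isOpen_setOf_isCMAt_and_lt_fibreDimAt (d : WithBot ℕ∞) :
    IsOpen {u : U | MoreMor.IsCMAt h u ∧ d < FlatMor.fibreDimAt h u} := by
  have hopen : IsOpen {u : U | MoreMor.IsCMAt h u} := (Groth.Agent.S1341.result h).1
  let W : U.Opens := ⟨{u : U | MoreMor.IsCMAt h u}, hopen⟩
  let g : (W : Scheme.{u}) ⟶ V := W.ι ≫ h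
  have hcm : ∀ w : W, MoreMor.IsCMAt g w := fun w =>
    (Groth.Agent.H49.CMChart.isCMAt_comp_of_isOpenImmersion W.ι h w).2 w.2
  have hlc := Groth.Agent.S9374.result g hcm
  have hdim : ∀ w : W, FlatMor.fibreDimAt h (W.ι w) = FlatMor.fibreDimAt g w := fun w =>
    Groth.Agent.H53.fibreDimAt_eq_of_etale_square h g W.ι (𝟙 V) (Category.comp_id _) w
  have hset : {u : U | MoreMor.IsCMAt h u ∧ d < FlatMor.fibreDimAt h u} =
      W.ι '' {w | d < FlatMor.fibreDimAt g w} := by
    ext u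
    constructor
    · rintro ⟨hu1, hu2⟩
      refine ⟨⟨u, hu1⟩, ?_, rfl⟩
      change d < FlatMor.fibreDimAt g ⟨u, hu1⟩
      rw [← hdim]
      exact hu2
    · rintro ⟨w, hw, rfl⟩
      refine ⟨w.2, ?_⟩
      rw [hdim]
      exact hw
  rw [hset]
  exact W.ι.isOpenEmbedding.isOpenMap _ (hlc {e | d < e})

/-- If the fibre through `u` has local dimension `> m` at `u`, it has a Cohen–Macaulay point of
local dimension `> m`. -/
theorem exists_isCMAt_lt_fibreDimAt (m : ℕ) (u : U)
    (hu : (m : WithBot ℕ∞) < FlatMor.fibreDimAt h u) :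
    ∃ u', h u' = h u ∧ MoreMor.IsCMAt h u' ∧ (m : WithBot ℕ∞) < FlatMor.fibreDimAt h u' := by
  by_contra hcon
  push Not at hcon
  generalize hv : h u = v at hcon
  let F : Scheme.{u} := h.fiber v
  obtain ⟨ξ, hξ⟩ : ∃ ξ : F, h.fiberι v ξ = u := by
    have : u ∈ Set.range (h.fiberι v) := by
      rw [Scheme.Hom.range_fiberι]
      exact hv
    exact this
  have hdense : Dense ((h.fiberι v) ⁻¹' {x | MoreMor.IsCMAt h x}) :=
    (Groth.Agent.S1341.result h).2 v
  have hDopen : IsOpen ((h.fiberι v) ⁻¹' {x | MoreMor.IsCMAt h x}) :=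
    (Groth.Agent.S1341.result h).1.preimage (h.fiberι v).continuous
  let D : F.Opens := ⟨_, hDopen⟩
  obtain ⟨U₀, hU₀, hξU₀, -⟩ := exists_isAffineOpen_mem_and_subset (x := ξ) (U := ⊤) trivial
  let π : F ⟶ Spec (CommRingCat.of (V.residueField v)) := h.fiberToSpecResidueField v
  have hπ : LocallyOfFiniteType π := MorphismProperty.pullback_snd _ _ inferInstance
  have hFN : IsLocallyNoetherian F := LocallyOfFiniteType.isLocallyNoetherian π
  let ρ : (U₀ : Scheme.{u}) ⟶ Spec (CommRingCat.of (V.residueField v)) := U₀.ι ≫ π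
  have hρ : LocallyOfFiniteType ρ := inferInstance
  have hUN : NoetherianSpace ↥(U₀ : Scheme.{u}) := by
    have : IsNoetherianRing Γ(F, U₀) := IsLocallyNoetherian.component_noetherian ⟨U₀, hU₀⟩
    exact noetherianSpace_of_isAffineOpen U₀ hU₀
  let V₀ : (U₀ : Scheme.{u}).Opens := U₀.ι ⁻¹ᵁ D
  have hV₀ : Dense (V₀ : Set ↥(U₀ : Scheme.{u})) :=
    hdense.preimage U₀.ι.isOpenEmbedding.isOpenMap
  have h1 := Groth.Agent.H22.NNDim.topologicalKrullDim_dense_open ρ V₀ hV₀
  have h2 : topologicalKrullDim ↥(V₀ : Set ↥(U₀ : Scheme.{u})) ≤ m := by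
    rw [Groth.Agent.H17.Chev.topologicalKrullDim_eq_iSup_localDim]
    refine iSup_le fun z => ?_
    rw [Groth.Agent.H17.Chev.localDim_eq_of_isOpenEmbedding V₀.isOpen.isOpenEmbedding_subtypeVal z,
      Groth.Agent.H17.Chev.localDim_eq_of_isOpenEmbedding U₀.ι.isOpenEmbedding z.1,
      Groth.Agent.H49.FibreDimAtBC.localDim_fiber_eq h v (U₀.ι z.1)]
    refine hcon _ ?_ z.2
    have : h.fiberι v (U₀.ι z.1) ∈ Set.range (h.fiberι v) := ⟨_, rfl⟩
    rw [Scheme.Hom.range_fiberι] at this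
    exact this
  have h3 : FlatMor.fibreDimAt h u ≤ m := by
    rw [← hξ, ← Groth.Agent.H49.FibreDimAtBC.localDim_fiber_eq]
    calc FlatMor.localDim F ξ ≤ topologicalKrullDim ↥(U₀ : Set F) :=
          Groth.Agent.H17.Chev.localDim_le_dim_of_mem ξ U₀ hξU₀
      _ = topologicalKrullDim ↥(V₀ : Set ↥(U₀ : Scheme.{u})) := h1.symm
      _ ≤ m := h2
  exact absurd hu (not_lt.2 h3)

end Groth.Agent.H53.FibreDimLSC
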