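import Groth.Agent.H53.FibreDimLSC
import Groth.Agent.S10678
import Groth.Agent.H51.SpBasic
import Groth.Agent.H49.AlgSpOpen
import Groth.Agent.H53.FibreDimChart

/-!
# Lower semicontinuity of the fibre dimension for flat morphisms of finite presentation of
algebraic spaces
-/

set_option autoImplicit false
universe u
open CategoryTheory CategoryTheory.Limits AlgebraicGeometry Opposite

namespace Groth.Agent.H53.FibreDimLSC

open AlgSp

variable {S : Scheme.{u}}

/-- **S10679.** -/
theorem s10679 {X Y : AlgSp.Space S} (f : X ⟶ Y) (hf1 : LocP @Flat f.hom)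
    (hf2 : IsFinitePresentationMor f.hom) (d : WithBot ℕ∞) :
    IsOpen {y : Points Y.obj | ∀ (k : FieldPt Y.obj), Points.mk k = y →
      ∀ (Xk : Sp S) (fst : Xk ⟶ X.obj) (snd : Xk ⟶ (yon S).obj k.pt),
        IsPullback fst snd f.hom k.toHom → d < AlgSp.dim Xk} := by
  obtain ⟨hlfp, hqc, -⟩ := hf2
  have hft : IsFiniteTypeMor f.hom := ⟨fun U V a b h ha hb e => by
    have := hlfp a b h ha hb e
    infer_instance, hqc⟩
  obtain ⟨V, b, hb, hbs⟩ := Y.property.atlas
  obtain ⟨U, a, h, ha, has, e⟩ := Groth.Agent.H49.exists_chart_lift X.property f.hom b hb hbs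
  have hfl : Flat h.left := hf1 a b h ha hb e
  have hfp : LocallyOfFinitePresentation h.left := hlfp a b h ha hb e
  have hopen : IsOpenMap h.left := h.left.isOpenMap
  have hmap : ∀ u : ↥U.left, Points.map f.hom (Points.ofPt a u) = Points.ofPt b (h.left u) := by
    intro u
    rw [Points.map_ofPt, e, ofPt_yon_map_comp]
  -- reduction to a condition on `y`
  have reduce : ∀ (C : Points Y.obj → Prop),
      (∀ (y : Points Y.obj) (k : FieldPt Y.obj), Points.mk k = y →
        ∀ (Xk : Sp S) (fst : Xk ⟶ X.obj) (snd : Xk ⟶ (yon S).obj k.pt),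
          IsPullback fst snd f.hom k.toHom → (d < AlgSp.dim Xk ↔ C y)) →
      {y : Points Y.obj | ∀ (k : FieldPt Y.obj), Points.mk k = y →
        ∀ (Xk : Sp S) (fst : Xk ⟶ X.obj) (snd : Xk ⟶ (yon S).obj k.pt),
          IsPullback fst snd f.hom k.toHom → d < AlgSp.dim Xk} = {y | C y} := by
    intro C hC
    ext y
    constructor
    · intro H
      obtain ⟨k, hk⟩ := Points.mk_surjective y
      have sq := IsPullback.of_hasPullback f.hom k.toHom
      exact (hC y k hk _ _ _ sq).1 (H k hk _ _ _ sq)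
    · intro hy k hk Xk fst snd sq
      exact (hC y k hk Xk fst snd sq).2 hy
  induction d using WithBot.recBotCoe with
  | bot =>
    rw [reduce (fun y => y ∈ Points.ofPt b '' (Set.range h.left))]
    · exact Groth.Agent.H51.isOpenMap_ofPt_of_etale b hb _ hopen.isOpen_range
    · intro y k hk Xk fst snd sq
      have key := (Groth.Agent.S10678.result f hft y k hk Xk fst snd sq).1
      rw [bot_lt_iff_ne_bot, Ne, key, not_not]
      constructor
      · rintro ⟨x, rfl⟩
        obtain ⟨u, rfl⟩ := Groth.Agent.H51.surjective_ofPt_of_surjective a has x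
        exact ⟨h.left u, ⟨u, rfl⟩, (hmap u).symm⟩
      · rintro ⟨_, ⟨u, rfl⟩, rfl⟩
        exact ⟨Points.ofPt a u, hmap u⟩
  | coe e' =>
    induction e' using ENat.recTopCoe with
    | top =>
      rw [reduce (fun _ => False)]
      · simp
      · intro y k hk Xk fst snd sq
        refine ⟨fun hlt => ?_, False.elim⟩
        have : AlgSp.dim Xk ≤ ((⊤ : ℕ∞) : WithBot ℕ∞) := le_top
        exact absurd (lt_of_lt_of_le hlt this) (lt_irrefl _)
    | coe m =>
      rw [reduce (fun y => y ∈ Points.ofPt b '' (h.left ''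
        {u | MoreMor.IsCMAt h.left u ∧ ((m : ℕ∞) : WithBot ℕ∞) < FlatMor.fibreDimAt h.left u}))]
      · exact Groth.Agent.H51.isOpenMap_ofPt_of_etale b hb _
          (hopen _ (isOpen_setOf_isCMAt_and_lt_fibreDimAt h.left _))
      · intro y k hk Xk fst snd sq
        have key := (Groth.Agent.S10678.result f hft y k hk Xk fst snd sq).2 m
        rw [← not_le]
        change ¬ (AlgSp.dim Xk ≤ ((m : ℕ) : WithBot ℕ∞)) ↔ _
        rw [key]
        constructor
        · intro hne
          push Not at hne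
          obtain ⟨x, hxy, hx⟩ := hne
          obtain ⟨u, rfl⟩ := Groth.Agent.H51.surjective_ofPt_of_surjective a has x
          have hu : ((m : ℕ) : WithBot ℕ∞) < FlatMor.fibreDimAt h.left u := by
            by_contra hcon
            rw [not_lt] at hcon
            exact hx ⟨U, V, a, b, h, u, ha, hb, e, rfl, hcon⟩
          obtain ⟨u', hu'1, hu'2, hu'3⟩ := exists_isCMAt_lt_fibreDimAt h.left m u hu
          refine ⟨h.left u', ⟨u', ⟨hu'2, hu'3⟩, rfl⟩, ?_⟩
          rw [hu'1, ← hmap u]
          exact hxy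
        · rintro ⟨_, ⟨u, ⟨-, hu⟩, rfl⟩, rfl⟩ hall
          obtain ⟨U₁, V₁, a₁, b₁, h₁, u₁, ha₁, hb₁, e₁, hu₁, hd₁⟩ := hall (Points.ofPt a u) (hmap u)
          have := Groth.Agent.H53.fibreDimAt_chart_indep f.hom a b h a₁ b₁ h₁ ha hb ha₁ hb₁ e e₁ u u₁
            hu₁.symm
          rw [this] at hu
          exact absurd hd₁ (not_le.2 hu)

end Groth.Agent.H53.FibreDimLSC
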