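import Mathlib.AlgebraicGeometry.Fiber
import Mathlib.AlgebraicGeometry.Morphisms.Etale
import Mathlib.AlgebraicGeometry.Morphisms.FormallyUnramified
import Mathlib.RingTheory.Etale.Field
import Groth.Agent.H51.ResTrdeg2
import Groth.Agent.H51.SpDim2

/-! The map of fibres induced by an étale square is étale; the local dimension of fibres is
étale local on source and target. -/

set_option autoImplicit false
universe u

open CategoryTheory CategoryTheory.Limits AlgebraicGeometry

namespace Groth.Agent.H53

/-- The residue field extension of an étale morphism is étale. -/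
theorem etale_SpecMap_residueFieldMap {V' V : Scheme.{u}} (b : V' ⟶ V) [Etale b] (v' : V') :
    Etale (Spec.map (b.residueFieldMap v')) := by
  let _ := (b.residueFieldMap v').hom.toAlgebra
  have : LocallyQuasiFinite b := Groth.Agent.H51.locallyQuasiFinite_of_formallyUnramified b
  have : Module.Finite (V.residueField (b v')) (V'.residueField v') :=
    Groth.Agent.H51.finite_residueField_of_quasiFinite (b.stalkMap v').hom (b.quasiFiniteAt v')
  have : Algebra.IsSeparable (V.residueField (b v')) (V'.residueField v') := inferInstance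
  have : Algebra.FormallyEtale (V.residueField (b v')) (V'.residueField v') :=
    Algebra.FormallyEtale.of_isSeparable _ _
  have : Algebra.FinitePresentation (V.residueField (b v')) (V'.residueField v') :=
    Algebra.FinitePresentation.of_finiteType.mp inferInstance
  have : Algebra.Etale (V.residueField (b v')) (V'.residueField v') := ⟨inferInstance, inferInstance⟩
  have h : (b.residueFieldMap v').hom.Etale := by
    rw [← RingHom.algebraMap_toAlgebra (b.residueFieldMap v').hom, RingHom.etale_algebraMap]
    infer_instance
  exact (HasRingHomProperty.Spec_iff (P := @Etale)).mpr h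


/-- The map of fibres induced by an étale square is étale (S7406). -/
theorem etale_fiberMap {U U' V V' : Scheme.{u}} (h : U ⟶ V) (h' : U' ⟶ V') (a : U' ⟶ U)
    (b : V' ⟶ V) [Etale a] [Etale b] (comm : h' ≫ b = a ≫ h) (v' : V')
    (φ : h'.fiber v' ⟶ h.fiber (b v')) (hφ1 : φ ≫ h.fiberι (b v') = h'.fiberι v' ≫ a)
    (hφ2 : φ ≫ h.fiberToSpecResidueField (b v') =
      h'.fiberToSpecResidueField v' ≫ Spec.map (b.residueFieldMap v')) :
    Etale φ := by
  let c : U' ⟶ pullback h b := pullback.lift a h' comm.symm
  have hc1 : c ≫ pullback.fst h b = a := pullback.lift_fst _ _ _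
  have hc2 : c ≫ pullback.snd h b = h' := pullback.lift_snd _ _ _
  have hfst : Etale (pullback.fst h b) := inferInstance
  have hc : Etale c := by
    refine MorphismProperty.of_postcomp (W := @Etale) (W' := @Etale) c (pullback.fst h b)
      hfst ?_
    rw [hc1]
    infer_instance
  have e₁ : h' = c ≫ pullback.snd h b := hc2.symm
  have e₂ : V'.fromSpecResidueField v' = 𝟙 _ ≫ V'.fromSpecResidueField v' :=
    (Category.id_comp _).symm
  let ψ : h'.fiber v' ⟶ (pullback.snd h b).fiber v' :=
    pullback.map h' (V'.fromSpecResidueField v') (pullback.snd h b) (V'.fromSpecResidueField v')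
      c (𝟙 _) (𝟙 _) ((Category.comp_id _).trans e₁) ((Category.comp_id _).trans e₂)
  have hψ : Etale ψ :=
    MorphismProperty.pullbackMap (P := @Etale) hc (inferInstanceAs (Etale (𝟙 _))) e₁ e₂
  have sq := isPullback_fiberToSpecResidueField_of_isPullback (IsPullback.of_hasPullback h b) v'
  set χ : (pullback.snd h b).fiber v' ⟶ h.fiber (b v') :=
    pullback.map _ _ _ _ (pullback.fst h b) (Spec.map (b.residueFieldMap v')) b
      (IsPullback.of_hasPullback h b).w.symm (by simp) with hχ
  have hχE : Etale χ :=
    MorphismProperty.of_isPullback (P := @Etale) sq.flip (etale_SpecMap_residueFieldMap b v')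
  have hχ1 : χ ≫ h.fiberι (b v') = (pullback.snd h b).fiberι v' ≫ pullback.fst h b :=
    pullback.lift_fst _ _ _
  have hχ2 : χ ≫ h.fiberToSpecResidueField (b v') =
      (pullback.snd h b).fiberToSpecResidueField v' ≫ Spec.map (b.residueFieldMap v') :=
    pullback.lift_snd _ _ _
  have hψ1 : ψ ≫ (pullback.snd h b).fiberι v' = h'.fiberι v' ≫ c := pullback.lift_fst _ _ _
  have hψ2 : ψ ≫ (pullback.snd h b).fiberToSpecResidueField v' =
      h'.fiberToSpecResidueField v' ≫ 𝟙 _ := pullback.lift_snd _ _ _
  have h1 : φ ≫ h.fiberι (b v') = (ψ ≫ χ) ≫ h.fiberι (b v') := by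
    rw [hφ1, Category.assoc, hχ1, ← Category.assoc, hψ1, Category.assoc, hc1]
  have h2 : φ ≫ h.fiberToSpecResidueField (b v') =
      (ψ ≫ χ) ≫ h.fiberToSpecResidueField (b v') := by
    rw [hφ2, Category.assoc, hχ2, ← Category.assoc, hψ2, Category.comp_id]
  have hφ : φ = ψ ≫ χ := pullback.hom_ext h1 h2
  rw [hφ]
  infer_instance

end Groth.Agent.H53
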