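import Groth.Agent.H53.ZMT.LqfSep2
import Groth.Agent.H53.ZMT.SpLemmas
import Groth.Agent.H53.EtSourceLocal
import Groth.Agent.H53.LocalST

/-!
# Finite after precomposition with an etale surjection

If `p : U ⟶ X` is etale surjective, `f : X ⟶ Y` is separated and `p ≫ f` is finite, then `f` is
finite.
-/

set_option autoImplicit false
universe u
open CategoryTheory CategoryTheory.Limits AlgebraicGeometry Opposite
open AlgSp

namespace Groth.Agent.H53

variable {S : Scheme.{u}}

/-- The scheme-level statement. -/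
theorem isFinite_of_comp_etale_surjective {W G Z : Scheme.{u}} [IsAffine Z] (ψ : W ⟶ G) (φ : G ⟶ Z)
    [Surjective ψ] [IsFinite (ψ ≫ φ)] [IsSeparated φ] [LocallyQuasiFinite φ]
    [LocallyOfFiniteType φ] : IsFinite φ := by
  have huc : UniversallyClosed φ := UniversallyClosed.of_comp_surjective ψ φ
  have hWc : CompactSpace ↥W := by
    have : IsAffine W := isAffine_of_isAffineHom (ψ ≫ φ)
    infer_instance
  have hGc : CompactSpace ↥G :=
    Function.Surjective.compactSpace ψ.continuous ψ.surjective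
  have hqc : QuasiCompact φ := (HasAffineProperty.iff_of_isAffine (P := @QuasiCompact)).2 hGc
  have : IsProper φ := { }
  exact IsFinite.of_isProper_of_locallyQuasiFinite φ

/-- **S16833.** -/
theorem isFiniteMor_of_etale_surjective_comp {U X Y : AlgSp.Space S} (p : U ⟶ X) (f : X ⟶ Y)
    (hp : IsEtaleMor p.hom) (hps : IsSurjectiveMor p.hom)
    (hf : IsSeparatedMor f.hom) (h : IsFiniteMor (p ≫ f).hom) : IsFiniteMor f.hom := by
  intro Z hZ g
  have hZaff : IsAffine Z.left := hZ
  obtain ⟨W, i, fstW, sqW, hWaff, hifin⟩ := h hZ g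
  -- the base change of `f`
  have sqX := IsPullback.of_hasPullback f.hom g
  set XZ := pullback f.hom g with hXZ
  have hXZalg : IsAlgSpace XZ :=
    Groth.Agent.H49.isAlgSpace_of_isPullback sqX Y.property.diag X.property (IsAlgSpace.yon_obj Z)
  have hsepZ : IsSeparatedMor (pullback.snd f.hom g) :=
    Groth.Agent.H53.ZMT.isSeparatedMor_of_isPullback sqX hf
  -- the base change of `p`
  have hcomm : (fstW ≫ p.hom) ≫ f.hom = (yon S).map i ≫ g := by
    rw [Category.assoc]; exact sqW.w
  let pZ : (yon S).obj W ⟶ XZ := sqX.lift (fstW ≫ p.hom) ((yon S).map i) hcomm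
  have hpZ1 : pZ ≫ pullback.fst f.hom g = fstW ≫ p.hom := sqX.lift_fst _ _ _
  have hpZ2 : pZ ≫ pullback.snd f.hom g = (yon S).map i := sqX.lift_snd _ _ _
  have sqL : IsPullback fstW pZ p.hom (pullback.fst f.hom g) := by
    refine (IsPullback.of_right ?_ hpZ1 sqX.flip).flip
    rw [hpZ2]
    exact sqW.flip
  have hpZet : IsEtaleMor pZ :=
    isEtaleMor_of_isPullback U.property X.property hXZalg sqL hp
  have hpZs : Function.Surjective (Points.map pZ) := by
    intro x
    obtain ⟨u, hu⟩ := hps (Points.map (pullback.fst f.hom g) x)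
    obtain ⟨z, -, hz⟩ := exists_point_of_isPullback sqL u x hu
    exact ⟨z, hz⟩
  -- `f_Z` is locally quasi-finite
  have hifin' : IsFinite i.left := hifin
  have hqfZ : LocP (@LocallyQuasiFinite ⊓ @LocallyOfFiniteType) (pullback.snd f.hom g) := by
    have := isLocalAtSource_etale_lqf.{u}
    refine (isLocalOnSource_etCover_locP (S := S)
      (@LocallyQuasiFinite ⊓ @LocallyOfFiniteType : MorphismProperty Scheme.{u})
      (fun _ : PUnit.{u + 1} => (yon S).obj W) (fun _ => pZ) hXZalg
      (fun _ => IsAlgSpace.yon_obj W) ⟨fun _ => hpZet, fun x => ⟨PUnit.unit, hpZs x⟩⟩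
      (pullback.snd f.hom g) (IsAlgSpace.yon_obj Z)).2 ?_
    intro _
    rw [hpZ2]
    exact Groth.Agent.H50.goodClass_lqf.locP_yon_map i ⟨inferInstance, inferInstance⟩
  -- `X_Z` is a scheme
  obtain ⟨G, ⟨e⟩⟩ := Groth.Agent.H53.ZMT.exists_iso_yon_of_lqf_separated hXZalg
    (pullback.snd f.hom g) hsepZ hqfZ
  obtain ⟨φ, hφ⟩ := (yon S).map_surjective (e.hom ≫ pullback.snd f.hom g)
  obtain ⟨ψ, hψ⟩ := (yon S).map_surjective (pZ ≫ e.inv)
  have hψφ : ψ ≫ φ = i := by
    apply (yon S).map_injective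
    rw [Functor.map_comp, hφ, hψ, Category.assoc, e.inv_hom_id_assoc, hpZ2]
  -- properties of `φ`
  have sqG : IsPullback (e.hom ≫ pullback.fst f.hom g) ((yon S).map φ) f.hom g := by
    rw [hφ]
    exact IsPullback.of_iso sqX e.symm (Iso.refl _) (Iso.refl _) (Iso.refl _) (by simp) (by simp)
      (by simp) (by simp)
  have hφsep : IsSeparated φ.left :=
    (isSeparatedMor_yon_map_iff φ).1 (Groth.Agent.H53.ZMT.isSeparatedMor_of_isPullback sqG hf)
  have hφqf : (@LocallyQuasiFinite ⊓ @LocallyOfFiniteType : MorphismProperty Scheme.{u}) φ.left := by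
    apply locP_yon_map
    rw [hφ]
    exact Groth.Agent.H50.goodClass_lqf.locP_comp hXZalg e.hom _
      (Groth.Agent.H50.goodClass_lqf.locP_of_repWith_etale e.hom
        (MorphismProperty.of_isIso (RepWith @Etale) e.hom)) hqfZ
  have hφ1 : LocallyQuasiFinite φ.left := hφqf.1
  have hφ2 : LocallyOfFiniteType φ.left := hφqf.2
  have hψs : Surjective ψ.left := by
    refine ⟨fun x => ?_⟩
    obtain ⟨w, hw⟩ := hpZs (Points.map e.hom (Points.schemeHomeo G x))
    obtain ⟨w₀, rfl⟩ := (Points.schemeHomeo W).surjective w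
    refine ⟨w₀, (Points.schemeHomeo G).injective ?_⟩
    rw [← Points.map_yon_map_apply, hψ, Points.map_comp, hw, ← Points.map_comp, e.hom_inv_id,
      Points.map_id]
  have hfin : IsFinite (ψ.left ≫ φ.left) := by
    have : ψ.left ≫ φ.left = i.left := congrArg (fun k => k.left) hψφ
    rw [this]; exact hifin'
  have hφfin : IsFinite φ.left := isFinite_of_comp_etale_surjective ψ.left φ.left
  have hGaff : IsAffine G.left := isAffine_of_isAffineHom φ.left
  exact ⟨G, φ, e.hom ≫ pullback.fst f.hom g, sqG, hGaff, hφfin⟩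

end Groth.Agent.H53
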