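import Groth.Agent.H53.SqZero

universe u
open CategoryTheory CategoryTheory.Limits AlgebraicGeometry Opposite AlgSp

namespace Groth.Agent.H53

set_option backward.isDefEq.respectTransparency.types false in
/-- The stalk maps of a flat morphism of schemes are injective. -/
theorem stalkMap_injective_of_flat {X Y : Scheme.{u}} (f : X ⟶ Y) [Flat f] (x : X) :
    Function.Injective (f.stalkMap x) := by
  algebraize [(f.stalkMap x).hom]
  have : Module.FaithfullyFlat (Y.presheaf.stalk (f x)) (X.presheaf.stalk x) :=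
    @Module.FaithfullyFlat.of_flat_of_isLocalHom _ _ _ _ _ _ _
      (Flat.stalkMap f x) (f.toLRSHom.prop x)
  exact ‹RingHom.FaithfullyFlat _›.injective

/-- A global section that vanishes after pullback along every member of a jointly surjective
family of flat morphisms vanishes. -/
theorem eq_zero_of_flat_family {X : Scheme.{u}} {ι : Type*} (Y : ι → Scheme.{u})
    (c : ∀ k, Y k ⟶ X) [∀ k, Flat (c k)] (hs : ∀ z : X, ∃ k, z ∈ Set.range (c k))
    (a : Γ(X, ⊤)) (ha : ∀ k, (c k).appTop.hom a = 0) : a = 0 := by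
  refine TopCat.Presheaf.section_ext X.sheaf ⊤ a 0 fun z hz => ?_
  obtain ⟨k, x, rfl⟩ := hs z
  have h0 : X.presheaf.germ ⊤ ((c k) x) hz a = 0 := by
    apply stalkMap_injective_of_flat (c k) x
    have h1 := Scheme.Hom.germ_stalkMap_apply (c k) ⊤ x hz a
    have : (c k).app ⊤ a = 0 := ha k
    rw [this, map_zero] at h1
    rw [h1, map_zero]
  refine h0.trans ?_
  exact (map_zero _).symm


set_option backward.isDefEq.respectTransparency false in
/-- A closed immersion into an affine scheme is square-zero as soon as it is dominated, over a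
jointly surjective family of flat morphisms from affine schemes, by square-zero closed
immersions. -/
theorem sqZero_of_flat_family {W V : Scheme.{u}} (i : W ⟶ V) [IsClosedImmersion i] [IsAffine V]
    {ι : Type*} (Vk : ι → Scheme.{u}) (c : ∀ k, Vk k ⟶ V) [∀ k, IsAffine (Vk k)]
    [∀ k, Flat (c k)] (hs : ∀ z : V, ∃ k, z ∈ Set.range (c k))
    (Wk : ι → Scheme.{u}) (ik : ∀ k, Wk k ⟶ Vk k) (q : ∀ k, Wk k ⟶ W)
    (hcomm : ∀ k, ik k ≫ c k = q k ≫ i) [∀ k, IsClosedImmersion (ik k)]
    (hk : ∀ k, (ik k).ker * (ik k).ker = ⊥) : i.ker * i.ker = ⊥ := by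
  apply Scheme.IdealSheafData.ext_of_isAffine
  have h1 : i.ker.ideal ⟨⊤, isAffineOpen_top _⟩ = RingHom.ker i.appTop.hom :=
    i.ker_apply ⟨⊤, isAffineOpen_top _⟩
  have h2 : (i.ker * i.ker).ideal ⟨⊤, isAffineOpen_top _⟩ =
      i.ker.ideal ⟨⊤, isAffineOpen_top _⟩ * i.ker.ideal ⟨⊤, isAffineOpen_top _⟩ := rfl
  rw [h2, h1]
  change _ = ⊥
  rw [eq_bot_iff, Ideal.mul_le]
  intro x hx y hy
  rw [Ideal.mem_bot]
  refine eq_zero_of_flat_family Vk c hs (x * y) fun k => ?_
  have hker : ∀ z ∈ RingHom.ker i.appTop.hom, (c k).appTop.hom z ∈ RingHom.ker (ik k).appTop.hom := by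
    intro z hz
    rw [RingHom.mem_ker]
    have h3 := congrArg Scheme.Hom.appTop (hcomm k)
    simp only [Scheme.Hom.comp_appTop] at h3
    have h4 := congr(($h3).hom z)
    simp only [CommRingCat.hom_comp, RingHom.comp_apply] at h4
    rw [h4, RingHom.mem_ker.mp hz, map_zero]
  have hsq := Groth.Agent.H8.ker_appTop_sq_eq_bot (ik k) (hk k)
  have : (c k).appTop.hom (x * y) ∈ RingHom.ker (ik k).appTop.hom ^ 2 := by
    rw [map_mul, pow_two]
    exact Ideal.mul_mem_mul (hker x hx) (hker y hy)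
  rwa [hsq, Ideal.mem_bot] at this

end Groth.Agent.H53
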