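import Groth.Agent.H53.GlueLift
import Groth.Agent.H53.EtaleIff

universe u
open CategoryTheory CategoryTheory.Limits AlgebraicGeometry Opposite AlgSp

namespace Groth.Agent.H53

variable {S : Scheme.{u}}

/-- A formally etale morphism of schemes over `S` (in the `Spec`-lifting sense of the prelude)
gives a formally etale morphism of sheaves. -/
theorem isFormallyEtaleMor_yon_map_of_isFormallyEtaleHom {U V : Over S} (h : U ⟶ V)
    (hh : MoreMor.IsFormallyEtaleHom h.left) : IsFormallyEtaleMor ((yon S).map h) := by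
  intro sq
  obtain ⟨top₀, htop⟩ := (yon S).map_surjective sq.top
  obtain ⟨bot₀, hbot⟩ := (yon S).map_surjective sq.bot
  have hc : top₀ ≫ h = sq.j ≫ bot₀ := (yon S).map_injective (by
    rw [Functor.map_comp, Functor.map_comp, htop, hbot]; exact sq.comm)
  have w : Spec.map (CommRingCat.ofHom (Ideal.Quotient.mk sq.I)) ≫ bot₀.left = top₀.left ≫ h.left :=
    (congrArg (fun k => k.left) hc).symm
  obtain ⟨l, ⟨hl1, hl2⟩, hl3⟩ := hh sq.A sq.I sq.sq_zero top₀.left bot₀.left w
  have pf : l ≫ U.hom = sq.ptT'.hom := by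
    rw [← Over.w h, ← Category.assoc, hl2, Over.w bot₀]
  refine ⟨(yon S).map (Over.homMk l pf : sq.ptT' ⟶ U), ⟨?_, ?_⟩, ?_⟩
  · rw [← htop, ← Functor.map_comp]
    congr 1
    ext
    exact hl1
  · rw [← hbot, ← Functor.map_comp]
    congr 1
    ext
    exact hl2
  · rintro l' ⟨h1, h2⟩
    obtain ⟨l₀, rfl⟩ := (yon S).map_surjective l'
    have e1 : sq.j ≫ l₀ = top₀ := (yon S).map_injective (by rw [Functor.map_comp, h1, htop])
    have e2 : l₀ ≫ h = bot₀ := (yon S).map_injective (by rw [Functor.map_comp, h2, hbot])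
    have := hl3 l₀.left ⟨congrArg (fun k => k.left) e1, congrArg (fun k => k.left) e2⟩
    congr 1
    ext
    exact this

/-- A morphism of sheaves which is formally etale on one chart diagram with surjective etale
charts is formally etale. -/
theorem isFormallyEtaleMor_of_chart {F G : Sp S} (f : F ⟶ G) {U V : Over S}
    (a : (yon S).obj U ⟶ F) (b : (yon S).obj V ⟶ G) (h : U ⟶ V) (ha : RepWith @Etale a)
    (ha' : RepWith @Surjective a) (hb : RepWith @Etale b)
    (hcomm : a ≫ f = (yon S).map h ≫ b) (hh : MoreMor.IsFormallyEtaleHom h.left) :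
    IsFormallyEtaleMor f := by
  refine isFormallyEtaleMor_of_comp a f ha ha' ?_
  rw [hcomm]
  exact formallyEtale_comp (isFormallyEtaleMor_yon_map_of_isFormallyEtaleHom h hh)
    (isFormallyEtaleMor_of_repWith_etale b hb)

/-- For a morphism of algebraic spaces: formally etale iff all chart morphisms are formally
etale. -/
theorem isFormallyEtaleMor_iff_locP {X Y : Sp S} (hX : IsAlgSpace X) (hY : IsAlgSpace Y)
    (f : X ⟶ Y) : IsFormallyEtaleMor f ↔ LocP @MoreMor.IsFormallyEtaleHom f := by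
  refine ⟨locP_isFormallyEtaleHom f, fun hf => ?_⟩
  obtain ⟨U₀, a₀, ha1, ha2⟩ := hX.atlas
  obtain ⟨V, b, hb1, hb2⟩ := hY.atlas
  have sq := hb1.rep.isPullback (a₀ ≫ f)
  obtain ⟨h, hh⟩ := (yon S).map_surjective (hb1.rep.fst (a₀ ≫ f))
  have he1 : Etale (hb1.rep.snd (a₀ ≫ f)).left := hb1.property_snd _
  have he2 : Surjective (hb1.rep.snd (a₀ ≫ f)).left := hb2.property _ _ _ sq
  have hA1 : RepWith @Etale ((yon S).map (hb1.rep.snd (a₀ ≫ f)) ≫ a₀) :=
    repWith_etale_map_comp _ he1 a₀ ha1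
  have hA2 : RepWith @Surjective ((yon S).map (hb1.rep.snd (a₀ ≫ f)) ≫ a₀) :=
    (RepWith @Surjective).comp_mem _ _ ((repWith_yon_map_iff _ _).2 he2) ha2
  have hcomm : ((yon S).map (hb1.rep.snd (a₀ ≫ f)) ≫ a₀) ≫ f = (yon S).map h ≫ b := by
    rw [Category.assoc, ← sq.w, hh]
  exact isFormallyEtaleMor_of_chart f _ b h hA1 hA2 hb1 hcomm (hf _ b h hA1 hb1 hcomm)

end Groth.Agent.H53
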