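import Groth.Agent.S0113
import Groth.Agent.S0114
import Groth.Agent.H1.FFAppLE

/-! Local finite type descends along an fppf cover of the source (scheme level). -/

set_option autoImplicit false
open CategoryTheory CategoryTheory.Limits AlgebraicGeometry Opposite
universe u

namespace Groth.Agent.H53

theorem locallyOfFiniteType_of_fppf_comp {X Y S : Scheme.{u}} (f : X ⟶ Y) (q : Y ⟶ S)
    [Surjective f] [Flat f] [LocallyOfFinitePresentation f] [LocallyOfFiniteType (f ≫ q)] :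
    LocallyOfFiniteType q := by
  have hQ : RingHom.StableUnderCompositionWithLocalizationAwaySource
      @RingHom.FiniteType :=
    (RingHom.finiteType_stableUnderComposition.stableUnderCompositionWithLocalizationAway
      RingHom.finiteType_holdsForLocalizationAway).1
  rw [HasRingHomProperty.iff_exists_appLE (P := @LocallyOfFiniteType) hQ]
  intro y
  obtain ⟨x, rfl⟩ := f.surjective y
  -- affine neighbourhoods
  obtain ⟨S', hS', hqS', -⟩ := TopologicalSpace.Opens.isBasis_iff_nbhd.mp S.isBasis_affineOpens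
    (TopologicalSpace.Opens.mem_top (q (f x)))
  obtain ⟨V, hV, hfxV, hVS'⟩ := TopologicalSpace.Opens.isBasis_iff_nbhd.mp Y.isBasis_affineOpens
    (show f x ∈ q ⁻¹ᵁ S' from hqS')
  obtain ⟨U, hU, hxU, hUV⟩ := TopologicalSpace.Opens.isBasis_iff_nbhd.mp X.isBasis_affineOpens
    (show x ∈ f ⁻¹ᵁ V from hfxV)
  -- the open image of `U`
  have hopen : IsOpen (f '' (U : Set X)) := f.isOpenMap _ U.isOpen
  obtain ⟨a, haW, hfxa⟩ := hV.exists_basicOpen_le
    (V := (⟨f '' (U : Set X), hopen⟩ : Y.Opens)) ⟨f x, ⟨x, hxU, rfl⟩⟩ hfxV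
  have hW : IsAffineOpen (Y.basicOpen a) := hV.basicOpen a
  have hU' : IsAffineOpen (X.basicOpen (f.appLE V U hUV a)) := hU.basicOpen _
  have hU'eq : X.basicOpen (f.appLE V U hUV a) = U ⊓ f ⁻¹ᵁ (Y.basicOpen a) :=
    Scheme.basicOpen_appLE f U V hUV a
  have e : X.basicOpen (f.appLE V U hUV a) ≤ f ⁻¹ᵁ (Y.basicOpen a) := by
    rw [hU'eq]
    exact inf_le_right
  have hsurj : ((Y.basicOpen a : Y.Opens) : Set Y) ⊆
      f '' (X.basicOpen (f.appLE V U hUV a) : Set X) := by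
    intro w hw
    obtain ⟨u, hu, rfl⟩ := haW hw
    refine ⟨u, ?_, rfl⟩
    rw [hU'eq]
    exact ⟨hu, hw⟩
  have hWS' : Y.basicOpen a ≤ q ⁻¹ᵁ S' := (Y.basicOpen_le a).trans hVS'
  refine ⟨⟨S', hS'⟩, ⟨Y.basicOpen a, hW⟩, hfxa, hWS', ?_⟩
  -- algebra structures
  have e' : X.basicOpen (f.appLE V U hUV a) ≤ (f ≫ q) ⁻¹ᵁ S' :=
    e.trans ((TopologicalSpace.Opens.map f.base).map (homOfLE hWS')).le
  let _ : Algebra Γ(S, S') Γ(Y, Y.basicOpen a) := (q.appLE S' _ hWS').hom.toAlgebra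
  let _ : Algebra Γ(Y, Y.basicOpen a) Γ(X, X.basicOpen (f.appLE V U hUV a)) :=
    (f.appLE _ _ e).hom.toAlgebra
  let _ : Algebra Γ(S, S') Γ(X, X.basicOpen (f.appLE V U hUV a)) :=
    ((f ≫ q).appLE S' _ e').hom.toAlgebra
  have htower : IsScalarTower Γ(S, S') Γ(Y, Y.basicOpen a)
      Γ(X, X.basicOpen (f.appLE V U hUV a)) := by
    refine IsScalarTower.of_algebraMap_eq' ?_
    simp only [RingHom.algebraMap_toAlgebra]
    rw [← CommRingCat.hom_comp, Scheme.Hom.appLE_comp_appLE]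
  have hff := Groth.Agent.H1.FFAppLE.faithfullyFlat_appLE f hW hU' e hsurj
  have hfp1 : Algebra.FinitePresentation Γ(Y, Y.basicOpen a)
      Γ(X, X.basicOpen (f.appLE V U hUV a)) :=
    LocallyOfFinitePresentation.finitePresentation_appLE f hW hU' e
  have hfp2 : Algebra.FiniteType Γ(S, S') Γ(X, X.basicOpen (f.appLE V U hUV a)) :=
    LocallyOfFiniteType.finiteType_appLE (f ≫ q) hS' hU' e'
  exact Groth.Agent.S0113.result (R := Γ(S, S')) (A := Γ(Y, Y.basicOpen a))
    (B := Γ(X, X.basicOpen (f.appLE V U hUV a)))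


end Groth.Agent.H53
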