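import Groth.Agent.H53.LocSource
import Groth.Agent.H53.LftFppfSource

/-! Properties of morphisms of algebraic spaces which are fppf local on the source, from the
scheme-level descent along a single fppf morphism. -/

set_option autoImplicit false
universe u

open CategoryTheory CategoryTheory.Limits AlgebraicGeometry
open AlgSp

namespace Groth.Agent.H53

/-- Family version of descent along fppf covers of the source. -/
theorem family_of_fppf_comp (P : MorphismProperty Scheme.{u}) [IsZariskiLocalAtSource P]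
    (hdesc : ∀ {X Y T : Scheme.{u}} (f : X ⟶ Y) (q : Y ⟶ T), Surjective f → Flat f →
      LocallyOfFinitePresentation f → P (f ≫ q) → P q)
    {U V : Scheme.{u}} (h : U ⟶ V) {ι : Type u} (W : ι → Scheme.{u}) (w : ∀ i, W i ⟶ U)
    (hQ : ∀ i, (@Flat ⊓ @LocallyOfFinitePresentation : MorphismProperty Scheme.{u}) (w i))
    (hs : ∀ x : U, ∃ i, x ∈ Set.range (w i)) (hP : ∀ i, P (w i ≫ h)) : P h := by
  have h1 : ∀ i, Flat (w i) := fun i => (hQ i).1
  have h2 : ∀ i, LocallyOfFinitePresentation (w i) := fun i => (hQ i).2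
  refine hdesc (Sigma.desc w) h ?_ ?_ ?_ ?_
  · apply Surjective.sigmaDesc_of_union_range_eq_univ
    rw [Set.eq_univ_iff_forall]
    intro z
    obtain ⟨j, hj⟩ := hs z
    exact Set.mem_iUnion.2 ⟨j, hj⟩
  · exact IsZariskiLocalAtSource.sigmaDesc h1
  · exact IsZariskiLocalAtSource.sigmaDesc h2
  · rw [IsZariskiLocalAtSource.iff_of_openCover (P := P) (sigmaOpenCover W)]
    intro i
    change P (Sigma.ι W i ≫ Sigma.desc w ≫ h)
    rw [Sigma.ι_desc_assoc]
    exact hP i

variable {S : Scheme.{u}}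

theorem locP_inf_iff (P Q : MorphismProperty Scheme.{u}) {F G : Sp S} (f : F ⟶ G) :
    LocP (P ⊓ Q) f ↔ LocP P f ∧ LocP Q f :=
  ⟨fun h => ⟨fun _ _ a b k ha hb hc => (h a b k ha hb hc).1,
    fun _ _ a b k ha hb hc => (h a b k ha hb hc).2⟩,
    fun h _ _ a b k ha hb hc => ⟨h.1 a b k ha hb hc, h.2 a b k ha hb hc⟩⟩

theorem etale_le_lfp' : (@Etale : MorphismProperty Scheme.{u}) ≤ @LocallyOfFinitePresentation :=
  fun _ _ f hf => by
    have : Etale f := hf
    infer_instance

theorem etale_le_flat' : (@Etale : MorphismProperty Scheme.{u}) ≤ @Flat :=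
  fun _ _ f hf => by
    have : Etale f := hf
    infer_instance

/-- Descent of `LocP P` along a surjective flat locally finitely presented morphism of algebraic
spaces. -/
theorem locP_of_fppf_comp (P : MorphismProperty Scheme.{u}) [IsZariskiLocalAtSource P]
    (hdesc : ∀ {X Y T : Scheme.{u}} (f : X ⟶ Y) (q : Y ⟶ T), Surjective f → Flat f →
      LocallyOfFinitePresentation f → P (f ≫ q) → P q)
    {X Y B : Sp S} (hX : IsAlgSpace X) (f : X ⟶ Y) (q : Y ⟶ B)
    (hs : IsSurjectiveMor f) (hfl : LocP @Flat f) (hfp : LocP @LocallyOfFinitePresentation f)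
    (H : LocP P (f ≫ q)) : LocP P q :=
  locP_of_cover (Q := @Flat ⊓ @LocallyOfFinitePresentation) (family_of_fppf_comp P hdesc)
    (fun _ : PUnit.{u+1} => X) (fun _ => f) (fun _ => hX)
    (fun _ => (locP_inf_iff _ _ f).2 ⟨hfl, hfp⟩)
    (fun x => by obtain ⟨x', hx'⟩ := hs x; exact ⟨PUnit.unit, x', hx'⟩) q (fun _ => H)

/-- `LocP P` is fppf local on the source. -/
theorem isLocalOnSource_fppf_locP (P : MorphismProperty Scheme.{u}) [IsZariskiLocalAtSource P]
    (hcomp : ∀ {A B C : Scheme.{u}} (k : A ⟶ B) (h : B ⟶ C), LocallyOfFinitePresentation k →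
      P h → P (k ≫ h))
    (hdesc : ∀ {X Y T : Scheme.{u}} (f : X ⟶ Y) (q : Y ⟶ T), Surjective f → Flat f →
      LocallyOfFinitePresentation f → P (f ≫ q) → P q) :
    IsLocalOnSource (IsFppfCover (S := S)) (LocP P) := by
  intro ι X Xi g hX hXi hcov Y f hY
  constructor
  · intro hf i
    exact locP_comp (Q := @LocallyOfFinitePresentation) (fun k h hk hP => hcomp k h hk hP)
      (fun e h he hes hP => hdesc e h hes (etale_le_flat' _ _ _ he) (etale_le_lfp' _ _ _ he) hP)
      hX (g i) f (hcov.1 i).2 hf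
  · intro H
    exact locP_of_cover (Q := @Flat ⊓ @LocallyOfFinitePresentation) (family_of_fppf_comp P hdesc)
      Xi g hXi (fun i => (locP_inf_iff _ _ (g i)).2 (hcov.1 i)) hcov.2 f H

end Groth.Agent.H53
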