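import Groth.Agent.H53.LocSource
import Groth.Agent.H49.AlgSpCoprod2

/-! S10571: a property of morphisms of algebraic spaces which is compatible with finite coproducts,
affine-local on the base and satisfies affine fpqc descent is fpqc local on the base. -/

set_option autoImplicit false
universe u

open CategoryTheory CategoryTheory.Limits AlgebraicGeometry Opposite
open AlgSp

namespace Groth.Agent.H53

theorem sigmaDesc_fpqc' {Z : Scheme.{u}} [IsAffine Z] {σ : Type u} [Finite σ] (W : σ → Scheme.{u})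
    (c : ∀ j, W j ⟶ Z) [∀ j, IsAffine (W j)] [∀ j, Flat (c j)]
    (hs : ∀ z : Z, ∃ j, z ∈ Set.range (c j)) :
    (@Surjective ⊓ @Flat ⊓ @QuasiCompact : MorphismProperty Scheme.{u}) (Sigma.desc c) := by
  refine ⟨⟨?_, inferInstance⟩, ?_⟩
  · apply Surjective.sigmaDesc_of_union_range_eq_univ
    rw [Set.eq_univ_iff_forall]
    intro z
    obtain ⟨j, hj⟩ := hs z
    exact Set.mem_iUnion.2 ⟨j, hj⟩
  · exact (quasiCompact_iff_compactSpace _).2 inferInstance

variable {S : Scheme.{u}}

/-- A finite jointly surjective family of flat maps of affine schemes over `S` assembles into a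
single flat surjective map from the (affine) coproduct in `Over S`. -/
theorem exists_coprod_cover {Z : Over S} (hZ : IsAffine Z.left) {σ : Type u} [Finite σ]
    (W : σ → Over S) (c : ∀ j, W j ⟶ Z) (hW : ∀ j, IsAffine (W j).left)
    (hfl : ∀ j, Flat (c j).left) (hs : ∀ z : ↥Z.left, ∃ j, z ∈ Set.range (c j).left) :
    IsAffine (∐ W).left ∧ Surjective (Sigma.desc c : ∐ W ⟶ Z).left ∧
      Flat (Sigma.desc c : ∐ W ⟶ Z).left := by
  have hd : IsColimit (Cofan.mk (∐ W) (Sigma.ι W)) := coproductIsCoproduct W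
  obtain ⟨e, he⟩ := Groth.Agent.H49.exists_sigma_iso hd
  have hfp := sigmaDesc_fpqc' (fun j => (W j).left) (fun j => (c j).left) hs
  have hcomp : e.hom ≫ (Sigma.desc c : ∐ W ⟶ Z).left = Sigma.desc fun j => (c j).left := by
    apply Sigma.hom_ext
    intro j
    rw [← Category.assoc, he j, Sigma.ι_desc]
    change (Sigma.ι W j).left ≫ (Sigma.desc c : ∐ W ⟶ Z).left = _
    rw [← Over.comp_left, Sigma.ι_desc]
  have hl : (Sigma.desc c : ∐ W ⟶ Z).left = e.inv ≫ Sigma.desc fun j => (c j).left := by
    rw [← hcomp, Iso.inv_hom_id_assoc]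
  have h1 : Surjective (Sigma.desc fun j => (c j).left) := hfp.1.1
  have h2 : Flat (Sigma.desc fun j => (c j).left) := hfp.1.2
  refine ⟨?_, ?_, ?_⟩
  · exact IsAffine.of_isIso e.inv
  · rw [hl]; infer_instance
  · rw [hl]; infer_instance


theorem isLocalOnBase_fpqc_of_axioms (P : MorphismProperty (Sp S))
    (h1 : ∀ ⦃ι : Type u⦄ [Finite ι] (Xi Yi : ι → Sp S) (fi : ∀ i, Xi i ⟶ Yi i)
      (cX : Cofan Xi) (cY : Cofan Yi) (_ : IsColimit cX) (_ : IsColimit cY) (m : cX.pt ⟶ cY.pt),
      (∀ i, IsAlgSpace (Xi i)) → (∀ i, IsAlgSpace (Yi i)) →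
      IsAlgSpace cX.pt → IsAlgSpace cY.pt →
      (∀ i, cX.inj i ≫ m = fi i ≫ cY.inj i) → (∀ i, P (fi i)) → P m)
    (h2 : ∀ ⦃X Y : Sp S⦄, IsAlgSpace X → IsAlgSpace Y → ∀ (f : X ⟶ Y),
      P f ↔ ∀ (Z : Over S), IsAffine Z.left → ∀ (g : (yon S).obj Z ⟶ Y) (W : Sp S)
        (fst : W ⟶ X) (snd : W ⟶ (yon S).obj Z), IsAlgSpace W → IsPullback fst snd f g → P snd)
    (h3 : ∀ ⦃Z Z' : Over S⦄ (c : Z' ⟶ Z), IsAffine Z.left → IsAffine Z'.left → Surjective c.left →
      Flat c.left → ∀ ⦃X X' : Sp S⦄ (f : X ⟶ (yon S).obj Z) (fst : X' ⟶ X)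
        (f' : X' ⟶ (yon S).obj Z'), IsAlgSpace X → IsAlgSpace X' →
        IsPullback fst f' f ((yon S).map c) → P f' → P f) :
    IsLocalOnBase (IsFpqcCover (S := S)) P := by
  intro ι Y Yi g hY hYi hcov X f hX Xi p q hXi sq
  constructor
  · intro hf i
    refine (h2 (hXi i) (hYi i) (p i)).2 fun Z hZ k W fst snd hW sqW => ?_
    exact (h2 hX hY f).1 hf Z hZ (k ≫ g i) W (fst ≫ q i) snd hW (sqW.paste_horiz (sq i))
  · intro H
    refine (h2 hX hY f).2 fun Z hZ k W fst snd hW sqW => ?_
    obtain ⟨m, T, cT, hT, hfl, hs, hlift⟩ := hcov.2 Z hZ k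
    choose i l hl using hlift
    obtain ⟨hA, hS, hF⟩ := exists_coprod_cover hZ (σ := ULift.{u} (Fin m)) (fun j => T j.down)
      (fun j => cT j.down) (fun j => hT j.down) (fun j => hfl j.down)
      (fun z => by obtain ⟨j, hj⟩ := hs z; exact ⟨⟨j⟩, hj⟩)
    have hZ' : IsAlgSpace ((yon S).obj (∐ fun j : ULift.{u} (Fin m) => T j.down)) :=
      IsAlgSpace.yon_obj _
    have hW' : IsAlgSpace (pullback snd ((yon S).map
        (Sigma.desc fun j : ULift.{u} (Fin m) => cT j.down))) :=
      Groth.Agent.H49.isAlgSpace_of_isPullback (IsPullback.of_hasPullback _ _)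
        (IsAlgSpace.yon_obj Z).diag hW hZ'
    refine h3 (Sigma.desc fun j : ULift.{u} (Fin m) => cT j.down) hZ hA hS hF snd
      (pullback.fst _ _) (pullback.snd _ _) hW hW' (IsPullback.of_hasPullback _ _) ?_
    -- the coproduct decomposition
    have hd : IsColimit (Cofan.mk (∐ fun j : ULift.{u} (Fin m) => T j.down)
        (Sigma.ι fun j : ULift.{u} (Fin m) => T j.down)) := coproductIsCoproduct _
    have hcY : IsColimit (Cofan.mk ((yon S).obj (∐ fun j : ULift.{u} (Fin m) => T j.down))
        (fun j => (yon S).map (Sigma.ι (fun j : ULift.{u} (Fin m) => T j.down) j)) :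
          Cofan fun j : ULift.{u} (Fin m) => (yon S).obj (T j.down)) :=
      (isColimitMapCoconeCofanMkEquiv (yon S) _ _)
        (Groth.Agent.H49.nonempty_isColimit_yon_mapCocone hd).some
    have hcX := Groth.Agent.H49.nonempty_isColimit_of_isPullback hcY
      (G := Discrete.functor fun j : ULift.{u} (Fin m) =>
        pullback (pullback.snd snd ((yon S).map
          (Sigma.desc fun j : ULift.{u} (Fin m) => cT j.down)))
          ((yon S).map (Sigma.ι (fun j : ULift.{u} (Fin m) => T j.down) j)))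
      (Cofan.mk _ fun j => pullback.fst _ _) (fun j => pullback.snd _ _)
      (pullback.snd snd ((yon S).map (Sigma.desc fun j : ULift.{u} (Fin m) => cT j.down)))
      (fun j => IsPullback.of_hasPullback _ _)
    have hXj : ∀ j : ULift.{u} (Fin m), IsAlgSpace (pullback (pullback.snd snd ((yon S).map
          (Sigma.desc fun j : ULift.{u} (Fin m) => cT j.down)))
          ((yon S).map (Sigma.ι (fun j : ULift.{u} (Fin m) => T j.down) j))) := fun j =>
      Groth.Agent.H49.isAlgSpace_of_isPullback (IsPullback.of_hasPullback _ _) hZ'.diag hW'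
        (IsAlgSpace.yon_obj _)
    refine h1 _ _ (fun j => pullback.snd _ _) _ _ hcX.some hcY _ hXj
      (fun j => IsAlgSpace.yon_obj _) hW' hZ' (fun j => pullback.condition) fun j => ?_
    -- each summand is a base change of `p (i j)` to an affine scheme
    have sq1 := IsPullback.of_hasPullback (pullback.snd snd ((yon S).map
          (Sigma.desc fun j : ULift.{u} (Fin m) => cT j.down)))
          ((yon S).map (Sigma.ι (fun j : ULift.{u} (Fin m) => T j.down) j))
    have sq2 := IsPullback.of_hasPullback snd ((yon S).map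
          (Sigma.desc fun j : ULift.{u} (Fin m) => cT j.down))
    have sq12 := sq1.flip.paste_vert sq2.flip
    rw [← Functor.map_comp, Sigma.ι_desc] at sq12
    have big := (sq12.paste_vert sqW.flip).flip
    rw [← hl j.down] at big
    simp only [Category.assoc] at big
    have hcond : (pullback.fst _ _ ≫ pullback.fst _ _ ≫ fst) ≫ f =
        (pullback.snd (pullback.snd snd ((yon S).map
          (Sigma.desc fun j : ULift.{u} (Fin m) => cT j.down)))
          ((yon S).map (Sigma.ι (fun j : ULift.{u} (Fin m) => T j.down) j)) ≫ l j.down) ≫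
          g (i j.down) := by
      rw [Category.assoc _ (l j.down)]
      simpa only [Category.assoc] using big.w
    have sqφ : IsPullback ((sq (i j.down)).lift _ _ hcond)
        (pullback.snd (pullback.snd snd ((yon S).map
          (Sigma.desc fun j : ULift.{u} (Fin m) => cT j.down)))
          ((yon S).map (Sigma.ι (fun j : ULift.{u} (Fin m) => T j.down) j)))
        (p (i j.down)) (l j.down) := by
      refine IsPullback.of_right ?_ ((sq (i j.down)).lift_snd _ _ _) (sq (i j.down))
      rw [(sq (i j.down)).lift_fst]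
      exact big
    exact (h2 (hXi (i j.down)) (hYi (i j.down)) (p (i j.down))).1 (H (i j.down)) (T j.down)
      (hT j.down) (l j.down) _ _ _ (hXj j) sqφ

end Groth.Agent.H53
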