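import Groth.Agent.H53.FpqcBaseAxioms

/-! Variant of `isLocalOnBase_fpqc_of_axioms` where compatibility with finite coproducts is only
required over a finite coproduct of affine schemes. -/

set_option autoImplicit false
universe u

open CategoryTheory CategoryTheory.Limits AlgebraicGeometry Opposite
open AlgSp

namespace Groth.Agent.H53

variable {S : Scheme.{u}}

theorem isLocalOnBase_fpqc_of_axioms' (P : MorphismProperty (Sp S))
    (h1 : ∀ ⦃ι : Type u⦄ [Finite ι] (Xi : ι → Sp S) (Ti : ι → Over S)
      (fi : ∀ i, Xi i ⟶ (yon S).obj (Ti i)) (cX : Cofan Xi) (_ : IsColimit cX) (Z' : Over S)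
      (m : cX.pt ⟶ (yon S).obj Z') (inj : ∀ i, Ti i ⟶ Z') (_ : IsColimit (Cofan.mk Z' inj)),
      IsAffine Z'.left → (∀ i, IsAffine (Ti i).left) → (∀ i, IsAlgSpace (Xi i)) →
      IsAlgSpace cX.pt → (∀ i, IsPullback (cX.inj i) (fi i) m ((yon S).map (inj i))) →
      (∀ i, P (fi i)) → P m)
    (h2 : ∀ ⦃X Y : Sp S⦄, IsAlgSpace X → IsAlgSpace Y → ∀ (f : X ⟶ Y),
      P f ↔ ∀ (Z : Over S), IsAffine Z.left → ∀ (g : (yon S).obj Z ⟶ Y) (W : Sp S)
        (fst : W ⟶ X) (snd : W ⟶ (yon S).obj Z), IsAlgSpace W → IsPullback fst snd f g → P snd)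
    (h3 : ∀ ⦃Z Z' : Over S⦄ (c : Z' ⟶ Z), IsAffine Z.left → IsAffine Z'.left → Surjective c.left →
      Flat c.left → ∀ ⦃X X' : Sp S⦄ (f : X ⟶ (yon S).obj Z) (fst : X' ⟶ X)
        (f' : X' ⟶ (yon S).obj Z'), IsAlgSpace X → IsAlgSpace X' →
        IsPullback fst f' f ((yon S).map c) → P f' → P f) :
    IsLocalOnBase (IsFpqcCover (S := S)) P := by
  intro ι Y Yi g hY hYi hcov X f hX Xi p q hXi sq
  constructor
  · intro hf i
    refine (h2 (hXi i) (hYi i) (p i)).2 fun Z hZ k W fst snd hW sqW => ?_
    exact (h2 hX hY f).1 hf Z hZ (k ≫ g i) W (fst ≫ q i) snd hW (sqW.paste_horiz (sq i))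
  · intro H
    refine (h2 hX hY f).2 fun Z hZ k W fst snd hW sqW => ?_
    obtain ⟨m, T, cT, hT, hfl, hs, hlift⟩ := hcov.2 Z hZ k
    choose i l hl using hlift
    obtain ⟨hA, hS, hF⟩ := exists_coprod_cover hZ (σ := ULift.{u} (Fin m)) (fun j => T j.down)
      (fun j => cT j.down) (fun j => hT j.down) (fun j => hfl j.down)
      (fun z => by obtain ⟨j, hj⟩ := hs z; exact ⟨⟨j⟩, hj⟩)
    have hZ' : IsAlgSpace ((yon S).obj (∐ fun j : ULift.{u} (Fin m) => T j.down)) :=
      IsAlgSpace.yon_obj _
    have hW' : IsAlgSpace (pullback snd ((yon S).map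
        (Sigma.desc fun j : ULift.{u} (Fin m) => cT j.down))) :=
      Groth.Agent.H49.isAlgSpace_of_isPullback (IsPullback.of_hasPullback _ _)
        (IsAlgSpace.yon_obj Z).diag hW hZ'
    refine h3 (Sigma.desc fun j : ULift.{u} (Fin m) => cT j.down) hZ hA hS hF snd
      (pullback.fst _ _) (pullback.snd _ _) hW hW' (IsPullback.of_hasPullback _ _) ?_
    -- the coproduct decomposition
    have hd : IsColimit (Cofan.mk (∐ fun j : ULift.{u} (Fin m) => T j.down)
        (Sigma.ι fun j : ULift.{u} (Fin m) => T j.down)) := coproductIsCoproduct _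
    have hcY : IsColimit (Cofan.mk ((yon S).obj (∐ fun j : ULift.{u} (Fin m) => T j.down))
        (fun j => (yon S).map (Sigma.ι (fun j : ULift.{u} (Fin m) => T j.down) j)) :
          Cofan fun j : ULift.{u} (Fin m) => (yon S).obj (T j.down)) :=
      (isColimitMapCoconeCofanMkEquiv (yon S) _ _)
        (Groth.Agent.H49.nonempty_isColimit_yon_mapCocone hd).some
    have hcX := Groth.Agent.H49.nonempty_isColimit_of_isPullback hcY
      (G := Discrete.functor fun j : ULift.{u} (Fin m) =>
        pullback (pullback.snd snd ((yon S).map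
          (Sigma.desc fun j : ULift.{u} (Fin m) => cT j.down)))
          ((yon S).map (Sigma.ι (fun j : ULift.{u} (Fin m) => T j.down) j)))
      (Cofan.mk _ fun j => pullback.fst _ _) (fun j => pullback.snd _ _)
      (pullback.snd snd ((yon S).map (Sigma.desc fun j : ULift.{u} (Fin m) => cT j.down)))
      (fun j => IsPullback.of_hasPullback _ _)
    have hXj : ∀ j : ULift.{u} (Fin m), IsAlgSpace (pullback (pullback.snd snd ((yon S).map
          (Sigma.desc fun j : ULift.{u} (Fin m) => cT j.down)))
          ((yon S).map (Sigma.ι (fun j : ULift.{u} (Fin m) => T j.down) j))) := fun j =>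
      Groth.Agent.H49.isAlgSpace_of_isPullback (IsPullback.of_hasPullback _ _) hZ'.diag hW'
        (IsAlgSpace.yon_obj _)
    refine h1 _ (fun j : ULift.{u} (Fin m) => T j.down) (fun j => pullback.snd _ _) _ hcX.some
      (∐ fun j : ULift.{u} (Fin m) => T j.down) _
      (Sigma.ι fun j : ULift.{u} (Fin m) => T j.down) hd hA (fun j => hT j.down) hXj hW'
      (fun j => IsPullback.of_hasPullback _ _) fun j => ?_
    -- each summand is a base change of `p (i j)` to an affine scheme
    have sq1 := IsPullback.of_hasPullback (pullback.snd snd ((yon S).map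
          (Sigma.desc fun j : ULift.{u} (Fin m) => cT j.down)))
          ((yon S).map (Sigma.ι (fun j : ULift.{u} (Fin m) => T j.down) j))
    have sq2 := IsPullback.of_hasPullback snd ((yon S).map
          (Sigma.desc fun j : ULift.{u} (Fin m) => cT j.down))
    have sq12 := sq1.flip.paste_vert sq2.flip
    rw [← Functor.map_comp, Sigma.ι_desc] at sq12
    have big := (sq12.paste_vert sqW.flip).flip
    rw [← hl j.down] at big
    simp only [Category.assoc] at big
    have hcond : (pullback.fst _ _ ≫ pullback.fst _ _ ≫ fst) ≫ f =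
        (pullback.snd (pullback.snd snd ((yon S).map
          (Sigma.desc fun j : ULift.{u} (Fin m) => cT j.down)))
          ((yon S).map (Sigma.ι (fun j : ULift.{u} (Fin m) => T j.down) j)) ≫ l j.down) ≫
          g (i j.down) := by
      rw [Category.assoc _ (l j.down)]
      simpa only [Category.assoc] using big.w
    have sqφ : IsPullback ((sq (i j.down)).lift _ _ hcond)
        (pullback.snd (pullback.snd snd ((yon S).map
          (Sigma.desc fun j : ULift.{u} (Fin m) => cT j.down)))
          ((yon S).map (Sigma.ι (fun j : ULift.{u} (Fin m) => T j.down) j)))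
        (p (i j.down)) (l j.down) := by
      refine IsPullback.of_right ?_ ((sq (i j.down)).lift_snd _ _ _) (sq (i j.down))
      rw [(sq (i j.down)).lift_fst]
      exact big
    exact (h2 (hXi (i j.down)) (hYi (i j.down)) (p (i j.down))).1 (H (i j.down)) (T j.down)
      (hT j.down) (l j.down) _ _ _ (hXj j) sqφ

end Groth.Agent.H53
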