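import Groth.Agent.H52.GeomRed
import Groth.Agent.H58.SkOpen.RedOpen

/-!
# Geometric reducedness of a fibre at a point is etale local on the source
-/

set_option autoImplicit false
universe u
open CategoryTheory CategoryTheory.Limits AlgebraicGeometry

namespace Groth.Agent.H53

/-- Geometric reducedness of the fibre at a point, read at any point of the fibre over the image. -/
theorem isGeomReducedAt_fibre_iff {W V : Scheme.{u}} (g : W ⟶ V) (w : W) (v : V) (hv : g w = v)
    (z : g.fiber v) (hz : g.fiberι v z = w) :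
    FBase.IsGeomReducedAt (g.fiberToSpecResidueField v) z ↔
      FBase.IsGeomReducedAt (g.fiberToSpecResidueField (g w)) (g.asFiber w) := by
  subst hv
  have : z = g.asFiber w :=
    (g.fiberι _).isEmbedding.injective (by rw [hz, Scheme.Hom.fiberι_asFiber])
  rw [this]

/-- Geometric reducedness of the fibre at a point is invariant under etale maps of the source. -/
theorem isGeomReducedAt_fibre_comp_etale {W₂ W V : Scheme.{u}} (p : W₂ ⟶ W) [Etale p] (g : W ⟶ V)
    (g₂ : W₂ ⟶ V) (hg₂ : p ≫ g = g₂) (w₂ : W₂) :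
    FBase.IsGeomReducedAt (g₂.fiberToSpecResidueField (g₂ w₂)) (g₂.asFiber w₂) ↔
      FBase.IsGeomReducedAt (g.fiberToSpecResidueField (g (p w₂))) (g.asFiber (p w₂)) := by
  subst hg₂
  let v : V := (p ≫ g) w₂
  have hv : g (p w₂) = v := rfl
  have sq₂ : IsPullback ((p ≫ g).fiberι v) ((p ≫ g).fiberToSpecResidueField v) (p ≫ g)
      (V.fromSpecResidueField v) := IsPullback.of_hasPullback _ _
  have sq₁ : IsPullback (g.fiberι v) (g.fiberToSpecResidueField v) g
      (V.fromSpecResidueField v) := IsPullback.of_hasPullback _ _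
  have hcomm : ((p ≫ g).fiberι v ≫ p) ≫ g =
      (p ≫ g).fiberToSpecResidueField v ≫ V.fromSpecResidueField v := by
    rw [Category.assoc]; exact sq₂.w
  let φ : (p ≫ g).fiber v ⟶ g.fiber v := sq₁.lift _ _ hcomm
  have hφ1 : φ ≫ g.fiberι v = (p ≫ g).fiberι v ≫ p := sq₁.lift_fst _ _ hcomm
  have hφ2 : φ ≫ g.fiberToSpecResidueField v = (p ≫ g).fiberToSpecResidueField v :=
    sq₁.lift_snd _ _ hcomm
  have outer : IsPullback (φ ≫ g.fiberToSpecResidueField v) ((p ≫ g).fiberι v)
      (V.fromSpecResidueField v) (p ≫ g) := by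
    rw [hφ2]; exact sq₂.flip
  have sqφ : IsPullback φ ((p ≫ g).fiberι v) (g.fiberι v) p :=
    IsPullback.of_right outer hφ1 sq₁.flip
  have hφe : Etale φ := MorphismProperty.of_isPullback (P := @Etale) sqφ.flip inferInstance
  have hz : g.fiberι v (φ ((p ≫ g).asFiber w₂)) = p w₂ := by
    rw [← Scheme.Hom.comp_apply, hφ1, Scheme.Hom.comp_apply, Scheme.Hom.fiberι_asFiber]
  have key := Groth.Agent.H52.isGeomReducedAt_iff_of_etale φ (g.fiberToSpecResidueField v)
    ((p ≫ g).asFiber w₂)
  have key' : FBase.IsGeomReducedAt ((p ≫ g).fiberToSpecResidueField v) ((p ≫ g).asFiber w₂) ↔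
      FBase.IsGeomReducedAt (g.fiberToSpecResidueField v) (φ ((p ≫ g).asFiber w₂)) := by
    rw [← hφ2]
    exact key
  exact key'.trans (isGeomReducedAt_fibre_iff g (p w₂) v hv _ hz)

end Groth.Agent.H53
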