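import Groth.Agent.H53.ZMT.GeomFibreQF
import Groth.Agent.H51.SpEtReduced
import Groth.Agent.H23.Geometrically
import Groth.Agent.H49.AlgSpRep

/-!
# Reducedness of fibres descends along field extensions
-/

set_option autoImplicit false
universe u
open CategoryTheory CategoryTheory.Limits AlgebraicGeometry Opposite

namespace Groth.Agent.H53

open AlgSp

variable {S : Scheme.{u}}

/-- If the base change of the fibre `X_T` along a flat surjective `T' ⟶ T` is reduced, then so is
`X_T`. -/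
theorem isReducedSp_of_flat_surjective_baseChange {X Y : AlgSp.Space S} (f : X ⟶ Y) {T T' : Over S}
    (t : (yon S).obj T ⟶ Y.obj) (κ : T' ⟶ T) (hκfl : Flat κ.left) (hκs : Surjective κ.left)
    {Xk Xk' : Sp S} (a : Xk ⟶ X.obj) (b : Xk ⟶ (yon S).obj T) (sq : IsPullback a b f.hom t)
    (a' : Xk' ⟶ X.obj) (b' : Xk' ⟶ (yon S).obj T')
    (sq' : IsPullback a' b' f.hom ((yon S).map κ ≫ t))
    (hred : EtaleLocally (fun U => IsReduced U) Xk') :
    EtaleLocally (fun U => IsReduced U) Xk := by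
  have hXk : IsAlgSpace Xk :=
    Groth.Agent.H49.isAlgSpace_of_isPullback sq Y.property.diag X.property (IsAlgSpace.yon_obj T)
  obtain ⟨U, c, hce, hcs⟩ := hXk.atlas
  obtain ⟨m, -, sqm⟩ := ZMT.exists_lift_isPullback sq sq'
  obtain ⟨h, hh⟩ := (yon S).map_surjective (c ≫ b)
  obtain ⟨U', p₁, p₂, sqU, sqUl⟩ := ZMT.exists_over_pullback h κ
  have sqUy : IsPullback ((yon S).map p₁) ((yon S).map p₂) ((yon S).map h) ((yon S).map κ) :=
    sqU.map (yon S)
  have hcomm : ((yon S).map p₁ ≫ c) ≫ b = (yon S).map p₂ ≫ (yon S).map κ := by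
    rw [Category.assoc, ← hh]
    exact sqUy.w
  let c' : (yon S).obj U' ⟶ Xk' := sqm.lift ((yon S).map p₁ ≫ c) ((yon S).map p₂) hcomm
  have hc'm : c' ≫ m = (yon S).map p₁ ≫ c := sqm.lift_fst _ _ _
  have hc'b : c' ≫ b' = (yon S).map p₂ := sqm.lift_snd _ _ _
  have sqc : IsPullback c' ((yon S).map p₁) m c := by
    refine IsPullback.of_right ?_ hc'm sqm.flip
    rw [hc'b, ← hh]
    exact sqUy.flip
  have hc'e : RepWith @Etale c' := MorphismProperty.of_isPullback sqc.flip hce
  have hU' : IsReduced U'.left :=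
    Groth.Agent.H51.isReduced_of_isReducedSp hred (AlgSp.EtOver.mk c' hc'e)
  have hp₁fl : Flat p₁.left := MorphismProperty.of_isPullback sqUl.flip hκfl
  have hp₁s : Surjective p₁.left := MorphismProperty.of_isPullback sqUl.flip hκs
  exact ⟨U, c, hce, hcs, Groth.Agent.H23.isReduced_of_flat_of_surjective p₁.left hp₁fl hp₁s hU'⟩

end Groth.Agent.H53
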