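import Groth.Agent.H53.GeomRedFibre
import Groth.Agent.H53.ZMT.GenFinSp
import Groth.Agent.H53.ZMT.GenFinDense4
import Groth.Agent.H53.UnivInj.Core
import Groth.Agent.H50.UnivInj
import Groth.Agent.H50.LocPBase
import Groth.Agent.H49.AlgSpQC
import Groth.Agent.S10686
import Groth.Agent.S1301

/-!
# The locus of geometrically reduced fibres is etale locally constructible
-/

set_option autoImplicit false
universe u
open CategoryTheory CategoryTheory.Limits AlgebraicGeometry Opposite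

namespace Groth.Agent.H53

open AlgSp

variable {S : Scheme.{u}}

/-- A chart of the base change of `f` to a scheme `V` induces a chart of every further base
change along a morphism of schemes `T' ⟶ V`. -/
theorem exists_chart_of_chart_baseChange {X Y : Sp S} (f : X ⟶ Y) {V W T' Z₀ : Over S}
    (a : (yon S).obj V ⟶ Y) (c : (yon S).obj W ⟶ pullback f a) (hce : RepWith @Etale c)
    (hcs : RepWith @Surjective c) (g : W ⟶ V) (hg : (yon S).map g = c ≫ pullback.snd f a)
    (τ : T' ⟶ V) {Xk' : Sp S} (a' : Xk' ⟶ X) (b' : Xk' ⟶ (yon S).obj T')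
    (sq' : IsPullback a' b' f ((yon S).map τ ≫ a)) (p₁ : Z₀ ⟶ W) (p₂ : Z₀ ⟶ T')
    (sqZ : IsPullback p₁ p₂ g τ) :
    ∃ c' : (yon S).obj Z₀ ⟶ Xk', RepWith @Etale c' ∧ RepWith @Surjective c' := by
  have sqV := IsPullback.of_hasPullback f a
  obtain ⟨m, -, sqm⟩ := ZMT.exists_lift_isPullback sqV sq'
  have sqZy : IsPullback ((yon S).map p₁) ((yon S).map p₂) ((yon S).map g) ((yon S).map τ) :=
    sqZ.map (yon S)
  have hcomm : ((yon S).map p₁ ≫ c) ≫ pullback.snd f a = (yon S).map p₂ ≫ (yon S).map τ := by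
    rw [Category.assoc, ← hg]
    exact sqZy.w
  let c' : (yon S).obj Z₀ ⟶ Xk' := sqm.lift ((yon S).map p₁ ≫ c) ((yon S).map p₂) hcomm
  have hc'm : c' ≫ m = (yon S).map p₁ ≫ c := sqm.lift_fst _ _ _
  have hc'b : c' ≫ b' = (yon S).map p₂ := sqm.lift_snd _ _ _
  have sqc : IsPullback c' ((yon S).map p₁) m c := by
    refine IsPullback.of_right ?_ hc'm sqm.flip
    rw [hc'b, ← hg]
    exact sqZy.flip
  exact ⟨c', MorphismProperty.of_isPullback sqc.flip hce, MorphismProperty.of_isPullback sqc.flip hcs⟩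

/-- The base change of a fibre along a field extension is a fibre product over the base. -/
theorem isReduced_iff_of_fiber_baseChange {W V : Scheme.{u}} (g : W ⟶ V) (v : V) {K' : Type u}
    [Field K'] (y : Spec (.of K') ⟶ Spec (V.residueField v)) {Z Z₀ : Scheme.{u}}
    (fst : Z ⟶ g.fiber v) (snd : Z ⟶ Spec (.of K'))
    (sqZ : IsPullback fst snd (g.fiberToSpecResidueField v) y)
    (p₁ : Z₀ ⟶ W) (p₂ : Z₀ ⟶ Spec (.of K'))
    (sqZ₀ : IsPullback p₁ p₂ g (y ≫ V.fromSpecResidueField v)) :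
    IsReduced Z ↔ IsReduced Z₀ := by
  have sqfib : IsPullback (g.fiberι v) (g.fiberToSpecResidueField v) g
      (V.fromSpecResidueField v) := IsPullback.of_hasPullback _ _
  have sq2 : IsPullback (fst ≫ g.fiberι v) snd g (y ≫ V.fromSpecResidueField v) :=
    sqZ.paste_horiz sqfib
  let e : Z ≅ Z₀ := sq2.isoIsPullback _ _ sqZ₀
  constructor
  · intro h
    exact isReduced_of_isOpenImmersion e.inv
  · intro h
    exact isReduced_of_isOpenImmersion e.hom

/-- The set of points of `|Y|` with geometrically reduced fibre. -/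
def geomRedLocus {X Y : AlgSp.Space S} (f : X ⟶ Y) : Set (Points Y.obj) :=
  {y : AlgSp.Points Y.obj | ∀ (k : AlgSp.FieldPt Y.obj), AlgSp.Points.mk k = y →
    ∀ (k' : Type u) [Field k'] (φ : k.K →+* k') (Xk' : AlgSp.Sp S) (a : Xk' ⟶ X.obj)
      (b : Xk' ⟶ (AlgSp.yon S).obj (Over.mk (Spec.map (CommRingCat.ofHom φ) ≫ k.str))),
      IsPullback a b f.hom ((AlgSp.yon S).map (Over.homMk (Spec.map (CommRingCat.ofHom φ)) rfl :
        Over.mk (Spec.map (CommRingCat.ofHom φ) ≫ k.str) ⟶ k.pt) ≫ k.toHom) →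
      AlgSp.EtaleLocally (fun U => IsReduced U) Xk'}

/-- Membership in the geometrically reduced locus, read on an affine chart of the base change. -/
theorem mem_geomRedLocus_iff_chart {X Y : AlgSp.Space S} (f : X ⟶ Y) {V W : Over S}
    (a : (yon S).obj V ⟶ Y.obj) (c : (yon S).obj W ⟶ pullback f.hom a) (hce : RepWith @Etale c)
    (hcs : RepWith @Surjective c) (g : W ⟶ V) (hg : (yon S).map g = c ≫ pullback.snd f.hom a)
    (v : ↥V.left) :
    Points.ofPt a v ∈ geomRedLocus f ↔ GeometricallyReduced (g.left.fiberToSpecResidueField v) := by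
  -- the common construction
  have main : ∀ (K' : Type u) [Field K'] (φ : (FieldPt.ofPt a v).K →+* K') (Xk' : Sp S)
      (a' : Xk' ⟶ X.obj)
      (b' : Xk' ⟶ (yon S).obj (Over.mk (Spec.map (CommRingCat.ofHom φ) ≫ (FieldPt.ofPt a v).str)))
      (_ : IsPullback a' b' f.hom ((yon S).map (Over.homMk (Spec.map (CommRingCat.ofHom φ)) rfl :
        Over.mk (Spec.map (CommRingCat.ofHom φ) ≫ (FieldPt.ofPt a v).str) ⟶ (FieldPt.ofPt a v).pt) ≫
          (FieldPt.ofPt a v).toHom)),
      ∃ (Z₀ : Over S) (c' : (yon S).obj Z₀ ⟶ Xk') (p₁ : Z₀.left ⟶ W.left)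
        (p₂ : Z₀.left ⟶ Spec (.of K')), RepWith @Etale c' ∧ RepWith @Surjective c' ∧
        IsPullback p₁ p₂ g.left (Spec.map (CommRingCat.ofHom φ) ≫ V.left.fromSpecResidueField v) := by
    intro K' _ φ Xk' a' b' sq'
    let T' : Over S := Over.mk (Spec.map (CommRingCat.ofHom φ) ≫ (FieldPt.ofPt a v).str)
    let τ : T' ⟶ V := (Over.homMk (Spec.map (CommRingCat.ofHom φ)) rfl :
      T' ⟶ (FieldPt.ofPt a v).pt) ≫ UnivInj.resPt V v
    have sq'' : IsPullback a' b' f.hom ((yon S).map τ ≫ a) := by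
      rw [FieldPt.toHom_ofPt] at sq'
      rw [Functor.map_comp, Category.assoc]
      exact sq'
    obtain ⟨Z₀, p₁, p₂, sqZ, sqZl⟩ := ZMT.exists_over_pullback g τ
    obtain ⟨c', hc'e, hc's⟩ := exists_chart_of_chart_baseChange f.hom a c hce hcs g hg τ a' b' sq''
      p₁ p₂ sqZ
    exact ⟨Z₀, c', p₁.left, p₂.left, hc'e, hc's, sqZl⟩
  constructor
  · intro hv
    refine ⟨fun K' _ y Z fst snd sqZ => ?_⟩
    let φc : V.left.residueField v ⟶ .of K' := Spec.preimage y
    have hφ : Spec.map (CommRingCat.ofHom φc.hom) = y := Spec.map_preimage y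
    have sq' := IsPullback.of_hasPullback f.hom
      ((yon S).map (Over.homMk (Spec.map (CommRingCat.ofHom φc.hom)) rfl :
        Over.mk (Spec.map (CommRingCat.ofHom φc.hom) ≫ (FieldPt.ofPt a v).str) ⟶
          (FieldPt.ofPt a v).pt) ≫ (FieldPt.ofPt a v).toHom)
    have hred := hv (FieldPt.ofPt a v) rfl K' φc.hom _ _ _ sq'
    obtain ⟨Z₀, c', p₁, p₂, hc'e, -, sqZ₀⟩ := main K' φc.hom _ _ _ sq'
    have hZ₀ : IsReduced Z₀.left :=
      Groth.Agent.H51.isReduced_of_isReducedSp hred (AlgSp.EtOver.mk c' hc'e)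
    have sqZ₀' : IsPullback p₁ p₂ g.left (y ≫ V.left.fromSpecResidueField v) := by
      rw [← hφ]
      exact sqZ₀
    exact (isReduced_iff_of_fiber_baseChange g.left v y fst snd sqZ p₁ p₂ sqZ₀').2 hZ₀
  · intro hv
    have h12 := ((Groth.Agent.S10686.result f (Points.ofPt a v)).out 0 1).1
    refine h12 ⟨FieldPt.ofPt a v, rfl, fun K' _ φ Xk' a' b' sq' => ?_⟩
    obtain ⟨Z₀, c', p₁, p₂, hc'e, hc's, sqZ₀⟩ := main K' φ Xk' a' b' sq'
    have sqZ := IsPullback.of_hasPullback (g.left.fiberToSpecResidueField v)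
      (Spec.map (CommRingCat.ofHom φ))
    have hZ : IsReduced (pullback (g.left.fiberToSpecResidueField v)
        (Spec.map (CommRingCat.ofHom φ))) :=
      GeometricallyReduced.geometrically_isReduced _ _ _ sqZ
    exact ⟨Z₀, c', hc'e, hc's,
      (isReduced_iff_of_fiber_baseChange g.left v _ _ _ sqZ p₁ p₂ sqZ₀).1 hZ⟩

end Groth.Agent.H53
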