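import Groth.Agent.H53.GeomRedEt
import Groth.Agent.H53.GeomRedLocus
import Groth.Agent.H53.LocalST

/-!
# The locus of geometrically reduced fibres of a flat, lfp, universally closed morphism is open
-/

set_option autoImplicit false
universe u
open CategoryTheory CategoryTheory.Limits AlgebraicGeometry Opposite

namespace Groth.Agent.H53

open AlgSp

variable {S : Scheme.{u}}

theorem isOpen_geomRedLocus {X Y : AlgSp.Space S} (f : X ⟶ Y) (hf1 : LocP @Flat f.hom)
    (hcl : IsUnivClosedMor f.hom) (hlfp : LocP @LocallyOfFinitePresentation f.hom) :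
    IsOpen (geomRedLocus f) := by
  have hX : IsAlgSpace X.obj := X.property
  have hY : IsAlgSpace Y.obj := Y.property
  obtain ⟨V, a, ha, has⟩ := hY.atlas
  have hVs : IsAlgSpace ((yon S).obj V) := IsAlgSpace.yon_obj V
  have sqV : IsPullback (pullback.fst f.hom a) (pullback.snd f.hom a) f.hom a :=
    IsPullback.of_hasPullback _ _
  have hXV : IsAlgSpace (pullback f.hom a) :=
    Groth.Agent.H49.isAlgSpace_of_isPullback sqV hY.diag hX hVs
  obtain ⟨W, c, hc, hcs⟩ := hXV.atlas
  obtain ⟨g, hg⟩ := (yon S).map_surjective (c ≫ pullback.snd f.hom a)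
  have hfst : IsEtaleMor (pullback.fst f.hom a) :=
    isEtaleMor_of_isPullback hVs hY hX sqV.flip (fun _ φ hφ => (RepWith @Etale).comp_mem _ _ hφ ha)
  have ha' : RepWith @Etale (c ≫ pullback.fst f.hom a) := hfst c hc
  have hcomm : (c ≫ pullback.fst f.hom a) ≫ f.hom = (yon S).map g ≫ a := by
    rw [Category.assoc, sqV.w, ← Category.assoc, hg]
  have hflat : Flat g.left := hf1 _ a g ha' ha hcomm
  have hlfp' : LocallyOfFinitePresentation g.left := hlfp _ a g ha' ha hcomm
  have hlft' : LocallyOfFiniteType g.left := inferInstance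
  -- the open set of good points of the chart
  let Ω : Set W.left := {w | FBase.IsGeomReducedAt (g.left.fiberToSpecResidueField (g.left w))
    (g.left.asFiber w)}
  have hΩ : IsOpen Ω := Groth.Agent.H58.SkOpen.main2549 g.left
  -- saturation
  have hsat : ∀ w₁ w₂ : W.left, Points.ofPt c w₁ = Points.ofPt c w₂ → (w₁ ∈ Ω ↔ w₂ ∈ Ω) := by
    intro w₁ w₂ h
    obtain ⟨P, p₁, p₂, sqP⟩ := exists_pullback_yon c c hc.rep
    have hp₁ : Etale p₁.left := prop_of_isPullback_yon sqP hc
    have hp₂ : Etale p₂.left := prop_of_isPullback_yon sqP.flip hc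
    obtain ⟨t, ht1, ht2⟩ := Groth.Agent.H51.exists_of_ofPt_eq sqP w₁ w₂ h
    have hpg : p₁ ≫ g = p₂ ≫ g := (yon S).map_injective (by
      rw [Functor.map_comp, Functor.map_comp, hg, ← Category.assoc, sqP.w, Category.assoc])
    have e1 := isGeomReducedAt_fibre_comp_etale p₁.left g.left (p₁ ≫ g).left rfl t
    have e2 := isGeomReducedAt_fibre_comp_etale p₂.left g.left (p₁ ≫ g).left
      (congrArg (fun k => k.left) hpg).symm t
    rw [ht1] at e1
    rw [ht2] at e2
    exact e1.symm.trans e2
  -- membership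
  have hmem : ∀ v : V.left, Points.ofPt a v ∈ geomRedLocus f ↔
      ∀ w : W.left, g.left w = v → w ∈ Ω := by
    intro v
    rw [mem_geomRedLocus_iff_chart f a c hc hcs g hg v,
      Groth.Agent.H99.RedFib.geometricallyReduced_fibre_iff g.left v]
    refine forall_congr' fun w => imp_congr Iff.rfl ?_
    exact (Groth.Agent.H99.RedFib.geomReduced_iff g.left w).symm
  -- closedness
  have hZ : IsClosed (Points.ofPt c '' Ωᶜ) := by
    have : Points.ofPt c '' Ωᶜ = (Points.ofPt c '' Ω)ᶜ := by
      ext x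
      constructor
      · rintro ⟨w, hw, rfl⟩ ⟨w', hw', h⟩
        exact hw ((hsat w' w h).1 hw')
      · intro hx
        obtain ⟨w, rfl⟩ := Groth.Agent.H51.surjective_ofPt_of_surjective c hcs x
        exact ⟨w, fun hw => hx ⟨w, hw, rfl⟩, rfl⟩
    rw [this]
    exact (Groth.Agent.H51.isOpenMap_ofPt_of_etale c hc _ hΩ).isClosed_compl
  have hcl' : IsClosed (Points.map (pullback.snd f.hom a) '' (Points.ofPt c '' Ωᶜ)) :=
    hcl hVs a _ _ sqV _ hZ
  have hsnd : ∀ w : W.left, Points.map (pullback.snd f.hom a) (Points.ofPt c w) =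
      Points.schemeHomeo V (g.left w) := by
    intro w
    rw [Points.map_ofPt, ← hg, Points.ofPt_eq_map_ofScheme]
    exact Points.map_yon_map_apply g w
  have hpre : Points.ofPt a ⁻¹' (geomRedLocus f) =
      (Points.schemeHomeo V ⁻¹'
        (Points.map (pullback.snd f.hom a) '' (Points.ofPt c '' Ωᶜ)))ᶜ := by
    ext v
    rw [Set.mem_preimage, hmem]
    constructor
    · rintro h ⟨_, ⟨w, hw, rfl⟩, hv⟩
      rw [hsnd] at hv
      exact hw (h w ((Points.schemeHomeo V).injective hv))
    · intro h w hw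
      by_contra hwΩ
      exact h ⟨_, ⟨w, hwΩ, rfl⟩, by rw [hsnd, hw]⟩
  have hopen : IsOpen (Points.ofPt a ⁻¹' (geomRedLocus f)) := by
    rw [hpre]
    exact (hcl'.preimage (Points.schemeHomeo V).continuous).isOpen_compl
  have himg : geomRedLocus f = Points.ofPt a '' (Points.ofPt a ⁻¹' (geomRedLocus f)) :=
    (Set.image_preimage_eq _ (Groth.Agent.H51.surjective_ofPt_of_surjective a has)).symm
  rw [himg]
  exact Groth.Agent.H51.isOpenMap_ofPt_of_etale a ha _ hopen

end Groth.Agent.H53
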