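import Groth.Agent.H53.GluePair

set_option linter.style.haveILetI false

/-! Glueing pairs detect finite type (S10722). -/

universe u

open TensorProduct

namespace Groth.Agent.H53

variable {R R' : Type u} [CommRing R] [CommRing R'] [Algebra R R'] {f : R}
  {A B : Type u} [CommRing A] [Algebra R A] [CommRing B] [Algebra R B]

theorem finiteType_of_glue (hRR' : EtGlue.QuotPowBijective R R' f) (φ : A →ₐ[R] B)
    (h1 : (Localization.awayMap φ.toRingHom (algebraMap R A f)).FiniteType)
    (h2 : (Algebra.TensorProduct.map (AlgHom.id R R') φ).toRingHom.FiniteType) :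
    φ.toRingHom.FiniteType := by
  classical
  letI : Algebra A B := φ.toRingHom.toAlgebra
  haveI : IsScalarTower R A B := IsScalarTower.of_algebraMap_eq (fun r => (φ.commutes r).symm)
  -- step a
  have ha : ∃ s₁ : Finset B, ∀ b : B, ∃ n : ℕ,
      (φ.toRingHom (algebraMap R A f)) ^ n * b ∈ Algebra.adjoin A (s₁ : Set B) := by
    have hcomp := h1.comp
      (RingHom.finiteType_holdsForLocalizationAway (Localization.Away (algebraMap R A f))
        (algebraMap R A f))
    have e : (Localization.awayMap φ.toRingHom (algebraMap R A f)).comp (algebraMap A _) =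
        (algebraMap B (Localization.Away (φ.toRingHom (algebraMap R A f)))).comp φ.toRingHom :=
      IsLocalization.map_comp _
    rw [e] at hcomp
    have hft : Algebra.FiniteType A (Localization.Away (φ.toRingHom (algebraMap R A f))) := by
      rw [← RingHom.finiteType_algebraMap,
        IsScalarTower.algebraMap_eq A B (Localization.Away (φ.toRingHom (algebraMap R A f)))]
      exact hcomp
    obtain ⟨t, ht⟩ := hft.out
    refine ⟨IsLocalization.finsetIntegerMultiple
      (Submonoid.powers (φ.toRingHom (algebraMap R A f))) t, fun b => ?_⟩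
    have hM : Submonoid.powers (φ.toRingHom (algebraMap R A f)) ≤
        (Algebra.adjoin A ((IsLocalization.finsetIntegerMultiple
          (Submonoid.powers (φ.toRingHom (algebraMap R A f))) t : Finset B) : Set B)).toSubmonoid := by
      rintro _ ⟨n, rfl⟩
      exact pow_mem (Subalgebra.algebraMap_mem _ (algebraMap R A f)) n
    obtain ⟨⟨_, n, rfl⟩, hm⟩ := IsLocalization.exists_smul_mem_of_mem_adjoin (R := A)
      (Submonoid.powers (φ.toRingHom (algebraMap R A f))) b t (Algebra.adjoin A _)
      Algebra.subset_adjoin hM (by rw [ht]; trivial)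
    exact ⟨n, hm⟩
  -- step b
  let W : Subalgebra R B → Subalgebra R (R' ⊗[R] B) :=
    fun B₀ => (Algebra.TensorProduct.map (AlgHom.id R R') B₀.val).range
  have W_tmul : ∀ (B₀ : Subalgebra R B) (r' : R') (b : B), b ∈ B₀ → r' ⊗ₜ[R] b ∈ W B₀ :=
    fun B₀ r' b hb => ⟨r' ⊗ₜ ⟨b, hb⟩, by simp⟩
  have W_le : ∀ (B₀ : Subalgebra R B) (T : Subalgebra R (R' ⊗[R] B)),
      (∀ r' b, b ∈ B₀ → r' ⊗ₜ[R] b ∈ T) → W B₀ ≤ T := by
    rintro B₀ T hT _ ⟨y, rfl⟩
    induction y using TensorProduct.induction_on with
    | zero => simp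
    | tmul r' b => simpa using hT r' b b.2
    | add x y hx hy => rw [map_add]; exact T.add_mem hx hy
  have W_mono : ∀ B₀ B₁ : Subalgebra R B, B₀ ≤ B₁ → W B₀ ≤ W B₁ :=
    fun B₀ B₁ h => W_le B₀ _ (fun r' b hb => W_tmul B₁ r' b (h hb))
  let adj : Finset B → Subalgebra R B :=
    fun s => (Algebra.adjoin A (s : Set B)).restrictScalars R
  have adj_mono : ∀ s s' : Finset B, s ⊆ s' → adj s ≤ adj s' := by
    intro s s' hss x hx
    exact Algebra.adjoin_mono (by exact_mod_cast hss) hx
  have hb1 : ∀ t : R' ⊗[R] B, ∃ s : Finset B, t ∈ W (adj s) := by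
    intro t
    induction t using TensorProduct.induction_on with
    | zero => exact ⟨∅, zero_mem _⟩
    | tmul r' b => exact ⟨{b}, W_tmul _ r' b (Algebra.subset_adjoin (by simp))⟩
    | add x y hx hy =>
      obtain ⟨s, hs⟩ := hx
      obtain ⟨s', hs'⟩ := hy
      exact ⟨s ∪ s', add_mem (W_mono _ _ (adj_mono _ _ Finset.subset_union_left) hs)
        (W_mono _ _ (adj_mono _ _ Finset.subset_union_right) hs')⟩
  have hb2 : ∀ T : Finset (R' ⊗[R] B), ∃ s : Finset B, ∀ t ∈ T, t ∈ W (adj s) := by
    intro T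
    induction T using Finset.induction_on with
    | empty => exact ⟨∅, by simp⟩
    | insert t T _ ih =>
      obtain ⟨s, hs⟩ := ih
      obtain ⟨s', hs'⟩ := hb1 t
      refine ⟨s ∪ s', fun x hx => ?_⟩
      rcases Finset.mem_insert.1 hx with rfl | hx
      · exact W_mono _ _ (adj_mono _ _ Finset.subset_union_right) hs'
      · exact W_mono _ _ (adj_mono _ _ Finset.subset_union_left) (hs x hx)
  obtain ⟨s₁, hs₁⟩ := ha
  letI algT : Algebra (R' ⊗[R] A) (R' ⊗[R] B) :=
    (Algebra.TensorProduct.map (AlgHom.id R R') φ).toRingHom.toAlgebra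
  obtain ⟨T, hT⟩ := (h2 : Algebra.FiniteType (R' ⊗[R] A) (R' ⊗[R] B)).out
  obtain ⟨s₂, hs₂⟩ := hb2 T
  have hWtop : ∀ x : R' ⊗[R] B, x ∈ W (adj (s₁ ∪ s₂)) := by
    intro x
    have hx : x ∈ Algebra.adjoin (R' ⊗[R] A) (T : Set (R' ⊗[R] B)) := by rw [hT]; trivial
    induction hx using Algebra.adjoin_induction with
    | mem x hx => exact W_mono _ _ (adj_mono _ _ Finset.subset_union_right) (hs₂ x hx)
    | algebraMap y =>
      show Algebra.TensorProduct.map (AlgHom.id R R') φ y ∈ W (adj (s₁ ∪ s₂))
      induction y using TensorProduct.induction_on with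
      | zero => simp
      | tmul r' a =>
        simpa using W_tmul (adj (s₁ ∪ s₂)) r' (φ a)
          (Subalgebra.algebraMap_mem (Algebra.adjoin A ((s₁ ∪ s₂ : Finset B) : Set B)) a)
      | add x y hx hy => rw [map_add]; exact add_mem hx hy
    | add x y _ _ hx hy => exact add_mem hx hy
    | mul x y _ _ hx hy => exact mul_mem hx hy
  have key : Subalgebra.toSubmodule (adj (s₁ ∪ s₂)) = ⊤ := by
    apply submodule_eq_top_of_glue hRR'
    · intro b
      obtain ⟨n, hn⟩ := hs₁ b
      refine ⟨n, ?_⟩
      have e : f ^ n • b = (φ.toRingHom (algebraMap R A f)) ^ n * b := by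
        rw [Algebra.smul_def, map_pow]
        congr 2
        exact (φ.commutes f).symm
      rw [e]
      exact adj_mono _ _ Finset.subset_union_left hn
    · intro b
      obtain ⟨y, hy⟩ := hWtop ((1 : R') ⊗ₜ[R] b)
      refine ⟨y, ?_⟩
      rw [← hy]
      clear hy
      induction y using TensorProduct.induction_on with
      | zero => simp
      | tmul r' b => simp
      | add x y hx hy => simp only [map_add, hx, hy]
  refine ⟨⟨s₁ ∪ s₂, ?_⟩⟩
  rw [eq_top_iff]
  intro b _
  have hb : b ∈ Subalgebra.toSubmodule (adj (s₁ ∪ s₂)) := by rw [key]; trivial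
  exact hb

theorem glue_finiteType_iff (hRR' : EtGlue.QuotPowBijective R R' f) (φ : A →ₐ[R] B) :
    φ.toRingHom.FiniteType ↔ (Localization.awayMap φ.toRingHom (algebraMap R A f)).FiniteType ∧
      (Algebra.TensorProduct.map (AlgHom.id R R') φ).toRingHom.FiniteType :=
  ⟨fun h => ⟨RingHom.finiteType_localizationPreserves.away _ _ _ _ h,
    tensorMap_of_isStableUnderBaseChange RingHom.finiteType_isStableUnderBaseChange φ h⟩,
    fun h => finiteType_of_glue hRR' φ h.1 h.2⟩

end Groth.Agent.H53
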