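import Groth.Agent.H53.EtaleLift

universe u
open CategoryTheory CategoryTheory.Limits AlgebraicGeometry Opposite AlgSp

namespace Groth.Agent.H53

variable {S : Scheme.{u}}

/-- Gluing local solutions of a lifting problem along `j : T ⟶ T'` over an etale covering family
`P' k ⟶ T'` (with `P k = P' k ×_{T'} T`), given a uniqueness principle for solutions over every
scheme over `T'`. -/
theorem glue_local_lifts {T T' : Over S} (j : T ⟶ T') {𝒴 𝒳 : Sp S} (f : 𝒴 ⟶ 𝒳)
    (top : (yon S).obj T ⟶ 𝒴) (bot : (yon S).obj T' ⟶ 𝒳)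
    {ι : Type u} (P' P : ι → Over S) (π : ∀ k, P' k ⟶ T') (i : ∀ k, P k ⟶ P' k)
    (ρ : ∀ k, P k ⟶ T) (hπ : ∀ k, Etale (π k).left)
    (hπs : ∀ z : ↥T'.left, ∃ k, z ∈ Set.range (π k).left)
    (hρs : ∀ z : ↥T.left, ∃ k, z ∈ Set.range (ρ k).left)
    (sq : ∀ k, IsPullback (i k) (ρ k) (π k) j)
    (m : ∀ k, (yon S).obj (P' k) ⟶ 𝒴)
    (hm1 : ∀ k, (yon S).map (i k) ≫ m k = (yon S).map (ρ k) ≫ top)
    (hm2 : ∀ k, m k ≫ f = (yon S).map (π k) ≫ bot)
    (UP : ∀ (W WT : Over S) (g : W ⟶ T') (ω : WT ⟶ W) (τ : WT ⟶ T), IsPullback ω τ g j →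
      ∀ n₁ n₂ : (yon S).obj W ⟶ 𝒴, (yon S).map ω ≫ n₁ = (yon S).map τ ≫ top →
        (yon S).map ω ≫ n₂ = (yon S).map τ ≫ top → n₁ ≫ f = (yon S).map g ≫ bot →
        n₂ ≫ f = (yon S).map g ≫ bot → n₁ = n₂) :
    ∃ L : (yon S).obj T' ⟶ 𝒴, (yon S).map j ≫ L = top ∧ L ≫ f = bot := by
  have hρ : ∀ k, Etale (ρ k).left := fun k =>
    MorphismProperty.of_isPullback (P := @Etale) ((sq k).map (Over.forget S)) (hπ k)
  have hcov := cover_of_family P' π (fun k => by have := hπ k; infer_instance)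
    (fun k => by have := hπ k; infer_instance) hπs
  have hcovρ := cover_of_family P ρ (fun k => by have := hρ k; infer_instance)
    (fun k => by have := hρ k; infer_instance) hρs
  obtain ⟨L, hL⟩ := desc_of_family P' (fun k => (yon S).map (π k)) hcov m (by
    intro W k l g₁ g₂ hg
    have hg' : g₁ ≫ π k = g₂ ≫ π l := (yon S).map_injective (by
      rw [Functor.map_comp, Functor.map_comp]; exact hg)
    have PB := IsPullback.of_hasPullback (g₁ ≫ π k) j
    obtain ⟨u₁, hu1, hu2⟩ : ∃ u₁, u₁ ≫ i k = pullback.fst (g₁ ≫ π k) j ≫ g₁ ∧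
        u₁ ≫ ρ k = pullback.snd (g₁ ≫ π k) j :=
      ⟨(sq k).lift _ _ (by rw [Category.assoc, PB.w]), (sq k).lift_fst _ _ _, (sq k).lift_snd _ _ _⟩
    obtain ⟨u₂, hu3, hu4⟩ : ∃ u₂, u₂ ≫ i l = pullback.fst (g₁ ≫ π k) j ≫ g₂ ∧
        u₂ ≫ ρ l = pullback.snd (g₁ ≫ π k) j :=
      ⟨(sq l).lift _ _ (by rw [Category.assoc, ← hg', PB.w]), (sq l).lift_fst _ _ _,
        (sq l).lift_snd _ _ _⟩
    refine UP W _ (g₁ ≫ π k) _ _ PB _ _ ?_ ?_ ?_ ?_
    · rw [← Category.assoc, ← Functor.map_comp, ← hu1, Functor.map_comp, Category.assoc, hm1,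
        ← Category.assoc, ← Functor.map_comp, hu2]
    · rw [← Category.assoc, ← Functor.map_comp, ← hu3, Functor.map_comp, Category.assoc, hm1,
        ← Category.assoc, ← Functor.map_comp, hu4]
    · rw [Category.assoc, hm2, ← Category.assoc, ← Functor.map_comp]
    · rw [Category.assoc, hm2, ← Category.assoc, ← Functor.map_comp, hg'])
  refine ⟨L, ?_, ?_⟩
  · refine hom_ext_of_family P (fun k => (yon S).map (ρ k)) hcovρ _ _ fun k => ?_
    rw [← Category.assoc, ← Functor.map_comp, ← (sq k).w, Functor.map_comp, Category.assoc, hL, hm1]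
  · refine hom_ext_of_family P' (fun k => (yon S).map (π k)) hcov _ _ fun k => ?_
    rw [← Category.assoc, hL, hm2]


/-- Pullbacks of the closed immersion of a lifting square, computed in `Over S`, are first order
thickenings of sheaves. -/
theorem isFOThickMor_yon_map_of_isPullback {T T' W WT : Over S} (j : T ⟶ T')
    (hj : IsFOThickMor ((yon S).map j)) {g : W ⟶ T'} {ω : WT ⟶ W} {τ : WT ⟶ T}
    (PB : IsPullback ω τ g j) : IsFOThickMor ((yon S).map ω) :=
  isFOThickMor_of_isPullback hj (IsAlgSpace.yon_obj _) (PB.flip.map (yon S))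

/-- If `a` is representable, etale and surjective and `a ≫ b` is formally etale, then `b` is
formally etale. -/
theorem isFormallyEtaleMor_of_comp {F G H : Sp S} (a : F ⟶ G) (b : G ⟶ H)
    (ha : RepWith @Etale a) (ha' : RepWith @Surjective a)
    (hab : IsFormallyEtaleMor (a ≫ b)) : IsFormallyEtaleMor b := by
  have hu : IsFormallyUnramifiedMor b := isFormallyUnramifiedMor_of_comp a b ha ha'
    (isFormallyUnramifiedMor_of_isFormallyEtaleMor hab)
  refine isFormallyEtaleMor_of_smooth_of_unramified ?_ hu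
  intro sq
  have hjF := isFOThickMor_infSq_j sq
  have hT'aff : IsAffine sq.ptT'.left := by dsimp; infer_instance
  have hj1 : thick sq.j.left :=
    ⟨IsClosedImmersion.spec_of_surjective _ Ideal.Quotient.mk_surjective,
      ⟨Groth.Agent.H8.specMap_quotientMk_surjective sq.I sq.sq_zero⟩⟩
  have hj2 : sqZero sq.j.left := sqZero_specMap_quotientMk sq.I sq.sq_zero
  obtain ⟨ι, P', P, π, i, ρ, s, hP', hπ, hπs, hρs, hsq, hs⟩ :=
    exists_local_lift_of_thick a ha ha' sq.j hT'aff hj1 hj2 sq.top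
  have hik : ∀ k, IsFOThickMor ((yon S).map (i k)) := fun k =>
    isFOThickMor_of_isPullback hjF (IsAlgSpace.yon_obj _) ((hsq k).flip.map (yon S))
  have hw : ∀ k, s k ≫ a ≫ b = (yon S).map (i k) ≫ (yon S).map (π k) ≫ sq.bot := fun k => by
    rw [← Category.assoc, hs, Category.assoc, sq.comm, ← Category.assoc, ← Functor.map_comp,
      ← (hsq k).w, Functor.map_comp, Category.assoc]
  choose l hl1 hl2 using fun k => thick_lift_exists (a ≫ b) hab ((yon S).map (i k)) (hik k)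
    (IsAlgSpace.yon_obj _) (s k) ((yon S).map (π k) ≫ sq.bot) (hw k)
  obtain ⟨L, hL1, hL2⟩ := glue_local_lifts sq.j b sq.top sq.bot P' P π i ρ hπ hπs hρs hsq
    (fun k => l k ≫ a)
    (fun k => by rw [← Category.assoc, hl1, hs])
    (fun k => by rw [Category.assoc, hl2])
    (fun W WT g ω τ PB n₁ n₂ e1 e2 e3 e4 =>
      thick_lift_unique b hu ((yon S).map ω) (isFOThickMor_yon_map_of_isPullback sq.j hjF PB)
        (IsAlgSpace.yon_obj W) ((yon S).map τ ≫ sq.top) ((yon S).map g ≫ sq.bot) n₁ n₂ e1 e3 e2 e4)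
  exact ⟨L, hL1, hL2⟩

end Groth.Agent.H53
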