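import Groth.Agent.H9.GlueBij
import Mathlib

set_option linter.style.haveILetI false

/-! Glueing pairs: generalities for the "detects property" rows (S10722–S10724). -/

universe u

open TensorProduct

namespace Groth.Agent.H53

section general

variable {R R' : Type u} [CommRing R] [CommRing R'] [Algebra R R'] {f : R}

/-- For a glueing pair, a submodule `N ⊆ B` with `B/N` `f`-power torsion and `R' ⊗ N → R' ⊗ B` hitting all
`1 ⊗ b` is everything. -/
lemma submodule_eq_top_of_glue (h : EtGlue.QuotPowBijective R R' f) {B : Type u} [AddCommGroup B]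
    [Module R B] (N : Submodule R B) (h1 : ∀ b : B, ∃ n : ℕ, f ^ n • b ∈ N)
    (h2 : ∀ b : B, ∃ y : R' ⊗[R] N, LinearMap.lTensor R' N.subtype y = (1 : R') ⊗ₜ[R] b) :
    N = ⊤ := by
  have hC : ∀ c : B ⧸ N, ∃ n : ℕ, f ^ n • c = 0 := by
    intro c
    obtain ⟨b, rfl⟩ := Submodule.mkQ_surjective N c
    obtain ⟨n, hn⟩ := h1 b
    refine ⟨n, ?_⟩
    rw [← map_smul, Submodule.mkQ_apply, Submodule.Quotient.mk_eq_zero]
    exact hn
  have hz : ∀ y : R' ⊗[R] N, LinearMap.lTensor R' N.mkQ (LinearMap.lTensor R' N.subtype y) = 0 := by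
    intro y
    induction y using TensorProduct.induction_on with
    | zero => simp
    | tmul r n =>
      have e : (Submodule.Quotient.mk (n : B) : B ⧸ N) = 0 :=
        (Submodule.Quotient.mk_eq_zero N).2 n.2
      rw [LinearMap.lTensor_tmul, LinearMap.lTensor_tmul, Submodule.subtype_apply,
        Submodule.mkQ_apply, e, TensorProduct.tmul_zero]
    | add x y hx hy => rw [map_add, map_add, hx, hy, add_zero]
  rw [eq_top_iff]
  intro b _
  have h0 : (1 : R') ⊗ₜ[R] (N.mkQ b) = (1 : R') ⊗ₜ[R] (0 : B ⧸ N) := by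
    obtain ⟨y, hy⟩ := h2 b
    have e : (1 : R') ⊗ₜ[R] (N.mkQ b) = LinearMap.lTensor R' N.mkQ ((1 : R') ⊗ₜ[R] b) := rfl
    rw [e, ← hy, TensorProduct.tmul_zero]
    exact hz y
  have h3 := (Groth.Agent.H9.glue_tmul_bijective h (B ⧸ N) hC).1 h0
  rw [Submodule.mkQ_apply, Submodule.Quotient.mk_eq_zero] at h3
  exact h3

end general

section basechange

attribute [local instance] Algebra.TensorProduct.rightAlgebra

/-- A base-change-stable property of ring maps passes from `φ : A → B` to `R' ⊗ A → R' ⊗ B`. -/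
lemma tensorMap_of_isStableUnderBaseChange
    {P : ∀ {R S : Type u} [CommRing R] [CommRing S], (R →+* S) → Prop}
    (hP : RingHom.IsStableUnderBaseChange @P)
    {R R' A B : Type u} [CommRing R] [CommRing R'] [Algebra R R'] [CommRing A] [Algebra R A]
    [CommRing B] [Algebra R B] (φ : A →ₐ[R] B) (h : P φ.toRingHom) :
    P (Algebra.TensorProduct.map (AlgHom.id R R') φ).toRingHom := by
  letI : Algebra A B := φ.toRingHom.toAlgebra
  haveI : IsScalarTower R A B := IsScalarTower.of_algebraMap_eq (fun r => (φ.commutes r).symm)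
  letI : Algebra (R' ⊗[R] A) (R' ⊗[R] B) :=
    (Algebra.TensorProduct.map (AlgHom.id R R') φ).toRingHom.toAlgebra
  letI : Algebra A (R' ⊗[R] B) := ((algebraMap B (R' ⊗[R] B)).comp (algebraMap A B)).toAlgebra
  haveI : IsScalarTower A B (R' ⊗[R] B) := IsScalarTower.of_algebraMap_eq (fun _ => rfl)
  haveI : IsScalarTower A (R' ⊗[R] A) (R' ⊗[R] B) := IsScalarTower.of_algebraMap_eq (fun a => by
    show (1 : R') ⊗ₜ[R] φ a = Algebra.TensorProduct.map (AlgHom.id R R') φ ((1 : R') ⊗ₜ[R] a)
    simp)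
  haveI : IsScalarTower R (R' ⊗[R] A) (R' ⊗[R] B) := IsScalarTower.of_algebraMap_eq (fun r => by
    show algebraMap R (R' ⊗[R] B) r = Algebra.TensorProduct.map (AlgHom.id R R') φ (algebraMap R _ r)
    simp)
  haveI : IsScalarTower R' (R' ⊗[R] A) (R' ⊗[R] B) := IsScalarTower.of_algebraMap_eq (fun r => by
    show algebraMap R' (R' ⊗[R] B) r = Algebra.TensorProduct.map (AlgHom.id R R') φ (algebraMap R' _ r)
    simp [Algebra.TensorProduct.algebraMap_apply])
  haveI : Algebra.IsPushout A B (R' ⊗[R] A) (R' ⊗[R] B) :=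
    (Algebra.IsPushout.comp_iff R A R' (S' := R' ⊗[R] A) (T := B) (T' := R' ⊗[R] B)).1 inferInstance
  exact hP A B (R' ⊗[R] A) (R' ⊗[R] B) h

end basechange

end Groth.Agent.H53
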