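import Groth.Agent.H53.UnramLocus
import Groth.Agent.H51.SpOpen

/-! The open subspace of the base over which a morphism is unramified, with its universal property. -/

set_option autoImplicit false
universe u

open CategoryTheory CategoryTheory.Limits AlgebraicGeometry Opposite
open AlgSp

namespace Groth.Agent.H53

variable {S : Scheme.{u}}

/-- `LocP` unramified is the same as being unramified at every point. -/
theorem locP_unram_iff_forall_hasAtMor {X Y : Sp S} (hX : IsAlgSpace X) (hY : IsAlgSpace Y)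
    (f : X ⟶ Y) :
    LocP (@LocallyOfFiniteType ⊓ @FormallyUnramified : MorphismProperty Scheme.{u}) f ↔
      ∀ x : Points X, HasAtMor UnramAt f x := by
  have : IsZariskiLocalAtSource
      (@LocallyOfFiniteType ⊓ @FormallyUnramified : MorphismProperty Scheme.{u}) := inferInstance
  rw [Groth.Agent.H50.goodClass_unram.locP_iff_forall_hasAtMor hX hY f]
  refine forall_congr' fun x => ⟨?_, ?_⟩
  · rintro ⟨U₁, V₁, a₁, b₁, h₁, u₁, ha₁, hb₁, hc₁, hx₁, W, hW, h1, h2⟩
    exact ⟨U₁, V₁, a₁, b₁, h₁, u₁, ha₁, hb₁, hc₁, hx₁, W, hW, h1, h2⟩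
  · rintro ⟨U₁, V₁, a₁, b₁, h₁, u₁, ha₁, hb₁, hc₁, hx₁, W, hW, h1, h2⟩
    exact ⟨U₁, V₁, a₁, b₁, h₁, u₁, ha₁, hb₁, hc₁, hx₁, W, hW, h1, h2⟩

/-- The open subspace `W` of `Z` over which `f : X ⟶ Y` (over `Z`) is unramified, when `X ⟶ Z` is
closed and `f` locally of finite type. -/
theorem exists_open_where_unramified {X Y Z : Sp S} (hX : IsAlgSpace X) (hY : IsAlgSpace Y)
    (hZ : IsAlgSpace Z) (f : X ⟶ Y) (q : Y ⟶ Z) (hlft : LocP @LocallyOfFiniteType f)
    (hcl : IsClosedMap (Points.map (f ≫ q))) :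
    ∃ (W : Sp S) (w : W ⟶ Z), IsAlgSpace W ∧ RepWith @IsOpenImmersion w ∧
      Set.range (Points.map w) =
        (Points.map (f ≫ q) '' {x : Points X | HasAtMor UnramAt f x}ᶜ)ᶜ ∧
      ∀ (Z' : Sp S) (_ : IsAlgSpace Z') (g : Z' ⟶ Z),
        (∃ k : Z' ⟶ W, k ≫ w = g) ↔
          ∀ (Y' : Sp S) (_ : IsAlgSpace Y') (gY : Y' ⟶ Y) (q' : Y' ⟶ Z'), IsPullback gY q' q g →
            ∀ (X' : Sp S) (_ : IsAlgSpace X') (gX : X' ⟶ X) (f' : X' ⟶ Y'),
              IsPullback gX f' f gY →
                LocP (@LocallyOfFiniteType ⊓ @FormallyUnramified : MorphismProperty Scheme.{u})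
                  f' := by
  have hO : IsOpen (Points.map (f ≫ q) '' {x : Points X | HasAtMor UnramAt f x}ᶜ)ᶜ :=
    (hcl _ (isOpen_hasAtMor_unramAt f).isClosed_compl).isOpen_compl
  obtain ⟨W, w, hW, hw, hr⟩ := Groth.Agent.H51.exists_open_subspace hZ _ hO
  refine ⟨W, w, hW, hw, hr, fun Z' hZ' g => ?_⟩
  constructor
  · rintro ⟨k, rfl⟩ Y' hY' gY q' sqY X' hX' gX f' sqX
    rw [locP_unram_iff_forall_hasAtMor hX' hY']
    intro x'
    rw [hasAtMor_unramAt_baseChange_iff hX hY hX' hY' f hlft gY gX f' sqX]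
    by_contra hcon
    have hmem : Points.map (f ≫ q) (Points.map gX x') ∈ Set.range (Points.map w) := by
      have e : gX ≫ f ≫ q = (f' ≫ q' ≫ k) ≫ w := by
        rw [← Category.assoc, sqX.w, Category.assoc, sqY.w, Category.assoc, Category.assoc]
      rw [← Points.map_comp, e, Points.map_comp]
      exact ⟨_, rfl⟩
    rw [hr] at hmem
    exact hmem ⟨_, hcon, rfl⟩
  · intro H
    rw [Groth.Agent.H51.exists_factor_iff_of_isOpenImmersion' w hw g, hr]
    rintro _ ⟨z', rfl⟩
    rintro ⟨t, ht, hpt⟩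
    -- the pullbacks
    have sqY := IsPullback.of_hasPullback q g
    have hY' : IsAlgSpace (pullback q g) :=
      Groth.Agent.H49.isAlgSpace_of_isPullback sqY hZ.diag hY hZ'
    have sqX := IsPullback.of_hasPullback f (pullback.fst q g)
    have hX' : IsAlgSpace (pullback f (pullback.fst q g)) :=
      Groth.Agent.H49.isAlgSpace_of_isPullback sqX hY.diag hX hY'
    have hP := H _ hY' _ _ sqY _ hX' _ _ sqX
    rw [locP_unram_iff_forall_hasAtMor hX' hY'] at hP
    have big := sqX.paste_vert sqY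
    obtain ⟨x', hx't, -⟩ := exists_point_of_isPullback big t z' hpt
    have := hP x'
    rw [hasAtMor_unramAt_baseChange_iff hX hY hX' hY' f hlft _ _ _ sqX, hx't] at this
    exact ht this

end Groth.Agent.H53
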