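import Groth.Prelude.Def_AlgSpGpd
import Groth.Agent.H53.UnramWhere
import Groth.Agent.H53.QfLocus
import Groth.Agent.H50.LocPBase
import Groth.Agent.H51.SpOpen

/-! For a group algebraic space `G → B` locally of finite type and a pointwise property `Q` whose
locus is open and commutes with base change: the largest open of `B` over which `G` has the
corresponding property, and its compatibility with base change. -/

set_option autoImplicit false
universe v u
open CategoryTheory CategoryTheory.Limits AlgebraicGeometry MonoidalCategory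
  CartesianMonoidalCategory MonObj AlgSp

namespace Groth.Agent.H53

section Shear

variable {C : Type u} [Category.{v} C] [CartesianMonoidalCategory C] (A : C) [GrpObj A]

theorem mu_eq_fst_mul_snd : (μ : A ⊗ A ⟶ A) = fst A A * snd A A := by
  rw [Hom.mul_def, lift_fst_snd, Category.id_comp]

/-- The shear automorphism `(g, h) ↦ (g, g h)` of `A ⊗ A`. -/
def shearIso : A ⊗ A ≅ A ⊗ A where
  hom := lift (fst A A) μ
  inv := lift (fst A A) (lift (fst A A ≫ ι) (snd A A) ≫ μ)
  hom_inv_id := by
    apply CartesianMonoidalCategory.hom_ext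
    · simp
    · simp only [comp_lift, lift_fst, lift_fst_assoc, Category.id_comp, lift_snd, comp_lift_assoc]
      rw [← Hom.mul_def, ← Hom.inv_def, mu_eq_fst_mul_snd, inv_mul_cancel_left]
  inv_hom_id := by
    apply CartesianMonoidalCategory.hom_ext
    · simp
    · simp only [comp_lift, lift_fst, Category.id_comp, lift_snd]
      rw [← Hom.mul_def, ← Hom.mul_def, ← Hom.inv_def, mul_inv_cancel_left]

theorem shearIso_hom_fst : (shearIso A).hom ≫ fst A A = fst A A := by simp [shearIso]

theorem shearIso_hom_snd : (shearIso A).hom ≫ snd A A = μ := by simp [shearIso]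

end Shear

variable {S : Scheme.{u}}

/-- The multiplication square of a group object over `B` is cartesian. -/
theorem isPullback_mul_fst {B : Sp S} (G : Over B) [GrpObj G] :
    IsPullback (μ[G]).left (pullback.fst G.hom G.hom) G.hom G.hom := by
  have sq1 : IsPullback (pullback.snd G.hom G.hom) (pullback.fst G.hom G.hom) G.hom G.hom :=
    (IsPullback.of_hasPullback G.hom G.hom).flip
  let σ : pullback G.hom G.hom ≅ pullback G.hom G.hom := (Over.forget B).mapIso (shearIso G)
  have h1 : σ.hom ≫ pullback.fst G.hom G.hom = pullback.fst G.hom G.hom :=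
    congrArg (fun k => k.left) (shearIso_hom_fst G)
  have h2 : σ.hom ≫ pullback.snd G.hom G.hom = (μ[G]).left :=
    congrArg (fun k => k.left) (shearIso_hom_snd G)
  refine IsPullback.of_iso sq1 σ.symm (Iso.refl _) (Iso.refl _) (Iso.refl _) ?_ ?_ ?_ ?_
  · rw [Iso.refl_hom, Category.comp_id, Iso.symm_hom, Iso.eq_inv_comp]
    exact h2
  · rw [Iso.refl_hom, Category.comp_id, Iso.symm_hom, Iso.eq_inv_comp]
    exact h1
  · simp
  · simp

/-- The section `g ↦ (g, e)` of the multiplication. -/
theorem exists_unit_section {B : Sp S} (G : Over B) [GrpObj G] :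
    ∃ s : G.left ⟶ pullback G.hom G.hom, s ≫ pullback.snd G.hom G.hom = G.hom ≫ (η[G]).left ∧
      s ≫ (μ[G]).left = 𝟙 G.left := by
  refine ⟨(lift (𝟙 G) (toUnit G ≫ η[G])).left, ?_, ?_⟩
  · have := congrArg (fun k => k.left) (lift_snd (𝟙 G) (toUnit G ≫ η[G]))
    exact this
  · have := congrArg (fun k => k.left) (MonObj.lift_comp_one_right (𝟙 G) (toUnit G))
    exact this

/-- Pointwise properties `Q` whose locus is open, commutes with base change and detects `P`. -/
structure LocusClass (P : MorphismProperty Scheme.{u})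
    (Q : ∀ (U V : Scheme.{u}), (U ⟶ V) → ↥U → Prop) : Prop where
  isOpen : ∀ {S : Scheme.{u}} {X Y : Sp S} (f : X ⟶ Y), IsOpen {x : Points X | HasAtMor Q f x}
  baseChange : ∀ {S : Scheme.{u}} {X Y X' Y' : Sp S} (_ : IsAlgSpace X) (_ : IsAlgSpace Y)
    (_ : IsAlgSpace X') (_ : IsAlgSpace Y') (f : X ⟶ Y) (_ : LocP @LocallyOfFiniteType f)
    (aY : Y' ⟶ Y) (bX : X' ⟶ X) (f' : X' ⟶ Y') (_ : IsPullback bX f' f aY) (x' : Points X'),
    HasAtMor Q f' x' ↔ HasAtMor Q f (Points.map bX x')
  locP_iff : ∀ {S : Scheme.{u}} {X Y : Sp S} (_ : IsAlgSpace X) (_ : IsAlgSpace Y) (f : X ⟶ Y),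
    LocP P f ↔ ∀ x : Points X, HasAtMor Q f x

theorem locusClass_unram :
    LocusClass (@LocallyOfFiniteType ⊓ @FormallyUnramified : MorphismProperty Scheme.{u})
      UnramAt where
  isOpen f := isOpen_hasAtMor_unramAt f
  baseChange hX hY hX' hY' f hf aY bX f' sq x' :=
    hasAtMor_unramAt_baseChange_iff hX hY hX' hY' f hf aY bX f' sq x'
  locP_iff hX hY f := locP_unram_iff_forall_hasAtMor hX hY f

theorem locusClass_lqf :
    LocusClass (@LocallyQuasiFinite ⊓ @LocallyOfFiniteType : MorphismProperty Scheme.{u})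
      QfAt where
  isOpen f := isOpen_hasAtMor_qfAt f
  baseChange hX hY hX' hY' f hf aY bX f' sq x' :=
    hasAtMor_qfAt_baseChange_iff hX hY hX' hY' f hf aY bX f' sq x'
  locP_iff hX hY f := by
    have : IsZariskiLocalAtSource
        (@LocallyQuasiFinite ⊓ @LocallyOfFiniteType : MorphismProperty Scheme.{u}) := inferInstance
    rw [Groth.Agent.H50.goodClass_lqf.locP_iff_forall_hasAtMor hX hY f]
    refine forall_congr' fun x => ⟨?_, ?_⟩
    · rintro ⟨U₁, V₁, a₁, b₁, h₁, u₁, ha₁, hb₁, hc₁, hx₁, W, hW, h1, h2⟩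
      exact ⟨U₁, V₁, a₁, b₁, h₁, u₁, ha₁, hb₁, hc₁, hx₁, W, hW, h1, h2⟩
    · rintro ⟨U₁, V₁, a₁, b₁, h₁, u₁, ha₁, hb₁, hc₁, hx₁, W, hW, h1, h2⟩
      exact ⟨U₁, V₁, a₁, b₁, h₁, u₁, ha₁, hb₁, hc₁, hx₁, W, hW, h1, h2⟩

variable {P : MorphismProperty Scheme.{u}} {Q : ∀ (U V : Scheme.{u}), (U ⟶ V) → ↥U → Prop}

theorem unit_left_hom {B : Sp S} (G : Over B) [GrpObj G] : (η[G]).left ≫ G.hom = 𝟙 B :=
  Over.w η[G]

/-- Homogeneity: the locus of `Q` in a group space is the preimage of its trace on the unit
section. -/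
theorem grp_hasAtMor_iff_unit (hQ : LocusClass P Q) {B : Sp S} (hB : IsAlgSpace B) (G : Over B)
    [GrpObj G] (hG : IsAlgSpace G.left) (hlft : LocP @LocallyOfFiniteType G.hom)
    (g : Points G.left) :
    HasAtMor Q G.hom g ↔ HasAtMor Q G.hom (Points.map (η[G]).left (Points.map G.hom g)) := by
  obtain ⟨s, hs1, hs2⟩ := exists_unit_section G
  have hGG : IsAlgSpace (pullback G.hom G.hom) :=
    Groth.Agent.H49.isAlgSpace_of_isPullback (IsPullback.of_hasPullback _ _) hB.diag hG hG
  have sq1 : IsPullback (pullback.snd G.hom G.hom) (pullback.fst G.hom G.hom) G.hom G.hom :=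
    (IsPullback.of_hasPullback G.hom G.hom).flip
  have sq2 := isPullback_mul_fst G
  have e1 := hQ.baseChange hG hB hGG hG G.hom hlft G.hom _ _ sq1 (Points.map s g)
  have e2 := hQ.baseChange hG hB hGG hG G.hom hlft G.hom _ _ sq2 (Points.map s g)
  rw [← Points.map_comp, hs1, Points.map_comp] at e1
  rw [← Points.map_comp, hs2, Points.map_id] at e2
  exact e2.symm.trans e1

/-- For a base change `q` of `G → B` along `t : T → B`: `q` has `P` iff `t` lands in the locus of
the unit section. -/
theorem grp_locP_iff_forall_mem (hQ : LocusClass P Q) {B : Sp S} (hB : IsAlgSpace B) (G : Over B)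
    [GrpObj G] (hG : IsAlgSpace G.left) (hlft : LocP @LocallyOfFiniteType G.hom)
    {T Pt : Sp S} (hT : IsAlgSpace T) (t : T ⟶ B) (p : Pt ⟶ G.left) (q : Pt ⟶ T)
    (sq : IsPullback p q G.hom t) :
    LocP P q ↔ ∀ y : Points T, HasAtMor Q G.hom (Points.map (η[G]).left (Points.map t y)) := by
  have hPt : IsAlgSpace Pt := Groth.Agent.H49.isAlgSpace_of_isPullback sq hB.diag hG hT
  rw [hQ.locP_iff hPt hT q]
  constructor
  · intro H y
    obtain ⟨z, hz1, hz2⟩ := exists_point_of_isPullback sq
      (Points.map (η[G]).left (Points.map t y)) y (by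
        rw [← Points.map_comp, unit_left_hom]
        exact Points.map_id _)
    have := (hQ.baseChange hG hB hPt hT G.hom hlft t p q sq z).1 (H z)
    rw [hz1] at this
    exact this
  · intro H z
    rw [hQ.baseChange hG hB hPt hT G.hom hlft t p q sq z, grp_hasAtMor_iff_unit hQ hB G hG hlft]
    have := H (Points.map q z)
    rw [← Points.map_comp q t, ← sq.w, Points.map_comp] at this
    exact this

/-- The largest open of the base over which a group space has `P`, compatibly with base
change. -/
theorem grp_exists_largest_open (hQ : LocusClass P Q) {B : Sp S} (hB : IsAlgSpace B) (G : Over B)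
    [GrpObj G] (hG : IsAlgSpace G.left) (hlft : LocP @LocallyOfFiniteType G.hom) :
    ∃ (W : Sp S) (w : W ⟶ B), RepWith @IsOpenImmersion w ∧
      (∀ (W' : Sp S) (w' : W' ⟶ B), RepWith @IsOpenImmersion w' →
        (LocP P (pullback.snd G.hom w') ↔ ∃ k : W' ⟶ W, k ≫ w = w')) ∧
      (∀ (B' : Sp S), IsAlgSpace B' → ∀ (f : B' ⟶ B) (W'' : Sp S) (w'' : W'' ⟶ B'),
        RepWith @IsOpenImmersion w'' →
        (LocP P (pullback.snd (pullback.snd G.hom f) w'') ↔
          ∃ k : W'' ⟶ pullback w f, k ≫ pullback.snd w f = w'')) := by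
  let W₀ : Set (Points B) := {b | HasAtMor Q G.hom (Points.map (η[G]).left b)}
  have hopen : IsOpen W₀ := (hQ.isOpen G.hom).preimage (Points.continuous_map (η[G]).left)
  obtain ⟨W, w, hW, hw, hr⟩ := Groth.Agent.H51.exists_open_subspace hB W₀ hopen
  refine ⟨W, w, hw, ?_, ?_⟩
  · intro W' w' hw'
    have hW' : IsAlgSpace W' := Groth.Agent.H49.isAlgSpace_of_representable_to w' hw'.rep hB
    rw [grp_locP_iff_forall_mem hQ hB G hG hlft hW' w' _ _ (IsPullback.of_hasPullback G.hom w'),
      Groth.Agent.H51.exists_factor_iff_of_isOpenImmersion' w hw w', hr]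
    constructor
    · rintro H _ ⟨y, rfl⟩
      exact H y
    · intro H y
      exact H ⟨y, rfl⟩
  · intro B' hB' f W'' w'' hw''
    have hW'' : IsAlgSpace W'' := Groth.Agent.H49.isAlgSpace_of_representable_to w'' hw''.rep hB'
    have sqbig : IsPullback (pullback.fst (pullback.snd G.hom f) w'' ≫ pullback.fst G.hom f)
        (pullback.snd (pullback.snd G.hom f) w'') G.hom (w'' ≫ f) :=
      (IsPullback.of_hasPullback (pullback.snd G.hom f) w'').paste_horiz
        (IsPullback.of_hasPullback G.hom f)
    have hw2 : RepWith @IsOpenImmersion (pullback.snd w f) :=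
      MorphismProperty.of_isPullback (P := RepWith @IsOpenImmersion)
        (IsPullback.of_hasPullback w f) hw
    rw [grp_locP_iff_forall_mem hQ hB G hG hlft hW'' (w'' ≫ f) _ _ sqbig,
      Groth.Agent.H51.exists_factor_iff_of_isOpenImmersion' (pullback.snd w f) hw2 w'']
    constructor
    · rintro H _ ⟨y, rfl⟩
      have hmem : Points.map f (Points.map w'' y) ∈ Set.range (Points.map w) := by
        rw [hr]
        have := H y
        rwa [Points.map_comp] at this
      obtain ⟨c, hc⟩ := hmem
      obtain ⟨z, -, hz2⟩ := exists_point_of_isPullback (IsPullback.of_hasPullback w f) c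
        (Points.map w'' y) hc
      exact ⟨z, hz2⟩
    · intro H y
      obtain ⟨z, hz⟩ := H ⟨y, rfl⟩
      have : Points.map (w'' ≫ f) y ∈ W₀ := by
        rw [← hr, Points.map_comp, ← hz, ← Points.map_comp, ← pullback.condition,
          Points.map_comp]
        exact ⟨_, rfl⟩
      exact this

end Groth.Agent.H53
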