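import Groth.Agent.H53.ImmFppfTop
import Groth.Agent.H53.LocPBase
import Groth.Agent.S10534
import Groth.Agent.H52.FppfFpqc

/-! Effective descent of immersions along fppf families. -/

set_option autoImplicit false
universe u

open CategoryTheory CategoryTheory.Limits AlgebraicGeometry
open AlgSp

namespace Groth.Agent.H53.ImmFppf

variable {S : Scheme.{u}}

/-- A jointly surjective family of flat, locally finitely presented morphisms of schemes is an fpqc
covering of the represented sheaves. -/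
theorem isFpqcCover_yon_of_fppf {T : Over S} {ι : Type u} {Ui : ι → Over S} (u : ∀ i, Ui i ⟶ T)
    (hfl : ∀ i, Flat (u i).left) (hlfp : ∀ i, LocallyOfFinitePresentation (u i).left)
    (hs : ∀ z : T.left, ∃ i, z ∈ Set.range (u i).left) :
    IsFpqcCover (fun i => (yon S).obj (Ui i)) (fun i => (yon S).map (u i)) := by
  have h1 : ∀ i, LocP @Flat ((yon S).map (u i)) := fun i =>
    Groth.Agent.H53.locP_yon_map_of @Flat (fun _ _ g (_ : Etale g) => (inferInstance : Flat g))
      (u i) (hfl i)
  have h2 : ∀ i, LocP @LocallyOfFinitePresentation ((yon S).map (u i)) := fun i =>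
    Groth.Agent.H53.locP_yon_map_of @LocallyOfFinitePresentation
      (fun _ _ g (_ : Etale g) => (inferInstance : LocallyOfFinitePresentation g)) (u i) (hlfp i)
  have hfppf : IsFppfCover (fun i => (yon S).obj (Ui i)) (fun i => (yon S).map (u i)) := by
    refine ⟨fun i => ⟨h1 i, h2 i⟩, fun x => ?_⟩
    obtain ⟨k, w, hw⟩ := hs (Points.toScheme T x)
    refine ⟨k, Points.ofScheme (Ui k) w, ?_⟩
    apply (Points.schemeEquiv T).symm.injective
    change Points.toScheme T (Points.map ((yon S).map (u k)) (Points.ofScheme (Ui k) w)) =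
      Points.toScheme T x
    rw [Points.map_ofPt, Category.id_comp, Points.toScheme_ofPt, hw]
  exact ⟨h1, Groth.Agent.H52.fpqcRefine_of_isFppfCover (IsAlgSpace.yon_obj T) _
    (fun i => IsAlgSpace.yon_obj (Ui i)) _ hfppf⟩

/-- Effective descent of immersions along an fppf family of schemes: a sheaf (algebraic space) `G`
over `h_T` whose base changes along a jointly surjective family of flat, locally finitely presented
morphisms `U i ⟶ T` are schemes immersed in the `U i` is a scheme immersed in `T`. -/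
theorem exists_immersion_of_fppf_family {T : Over S} {ι : Type u} {Ui : ι → Over S}
    (u : ∀ i, Ui i ⟶ T) (hfl : ∀ i, Flat (u i).left)
    (hlfp : ∀ i, LocallyOfFinitePresentation (u i).left)
    (hs : ∀ z : T.left, ∃ i, z ∈ Set.range (u i).left)
    {G : Sp S} (hG : IsAlgSpace G) (π : G ⟶ (yon S).obj T) {Vi : ι → Over S}
    (a : ∀ i, Vi i ⟶ Ui i) (ha : ∀ i, IsImmersion (a i).left)
    (t : ∀ i, (yon S).obj (Vi i) ⟶ G)
    (sq : ∀ i, IsPullback (t i) ((yon S).map (a i)) π ((yon S).map (u i))) :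
    ∃ (V : Over S) (b : V ⟶ T) (e : (yon S).obj V ≅ G),
      IsImmersion b.left ∧ e.hom ≫ π = (yon S).map b := by
  have := hfl
  have := hlfp
  have := ha
  let U : T.left.Opens := ⟨coborder (imageUnion u a), isOpen_coborder hs sq⟩
  have hUk : ∀ k, (u k).left ⁻¹ᵁ U = (a k).left.coborderRange := fun k =>
    TopologicalSpace.Opens.ext (preimage_coborder sq k)
  let TU : Over S := Groth.Agent.H53.overOf T U.ι
  let j : TU ⟶ T := Groth.Agent.H53.overHom T U.ι
  let Ui' : ι → Over S := fun k => Groth.Agent.H53.overOf (Ui k) ((u k).left ⁻¹ᵁ U).ι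
  let j' : ∀ k, Ui' k ⟶ Ui k := fun k => Groth.Agent.H53.overHom (Ui k) ((u k).left ⁻¹ᵁ U).ι
  let u' : ∀ k, Ui' k ⟶ TU := fun k => Over.homMk ((u k).left ∣_ U) (by
    change ((u k).left ∣_ U) ≫ U.ι ≫ T.hom = ((u k).left ⁻¹ᵁ U).ι ≫ (Ui k).hom
    rw [← Category.assoc, morphismRestrict_ι, Category.assoc, Over.w (u k)])
  have hj'u : ∀ k, j' k ≫ u k = u' k ≫ j := fun k => by
    ext
    exact (morphismRestrict_ι _ _).symm
  have sqO : ∀ k, IsPullback (j' k) (u' k) (u k) j := fun k => by
    refine IsPullback.of_map (Over.forget S) (hj'u k) ?_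
    exact (isPullback_morphismRestrict (u k).left U).flip
  have hrange : ∀ k, Set.range (a k).left ⊆ Set.range ((u k).left ⁻¹ᵁ U).ι := fun k => by
    rw [Scheme.Opens.range_ι, hUk k]
    exact subset_coborder
  let a'₀ : ∀ k, (Vi k).left ⟶ ((u k).left ⁻¹ᵁ U).toScheme := fun k =>
    IsOpenImmersion.lift ((u k).left ⁻¹ᵁ U).ι (a k).left (hrange k)
  have ha'₀ : ∀ k, a'₀ k ≫ ((u k).left ⁻¹ᵁ U).ι = (a k).left := fun k =>
    IsOpenImmersion.lift_fac _ _ _
  let a' : ∀ k, Vi k ⟶ Ui' k := fun k => Over.homMk (a'₀ k) (by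
    change a'₀ k ≫ ((u k).left ⁻¹ᵁ U).ι ≫ (Ui k).hom = (Vi k).hom
    rw [← Category.assoc, ha'₀, Over.w (a k)])
  have ha'j : ∀ k, a' k ≫ j' k = a k := fun k => by
    ext
    exact ha'₀ k
  have hcl : ∀ k, IsClosedImmersion (a' k).left := fun k => by
    have h1 : a'₀ k = (a k).left.liftCoborder ≫ (Scheme.isoOfEq _ (hUk k).symm).hom := by
      rw [← cancel_mono ((u k).left ⁻¹ᵁ U).ι, ha'₀, Category.assoc, Scheme.isoOfEq_hom_ι,
        Scheme.Hom.liftCoborder_ι]
    change IsClosedImmersion (a'₀ k)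
    rw [h1]
    infer_instance
  -- `G ⟶ h_T` factors through the open `U`
  have key : ∀ (T₀ : Over S) (ξ : (yon S).obj T₀ ⟶ G),
      ∃ d : T₀ ⟶ TU, (yon S).map d ≫ (yon S).map j = ξ ≫ π := by
    intro T₀ ξ
    let z : T₀ ⟶ T := (yon S).preimage (ξ ≫ π)
    have hz : (yon S).map z = ξ ≫ π := (yon S).map_preimage _
    have hzr : Set.range z.left ⊆ Set.range U.ι := by
      rw [Scheme.Opens.range_ι]
      rintro _ ⟨p, rfl⟩
      obtain ⟨k, w, hw⟩ := hs (z.left p)
      change z.left p ∈ coborder (imageUnion u a)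
      rw [← hw]
      change w ∈ (u k).left ⁻¹' coborder (imageUnion u a)
      rw [preimage_coborder sq k]
      apply subset_coborder
      obtain ⟨r, hr1, hr2⟩ := Scheme.Pullback.exists_preimage_pullback (f := z.left)
        (g := (u k).left) p w hw.symm
      let Q : Over S := Groth.Agent.H53.overOf T₀ (pullback.fst z.left (u k).left)
      let gQ : Q ⟶ T₀ := Groth.Agent.H53.overHom T₀ (pullback.fst z.left (u k).left)
      let xQ : Q ⟶ Ui k := Over.homMk (pullback.snd z.left (u k).left) (by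
        change pullback.snd z.left (u k).left ≫ (Ui k).hom =
          pullback.fst z.left (u k).left ≫ T₀.hom
        rw [← Over.w (u k), ← Category.assoc, ← pullback.condition, Category.assoc, Over.w z])
      have hgx : gQ ≫ z = xQ ≫ u k := by
        ext
        exact pullback.condition
      have hcompat : ((yon S).map gQ ≫ ξ) ≫ π = (yon S).map xQ ≫ (yon S).map (u k) := by
        rw [Category.assoc, ← hz, ← Functor.map_comp, ← Functor.map_comp, hgx]
      let v : Q ⟶ Vi k := (yon S).preimage ((sq k).lift _ _ hcompat)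
      have hv : v ≫ a k = xQ := by
        apply (yon S).map_injective
        rw [Functor.map_comp, (yon S).map_preimage]
        exact (sq k).lift_snd _ _ _
      refine ⟨v.left r, ?_⟩
      have h2 : (v ≫ a k).left r = xQ.left r := by rw [hv]
      change (v.left ≫ (a k).left) r = _ at h2
      rw [Scheme.Hom.comp_apply] at h2
      rw [h2]
      exact hr2
    refine ⟨Over.homMk (IsOpenImmersion.lift U.ι z.left hzr) ?_, ?_⟩
    · change IsOpenImmersion.lift U.ι z.left hzr ≫ U.ι ≫ T.hom = T₀.hom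
      rw [← Category.assoc, IsOpenImmersion.lift_fac, Over.w z]
    · rw [← Functor.map_comp, ← hz]
      congr 1
      ext
      exact IsOpenImmersion.lift_fac _ _ _
  choose d hd using key
  have hjmono : ∀ {T₀ : Over S} (d₁ d₂ : T₀ ⟶ TU), d₁ ≫ j = d₂ ≫ j → d₁ = d₂ := by
    intro T₀ d₁ d₂ h
    ext
    have h1 : d₁.left ≫ U.ι = d₂.left ≫ U.ι := congrArg (fun k => k.left) h
    exact (cancel_mono U.ι).1 h1
  obtain ⟨fU, hfU'⟩ : ∃ fU : G ⟶ (yon S).obj TU,
      ∀ (T₀ : Over S) (ξ : (yon S).obj T₀ ⟶ G), ξ ≫ fU = (yon S).map (d T₀ ξ) := by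
    refine Groth.Agent.H53.sp_hom_mk (fun T₀ ξ => (yon S).map (d T₀ ξ)) (fun T₂ T₀ f ξ => ?_)
    rw [← Functor.map_comp]
    congr 1
    apply hjmono
    apply (yon S).map_injective
    simp only [Functor.map_comp, Category.assoc, hd]
  have hfU : fU ≫ (yon S).map j = π := by
    refine Groth.Agent.H53.sp_hom_ext fun T₀ ξ => ?_
    rw [← Category.assoc, hfU', hd]
  -- the base changes of `G ⟶ h_U`
  have hcomm : ∀ k, (yon S).map (a' k) ≫ (yon S).map (u' k) = t k ≫ fU := fun k => by
    rw [hfU', ← Functor.map_comp]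
    congr 1
    apply hjmono
    apply (yon S).map_injective
    have e1 : (a' k ≫ u' k) ≫ j = a k ≫ u k := by
      rw [Category.assoc, ← hj'u, ← Category.assoc, ha'j]
    rw [e1, (yon S).map_comp (d _ _) j, hd, (sq k).w, Functor.map_comp]
  have sq2 : ∀ k, IsPullback (t k) ((yon S).map (a' k)) fU ((yon S).map (u' k)) := fun k => by
    have R := (sqO k).map (yon S)
    have s : IsPullback ((yon S).map (a' k) ≫ (yon S).map (j' k)) (t k) ((yon S).map (u k))
        (fU ≫ (yon S).map j) := by
      rw [← Functor.map_comp, ha'j, hfU]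
      exact (sq k).flip
    exact (IsPullback.of_right s (hcomm k) R).flip
  -- the fpqc covering of `h_U`
  have hfl' : ∀ k, Flat (u' k).left := fun k =>
    MorphismProperty.of_isPullback (P := @Flat) (isPullback_morphismRestrict (u k).left U).flip
      (hfl k)
  have hlfp' : ∀ k, LocallyOfFinitePresentation (u' k).left := fun k =>
    MorphismProperty.of_isPullback (P := @LocallyOfFinitePresentation)
      (isPullback_morphismRestrict (u k).left U).flip (hlfp k)
  have hs' : ∀ z : TU.left, ∃ k, z ∈ Set.range (u' k).left := by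
    intro z
    obtain ⟨k, w, hw⟩ := hs (U.ι z)
    have hwU : w ∈ (u k).left ⁻¹ᵁ U := by
      change (u k).left w ∈ U
      rw [hw]
      exact z.2
    refine ⟨k, ⟨w, hwU⟩, ?_⟩
    apply Subtype.ext
    change (((u k).left ∣_ U) ⟨w, hwU⟩).1 = z.1
    rw [morphismRestrict_base_coe]
    exact hw
  have hcov := isFpqcCover_yon_of_fppf u' hfl' hlfp' hs'
  have hclosed : RepWith @IsClosedImmersion fU :=
    (Groth.Agent.S10534.result S (fun k => (yon S).obj (Ui' k)) (fun k => (yon S).map (u' k))
      (IsAlgSpace.yon_obj TU) (fun k => IsAlgSpace.yon_obj (Ui' k)) hcov fU hG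
      (fun k => (yon S).obj (Vi k)) (fun k => (yon S).map (a' k)) t
      (fun k => IsAlgSpace.yon_obj (Vi k)) sq2).2
      (fun k => (repWith_yon_map_iff @IsClosedImmersion (a' k)).2 (hcl k))
  -- conclusion
  have sqV := hclosed.rep.isPullback (𝟙 ((yon S).obj TU))
  have hiso : IsIso (hclosed.rep.fst (𝟙 ((yon S).obj TU))) := sqV.isIso_fst_of_isIso
  have hclV : IsClosedImmersion (hclosed.rep.snd (𝟙 ((yon S).obj TU))).left :=
    hclosed.property_snd _
  refine ⟨hclosed.rep.pullback (𝟙 _), hclosed.rep.snd (𝟙 _) ≫ j,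
    asIso (hclosed.rep.fst (𝟙 ((yon S).obj TU))), ?_, ?_⟩
  · change IsImmersion ((hclosed.rep.snd (𝟙 ((yon S).obj TU))).left ≫ U.ι)
    infer_instance
  · change hclosed.rep.fst (𝟙 ((yon S).obj TU)) ≫ π = _
    rw [← hfU, ← Category.assoc, sqV.w, Category.comp_id, Functor.map_comp]

end Groth.Agent.H53.ImmFppf
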