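import Groth.Agent.H53.Glue
import Groth.Agent.H53.Charts
import Mathlib.AlgebraicGeometry.Morphisms.Immersion
import Mathlib.AlgebraicGeometry.Morphisms.UniversallyOpen
import Mathlib.AlgebraicGeometry.PullbackCarrier

/-! Descent of immersions along fppf families: the topological part. A sheaf `G` over `h_T` whose
base changes along a jointly surjective family of flat, locally finitely presented morphisms
`u i : U i ⟶ T` are schemes `V i` immersed in `U i`: the ranges of the `V i` form a saturated
family, and their coborders descend to an open of `T`. -/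

set_option autoImplicit false
universe u

open CategoryTheory CategoryTheory.Limits AlgebraicGeometry
open AlgSp

namespace Groth.Agent.H53.ImmFppf

variable {S : Scheme.{u}} {T : Over S} {ι : Type u} {Ui : ι → Over S} (u : ∀ i, Ui i ⟶ T)
  {G : Sp S} (π : G ⟶ (yon S).obj T) {Vi : ι → Over S} (a : ∀ i, Vi i ⟶ Ui i)
  (t : ∀ i, (yon S).obj (Vi i) ⟶ G)

variable {u π a t}

/-- Transport of points between the members of the family. -/
theorem exists_transport (sq : ∀ i, IsPullback (t i) ((yon S).map (a i)) π ((yon S).map (u i)))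
    {i k : ι} {Q : Over S} (v : Q ⟶ Vi i) (x : Q ⟶ Ui k) (h : v ≫ a i ≫ u i = x ≫ u k) :
    ∃ v₁ : Q ⟶ Vi k, v₁ ≫ a k = x ∧ (yon S).map v₁ ≫ t k = (yon S).map v ≫ t i := by
  have hcompat : ((yon S).map v ≫ t i) ≫ π = (yon S).map x ≫ (yon S).map (u k) := by
    rw [Category.assoc, (sq i).w, ← Functor.map_comp, ← Functor.map_comp, ← Functor.map_comp, h]
  let ℓ := (sq k).lift _ _ hcompat
  refine ⟨(yon S).preimage ℓ, ?_, ?_⟩
  · apply (yon S).map_injective
    rw [Functor.map_comp, (yon S).map_preimage]
    exact (sq k).lift_snd _ _ _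
  · rw [(yon S).map_preimage]
    exact (sq k).lift_fst _ _ _

/-- The ranges of the `V i` are saturated. -/
theorem mem_range_of_eq (sq : ∀ i, IsPullback (t i) ((yon S).map (a i)) π ((yon S).map (u i)))
    {i k : ι} (w₁ : (Ui i).left) (w₂ : (Ui k).left) (h : (u i).left w₁ = (u k).left w₂)
    (h₁ : w₁ ∈ Set.range (a i).left) : w₂ ∈ Set.range (a k).left := by
  obtain ⟨v, rfl⟩ := h₁
  obtain ⟨r, hr1, hr2⟩ := Scheme.Pullback.exists_preimage_pullback (f := (u i).left)
    (g := (u k).left) _ _ h
  obtain ⟨q, hq1, hq2⟩ := Scheme.Pullback.exists_preimage_pullback (f := (a i).left)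
    (g := pullback.fst (u i).left (u k).left) v r hr1.symm
  let Q₀ := pullback (a i).left (pullback.fst (u i).left (u k).left)
  let Q : Over S := Over.mk (pullback.fst (a i).left (pullback.fst (u i).left (u k).left) ≫
    (Vi i).hom)
  let vQ : Q ⟶ Vi i := Over.homMk (pullback.fst (a i).left (pullback.fst (u i).left (u k).left)) rfl
  have hx : (pullback.snd (a i).left (pullback.fst (u i).left (u k).left) ≫
      pullback.snd (u i).left (u k).left) ≫ (Ui k).hom = Q.hom := by
    change _ = pullback.fst (a i).left (pullback.fst (u i).left (u k).left) ≫ (Vi i).hom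
    rw [← Over.w (u k), Category.assoc, ← Category.assoc (pullback.snd (u i).left (u k).left),
      ← pullback.condition, Category.assoc, ← Category.assoc
        (pullback.snd (a i).left (pullback.fst (u i).left (u k).left)),
      ← pullback.condition, Category.assoc, Over.w (u i), Over.w (a i)]
  let xQ : Q ⟶ Ui k := Over.homMk (pullback.snd (a i).left (pullback.fst (u i).left (u k).left) ≫
      pullback.snd (u i).left (u k).left) hx
  have hc : vQ ≫ a i ≫ u i = xQ ≫ u k := by
    ext
    change pullback.fst (a i).left (pullback.fst (u i).left (u k).left) ≫ (a i).left ≫ (u i).left =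
      (pullback.snd (a i).left (pullback.fst (u i).left (u k).left) ≫
        pullback.snd (u i).left (u k).left) ≫ (u k).left
    rw [Category.assoc, ← pullback.condition, ← Category.assoc, ← Category.assoc,
      pullback.condition]
  obtain ⟨v₁, hv₁, -⟩ := exists_transport sq vQ xQ hc
  refine ⟨v₁.left q, ?_⟩
  have h2 : (v₁ ≫ a k).left q = xQ.left q := by rw [hv₁]
  change (v₁.left ≫ (a k).left) q = _ at h2
  rw [Scheme.Hom.comp_apply] at h2
  rw [h2]
  change (pullback.snd (a i).left (pullback.fst (u i).left (u k).left) ≫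
      pullback.snd (u i).left (u k).left) q = w₂
  rw [Scheme.Hom.comp_apply, hq2, hr2]

variable (u a) in
/-- The union of the images of the `V i` in `T`. -/
def imageUnion : Set T.left := ⋃ i, (u i).left '' Set.range (a i).left

theorem preimage_imageUnion
    (sq : ∀ i, IsPullback (t i) ((yon S).map (a i)) π ((yon S).map (u i))) (k : ι) :
    (u k).left ⁻¹' imageUnion u a = Set.range (a k).left := by
  apply Set.Subset.antisymm
  · intro w hw
    obtain ⟨i, w₁, hw₁, e⟩ := Set.mem_iUnion.1 hw
    exact mem_range_of_eq sq w₁ w e hw₁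
  · intro w hw
    exact Set.mem_iUnion.2 ⟨k, w, hw, rfl⟩

theorem preimage_coborder [∀ i, Flat (u i).left] [∀ i, LocallyOfFinitePresentation (u i).left]
    (sq : ∀ i, IsPullback (t i) ((yon S).map (a i)) π ((yon S).map (u i))) (k : ι) :
    (u k).left ⁻¹' coborder (imageUnion u a) = coborder (Set.range (a k).left) := by
  rw [← coborder_preimage (u k).left.isOpenMap (u k).left.continuous, preimage_imageUnion sq]

theorem isOpen_coborder [∀ i, Flat (u i).left] [∀ i, LocallyOfFinitePresentation (u i).left]
    [∀ i, IsImmersion (a i).left]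
    (hs : ∀ z : T.left, ∃ i, z ∈ Set.range (u i).left)
    (sq : ∀ i, IsPullback (t i) ((yon S).map (a i)) π ((yon S).map (u i))) :
    IsOpen (coborder (imageUnion u a)) := by
  have h : coborder (imageUnion u a) =
      ⋃ k, (u k).left '' ((u k).left ⁻¹' coborder (imageUnion u a)) := by
    ext z
    constructor
    · intro hz
      obtain ⟨k, w, rfl⟩ := hs z
      exact Set.mem_iUnion.2 ⟨k, w, hz, rfl⟩
    · intro hz
      obtain ⟨k, w, hw, rfl⟩ := Set.mem_iUnion.1 hz
      exact hw
  rw [h]
  refine isOpen_iUnion fun k => (u k).left.isOpenMap _ ?_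
  rw [preimage_coborder sq]
  exact (a k).left.isLocallyClosed_range.isOpen_coborder

end Groth.Agent.H53.ImmFppf
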