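import Groth.Agent.H53.FppfOpen
import Groth.Agent.H51.SpOpen

/-! The largest open subspace of the base over which a morphism has a property that is local on
the base (S10574–S10576). -/

universe u

open CategoryTheory CategoryTheory.Limits AlgebraicGeometry TopologicalSpace
open AlgSp

namespace Groth.Agent.H53

variable {S : Scheme.{u}}

/-- A class of morphisms of sheaves giving a notion of covering good enough for the
"largest open" argument. -/
structure GoodCov (Q : MorphismProperty (Sp S)) : Prop where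
  ofOpen : ∀ {F G : Sp S}, IsAlgSpace F → IsAlgSpace G → ∀ j : F ⟶ G,
    RepWith @IsOpenImmersion j → Q j
  isOpen : ∀ {F G : Sp S}, IsAlgSpace F → IsAlgSpace G → ∀ g : F ⟶ G, Q g →
    IsOpenMap (Points.map g)
  baseChange : ∀ {X Y X' Y' : Sp S}, IsAlgSpace X → IsAlgSpace Y → IsAlgSpace Y' →
    ∀ {q : X' ⟶ X} {p : X' ⟶ Y'} {f : X ⟶ Y} {g : Y' ⟶ Y}, IsPullback q p f g → Q f → Q p
  comp : ∀ {F G H : Sp S}, IsAlgSpace F → IsAlgSpace G → IsAlgSpace H →
    ∀ (j : F ⟶ G) (g : G ⟶ H), RepWith @IsOpenImmersion j → Q g → Q (j ≫ g)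

/-- `f` has `P` over the open subset `V` of the base. -/
def HasOver (P : MorphismProperty (Sp S)) {X Y : Space S} (f : X ⟶ Y)
    (V : Opens (Points Y.obj)) : Prop :=
  ∀ (W₁ X₁ : Space S) (j₁ : W₁ ⟶ Y) (j₁' : X₁ ⟶ X) (f₁ : X₁ ⟶ W₁),
    RepWith @IsOpenImmersion j₁.hom → Set.range (Points.map j₁.hom) = (V : Set (Points Y.obj)) →
    IsPullback j₁'.hom f₁.hom f.hom j₁.hom → P f₁.hom

theorem isPullback_id_of_mono {A B C : Sp S} (k₀ : A ⟶ B) (j : B ⟶ C) [Mono j] :
    IsPullback (𝟙 A) k₀ (k₀ ≫ j) j := by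
  have top : IsPullback (𝟙 A) k₀ k₀ (𝟙 B) :=
    (IsPullback.of_horiz_isIso (fst := 𝟙 A) (snd := k₀) (f := k₀) (g := 𝟙 B) ⟨by simp⟩ :)
  have bot : IsPullback (𝟙 B) (𝟙 B) j j := IsKernelPair.id_of_mono j
  simpa using top.paste_vert bot

theorem mono_of_isOpenImmersion {F G : Sp S} (j : F ⟶ G) (hj : RepWith @IsOpenImmersion j) :
    Mono j :=
  Groth.Agent.H49.mono_of_repWith_mono Groth.Agent.H51.isOpenImmersion_le_mono j hj

theorem repWith_isOpenImmersion_id (Y : Sp S) : RepWith @IsOpenImmersion (𝟙 Y) :=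
  (RepWith @IsOpenImmersion).id_mem Y

section

variable {Q P : MorphismProperty (Sp S)} (hQ : GoodCov Q)
  (hP : IsLocalOnBase (fun _ _ Y g => IsCover Q Y g) P)

include hQ hP

/-- `P` is stable under base change along `Q`-morphisms. -/
theorem prop_of_baseChange_of_cov {X Y X' Y' : Sp S} (hX : IsAlgSpace X) (hY : IsAlgSpace Y)
    (hX' : IsAlgSpace X') (hY' : IsAlgSpace Y') (f : X ⟶ Y) (g : Y' ⟶ Y) (f' : X' ⟶ Y')
    (g' : X' ⟶ X) (sq : IsPullback g' f' f g) (hg : Q g) (hf : P f) : P f' := by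
  have hid : Q (𝟙 Y) := hQ.ofOpen hY hY _ (repWith_isOpenImmersion_id Y)
  have key := hP (ι := Option PUnit.{u+1}) (Y := Y) (fun o => o.elim Y (fun _ => Y'))
    (fun o => match o with
      | none => 𝟙 Y
      | some _ => g) hY
    (fun o => match o with
      | none => hY
      | some _ => hY')
    ⟨fun o => match o with
      | none => hid
      | some _ => hg, fun x => ⟨none, x, Points.map_id x⟩⟩ f hX
    (fun o => o.elim X (fun _ => X'))
    (fun o => match o with
      | none => f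
      | some _ => f')
    (fun o => match o with
      | none => 𝟙 X
      | some _ => g')
    (fun o => match o with
      | none => hX
      | some _ => hX')
    (fun o => match o with
      | none => (IsPullback.of_horiz_isIso (fst := 𝟙 X) (snd := f) (f := f) (g := 𝟙 Y) ⟨by simp⟩ :)
      | some _ => sq)
  exact key.1 hf (some PUnit.unit)

/-- `P` descends along a single surjective `Q`-morphism. -/
theorem prop_of_cov_single {X Y X' Y' : Sp S} (hX : IsAlgSpace X) (hY : IsAlgSpace Y)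
    (hX' : IsAlgSpace X') (hY' : IsAlgSpace Y') (f : X ⟶ Y) (g : Y' ⟶ Y) (f' : X' ⟶ Y')
    (g' : X' ⟶ X) (sq : IsPullback g' f' f g) (hg : Q g)
    (hs : Function.Surjective (Points.map g)) (hf' : P f') : P f := by
  have key := hP (ι := PUnit.{u+1}) (Y := Y) (fun _ => Y') (fun _ => g) hY (fun _ => hY')
    ⟨fun _ => hg, fun x => ⟨PUnit.unit, hs x⟩⟩ f hX (fun _ => X') (fun _ => f') (fun _ => g')
    (fun _ => hX') (fun _ => sq)
  exact key.2 fun _ => hf'

end


section main

variable {Q P : MorphismProperty (Sp S)} (hQ : GoodCov Q)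
  (hP : IsLocalOnBase (fun _ _ Y g => IsCover Q Y g) P)

include hQ hP

/-- If `P` holds over each member of a family of opens, it holds over any open they cover. -/
theorem hasOver_of_covered {X Y : Space S} (f : X ⟶ Y) (W : Opens (Points Y.obj))
    (hW : ∀ y ∈ W, ∃ V : Opens (Points Y.obj), HasOver P f V ∧ y ∈ V ∧ V ≤ W) :
    HasOver P f W := by
  intro W₀ X₀ j₀ j₀' f₀ hj₀ hr sq
  have hmono : Mono j₀.hom := mono_of_isOpenImmersion _ hj₀
  obtain ⟨U, c, hce, hcs⟩ := W₀.property.atlas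
  have hmem : ∀ u : ↥U.left, Points.map j₀.hom (Points.ofPt c u) ∈ W := fun u => by
    have : Points.map j₀.hom (Points.ofPt c u) ∈ Set.range (Points.map j₀.hom) := ⟨_, rfl⟩
    rw [hr] at this
    exact this
  choose V hV hyV hVW using fun u => hW _ (hmem u)
  choose F' j hF' hjOI hrange using fun u =>
    Groth.Agent.H51.exists_open_subspace Y.property ((V u : Set (Points Y.obj))) (V u).isOpen
  have hfac : ∀ u, ∃ k : F' u ⟶ W₀.obj, k ≫ j₀.hom = j u := fun u => by
    rw [Groth.Agent.H51.exists_factor_iff_of_isOpenImmersion' j₀.hom hj₀ (j u), hrange u, hr]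
    exact hVW u
  choose k hk using hfac
  have hkOI : ∀ u, RepWith @IsOpenImmersion (k u) := fun u =>
    Groth.Agent.H51.repWith_of_comp_mono (k u) j₀.hom (by rw [hk u]; exact hjOI u)
  have hXi : ∀ u, IsAlgSpace (pullback f₀.hom (k u)) := fun u =>
    Groth.Agent.H49.isAlgSpace_of_isPullback (IsPullback.of_hasPullback f₀.hom (k u))
      W₀.property.diag X₀.property (hF' u)
  have key := hP (ι := ↥U.left) (Y := W₀.obj) F' k W₀.property hF'
    ⟨fun u => hQ.ofOpen (hF' u) W₀.property _ (hkOI u), fun x => by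
      obtain ⟨u, rfl⟩ := Groth.Agent.H52.ofPt_surjective_of_repWith_surjective c hcs x
      have h1 : Points.map j₀.hom (Points.ofPt c u) ∈ Set.range (Points.map (j u)) := by
        rw [hrange u]; exact hyV u
      obtain ⟨z, hz⟩ := h1
      refine ⟨u, z, ?_⟩
      apply Groth.Agent.H51.injective_map_of_mono j₀.hom
      rw [← Points.map_comp, hk u, hz]⟩
    f₀.hom X₀.property (fun u => pullback f₀.hom (k u)) (fun u => pullback.snd _ _)
    (fun u => pullback.fst _ _) hXi (fun u => IsPullback.of_hasPullback _ _)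
  refine key.2 fun u => ?_
  have big := (IsPullback.of_hasPullback f₀.hom (k u)).paste_horiz sq
  rw [hk u] at big
  exact hV u ⟨F' u, hF' u⟩ ⟨pullback f₀.hom (k u), hXi u⟩ (ObjectProperty.homMk (j u))
    (ObjectProperty.homMk (pullback.fst f₀.hom (k u) ≫ j₀'.hom))
    (ObjectProperty.homMk (pullback.snd f₀.hom (k u))) (hjOI u) (hrange u) big


/-- `P` holds over the (open) image of a `Q`-morphism whose base change has `P`. -/
theorem hasOver_range {X Y : Space S} (f : X ⟶ Y) {Y' X' : Space S} (g : Y' ⟶ Y) (g' : X' ⟶ X)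
    (f' : X' ⟶ Y') (hg : Q g.hom) (sq : IsPullback g'.hom f'.hom f.hom g.hom) (hf' : P f'.hom)
    (V : Opens (Points Y.obj)) (hV : (V : Set (Points Y.obj)) = Set.range (Points.map g.hom)) :
    HasOver P f V := by
  intro W₁ X₁ j₁ j₁' f₁ hj₁ hr₁ sq₁
  have hmono : Mono j₁.hom := mono_of_isOpenImmersion _ hj₁
  obtain ⟨g₁, hg₁⟩ := (Groth.Agent.H51.exists_factor_iff_of_isOpenImmersion' j₁.hom hj₁ g.hom).2
    (by rw [hr₁, hV])
  have pb := isPullback_id_of_mono g₁ j₁.hom
  rw [hg₁] at pb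
  have hQg₁ : Q g₁ := hQ.baseChange Y'.property Y.property W₁.property pb hg
  have hsurj : Function.Surjective (Points.map g₁) := by
    intro x
    have h1 : Points.map j₁.hom x ∈ Set.range (Points.map g.hom) := by
      rw [← hV, ← hr₁]; exact ⟨x, rfl⟩
    obtain ⟨y', hy'⟩ := h1
    refine ⟨y', ?_⟩
    apply Groth.Agent.H51.injective_map_of_mono j₁.hom
    rw [← Points.map_comp, hg₁, hy']
  have hcond : g'.hom ≫ f.hom = (f'.hom ≫ g₁) ≫ j₁.hom := by
    rw [Category.assoc, hg₁]; exact sq.w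
  have sqφ : IsPullback (sq₁.lift g'.hom (f'.hom ≫ g₁) hcond) f'.hom f₁.hom g₁ := by
    refine IsPullback.of_right ?_ (sq₁.lift_snd _ _ _) sq₁
    rw [sq₁.lift_fst, hg₁]
    exact sq
  exact prop_of_cov_single hQ hP X₁.property W₁.property X'.property Y'.property f₁.hom g₁ f'.hom
    _ sqφ hQg₁ hsurj hf'

/-- If `P` holds over `W`, then it holds after base change along any `Q`-morphism with image in
`W`. -/
theorem prop_of_range_le {X Y : Space S} (f : X ⟶ Y) (W : Opens (Points Y.obj))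
    (hW : HasOver P f W) {Z X₂ : Sp S} (hZ : IsAlgSpace Z) (hX₂ : IsAlgSpace X₂) (k : Z ⟶ Y.obj)
    (k' : X₂ ⟶ X.obj) (f₂ : X₂ ⟶ Z) (sq : IsPullback k' f₂ f.hom k) (hk : Q k)
    (hr : Set.range (Points.map k) ⊆ (W : Set (Points Y.obj))) : P f₂ := by
  obtain ⟨F₀, j₀, hF₀, hj₀, hr₀⟩ :=
    Groth.Agent.H51.exists_open_subspace Y.property (W : Set (Points Y.obj)) W.isOpen
  have hmono : Mono j₀ := mono_of_isOpenImmersion _ hj₀
  obtain ⟨k₀, hk₀⟩ := (Groth.Agent.H51.exists_factor_iff_of_isOpenImmersion' j₀ hj₀ k).2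
    (by rw [hr₀]; exact hr)
  have pb := isPullback_id_of_mono k₀ j₀
  rw [hk₀] at pb
  have hQk₀ : Q k₀ := hQ.baseChange hZ Y.property hF₀ pb hk
  have hX₀ : IsAlgSpace (pullback f.hom j₀) :=
    Groth.Agent.H49.isAlgSpace_of_isPullback (IsPullback.of_hasPullback f.hom j₀)
      Y.property.diag X.property hF₀
  have hP₀ : P (pullback.snd f.hom j₀) :=
    hW ⟨F₀, hF₀⟩ ⟨pullback f.hom j₀, hX₀⟩ (ObjectProperty.homMk j₀)
      (ObjectProperty.homMk (pullback.fst f.hom j₀)) (ObjectProperty.homMk (pullback.snd f.hom j₀))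
      hj₀ hr₀ (IsPullback.of_hasPullback f.hom j₀)
  have hcond : k' ≫ f.hom = (f₂ ≫ k₀) ≫ j₀ := by
    rw [Category.assoc, hk₀]; exact sq.w
  have sqψ : IsPullback (pullback.lift k' (f₂ ≫ k₀) hcond) f₂ (pullback.snd f.hom j₀) k₀ := by
    refine IsPullback.of_right ?_ (pullback.lift_snd _ _ _) (IsPullback.of_hasPullback f.hom j₀)
    rw [pullback.lift_fst, hk₀]
    exact sq
  exact prop_of_baseChange_of_cov hQ hP hX₀ hF₀ hX₂ hZ _ k₀ f₂ _ sqψ hQk₀ hP₀

/-- The largest open subspace of the base over which `f` has `P`, with its behaviour under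
`Q`-morphisms. -/
theorem exists_largest_open {X Y : Space S} (f : X ⟶ Y) :
    ∃ W : Opens (Points Y.obj), HasOver P f W ∧ (∀ V, HasOver P f V → V ≤ W) ∧
      (∀ (Y' X' : Space S) (g : Y' ⟶ Y) (g' : X' ⟶ X) (f' : X' ⟶ Y'), Q g.hom →
        IsPullback g'.hom f'.hom f.hom g.hom → P f'.hom →
        Set.range (Points.map g.hom) ⊆ (W : Set (Points Y.obj))) ∧
      (∀ (Y' X' : Space S) (g : Y' ⟶ Y) (g' : X' ⟶ X) (f' : X' ⟶ Y'), Q g.hom →
        IsPullback g'.hom f'.hom f.hom g.hom → ∀ W' : Opens (Points Y'.obj), HasOver P f' W' →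
        (∀ V', HasOver P f' V' → V' ≤ W') →
        (W' : Set (Points Y'.obj)) = Points.map g.hom ⁻¹' (W : Set (Points Y.obj))) := by
  have ha : HasOver P f (sSup {V | HasOver P f V}) :=
    hasOver_of_covered hQ hP f _ fun y hy => by
      obtain ⟨V, hV, hyV⟩ := Opens.mem_sSup.1 hy
      exact ⟨V, hV, hyV, le_sSup hV⟩
  have hc : ∀ (Y' X' : Space S) (g : Y' ⟶ Y) (g' : X' ⟶ X) (f' : X' ⟶ Y'), Q g.hom →
      IsPullback g'.hom f'.hom f.hom g.hom → P f'.hom →
      Set.range (Points.map g.hom) ⊆ ((sSup {V | HasOver P f V} : Opens (Points Y.obj)) :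
        Set (Points Y.obj)) := by
    intro Y' X' g g' f' hg sq hf'
    have hV := hasOver_range hQ hP f g g' f' hg sq hf'
      ⟨Set.range (Points.map g.hom), (hQ.isOpen Y'.property Y.property _ hg).isOpen_range⟩ rfl
    exact fun y hy => (le_sSup hV : _ ≤ sSup {V | HasOver P f V}) hy
  refine ⟨sSup {V | HasOver P f V}, ha, fun V hV => le_sSup hV, hc, ?_⟩
  intro Y' X' g g' f' hg sq W' hW' hmax
  apply Set.Subset.antisymm
  · obtain ⟨F₂, j₂, hF₂, hj₂, hr₂⟩ :=
      Groth.Agent.H51.exists_open_subspace Y'.property (W' : Set (Points Y'.obj)) W'.isOpen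
    have hX₂ : IsAlgSpace (pullback f'.hom j₂) :=
      Groth.Agent.H49.isAlgSpace_of_isPullback (IsPullback.of_hasPullback f'.hom j₂)
        Y'.property.diag X'.property hF₂
    have hP₂ : P (pullback.snd f'.hom j₂) :=
      hW' ⟨F₂, hF₂⟩ ⟨pullback f'.hom j₂, hX₂⟩ (ObjectProperty.homMk j₂)
        (ObjectProperty.homMk (pullback.fst f'.hom j₂))
        (ObjectProperty.homMk (pullback.snd f'.hom j₂)) hj₂ hr₂
        (IsPullback.of_hasPullback f'.hom j₂)
    have hQ₂ : Q (j₂ ≫ g.hom) := hQ.comp hF₂ Y'.property Y.property j₂ g.hom hj₂ hg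
    have sq₂ := (IsPullback.of_hasPullback f'.hom j₂).paste_horiz sq
    have hsub := hc ⟨F₂, hF₂⟩ ⟨pullback f'.hom j₂, hX₂⟩ (ObjectProperty.homMk (j₂ ≫ g.hom))
      (ObjectProperty.homMk (pullback.fst f'.hom j₂ ≫ g'.hom))
      (ObjectProperty.homMk (pullback.snd f'.hom j₂)) hQ₂ sq₂ hP₂
    intro x hx
    rw [← hr₂] at hx
    obtain ⟨z, rfl⟩ := hx
    have h3 : Points.map (j₂ ≫ g.hom) z ∈
        ((sSup {V | HasOver P f V} : Opens (Points Y.obj)) : Set (Points Y.obj)) := hsub ⟨z, rfl⟩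
    rw [Points.map_comp] at h3
    exact h3
  · have hV' : HasOver P f' ⟨Points.map g.hom ⁻¹' ((sSup {V | HasOver P f V} : Opens (Points Y.obj)) :
        Set (Points Y.obj)), (sSup {V | HasOver P f V}).isOpen.preimage
          (Points.continuous_map g.hom)⟩ := by
      intro W₂ X₂ j₂ j₂' f₂ hj₂ hr₂ sq₂
      refine prop_of_range_le hQ hP f _ ha W₂.property X₂.property (j₂.hom ≫ g.hom)
        (j₂'.hom ≫ g'.hom) f₂.hom (sq₂.paste_horiz sq)
        (hQ.comp W₂.property Y'.property Y.property j₂.hom g.hom hj₂ hg) ?_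
      rintro _ ⟨z, rfl⟩
      rw [Points.map_comp]
      have : Points.map j₂.hom z ∈ Set.range (Points.map j₂.hom) := ⟨z, rfl⟩
      rw [hr₂] at this
      exact this
    exact fun x hx => hmax _ hV' hx

end main

end Groth.Agent.H53
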