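import Groth.Agent.H53.EtaleLiftRing
import Mathlib.RingTheory.Smooth.Basic
import Mathlib.RingTheory.Polynomial.Nilpotent
import Mathlib.RingTheory.Nilpotent.Lemmas
import Mathlib.RingTheory.FinitePresentation
import Mathlib.RingTheory.Noetherian.Nilpotent

/-!
# Lifting along surjections with nil kernel
-/

set_option autoImplicit false
universe u
open Polynomial

namespace Groth.Agent.H53

/-- A standard etale pair lifts along a surjection whose kernel consists of nilpotent elements. -/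
theorem exists_lift_standardEtalePair_of_nil {A R : Type*} [CommRing A] [CommRing R] (φ : A →+* R)
    (hsurj : Function.Surjective φ) (hker : ∀ x ∈ RingHom.ker φ, IsNilpotent x)
    (P₀ : StandardEtalePair R) :
    ∃ P' : StandardEtalePair A, P'.map φ = P₀ := by
  obtain ⟨F, hF, -, hFm⟩ :=
    Polynomial.lifts_and_natDegree_eq_and_monic (Polynomial.mem_lifts_of_surjective hsurj P₀.f)
      P₀.monic_f
  obtain ⟨G, hG⟩ := Polynomial.map_surjective φ hsurj P₀.g
  obtain ⟨p₁, p₂, n, e⟩ := P₀.cond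
  obtain ⟨P₁, hP₁⟩ := Polynomial.map_surjective φ hsurj p₁
  obtain ⟨P₂, hP₂⟩ := Polynomial.map_surjective φ hsurj p₂
  set E : A[X] := derivative F * P₁ + F * P₂ - G ^ n with hE
  have hEmap : E.map φ = 0 := by
    rw [hE, Polynomial.map_sub, Polynomial.map_add, Polynomial.map_mul, Polynomial.map_mul,
      Polynomial.map_pow, ← Polynomial.derivative_map, hF, hG, hP₁, hP₂, e, sub_self]
  have hEnil : IsNilpotent E := by
    rw [Polynomial.isNilpotent_iff]
    intro i
    apply hker
    rw [RingHom.mem_ker, ← Polynomial.coeff_map, hEmap, Polynomial.coeff_zero]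
  obtain ⟨N, hN⟩ := hEnil
  obtain ⟨Q, hQ⟩ := sub_dvd_pow_sub_pow (G ^ n) (-E) N
  have hQ' : G ^ (n * N) = (G ^ n + E) * Q := by
    have h0 : (-E) ^ N = 0 := by rw [neg_pow, hN, mul_zero]
    rw [h0, sub_zero, sub_neg_eq_add, ← pow_mul] at hQ
    exact hQ
  refine ⟨⟨F, hFm, G, P₁ * Q, P₂ * Q, n * N, ?_⟩, ?_⟩
  · have h1 : derivative F * P₁ + F * P₂ = G ^ n + E := by rw [hE]; ring
    calc derivative F * (P₁ * Q) + F * (P₂ * Q)
        = (derivative F * P₁ + F * P₂) * Q := by ring
      _ = (G ^ n + E) * Q := by rw [h1]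
      _ = G ^ (n * N) := hQ'.symm
  · exact standardEtalePair_ext hF hG

open scoped TensorProduct

/-- Local lifting of etale algebras along a surjection `A → R` with nil kernel: an etale
`R`-algebra `B₀` is, around any prime, the base change of an etale `A`-algebra. -/
theorem exists_etale_lift_away_of_nil {A R B₀ : Type u} [CommRing A] [CommRing R] [CommRing B₀]
    [Algebra A R] (hsurj : Function.Surjective (algebraMap A R))
    (hker : ∀ x ∈ RingHom.ker (algebraMap A R), IsNilpotent x) [Algebra R B₀] [Algebra.Etale R B₀]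
    (q : Ideal B₀) [q.IsPrime] :
    ∃ f : B₀, f ∉ q ∧ ∃ (B' : Type u) (_ : CommRing B') (_ : Algebra A B'), Algebra.Etale A B' ∧
      Nonempty (Localization.Away f ≃ₐ[R] R ⊗[A] B') := by
  obtain ⟨f, hf, H⟩ := Algebra.IsEtaleAt.exists_isStandardEtale (R := R) q
  obtain ⟨⟨P₀, x₀, hmap, hbij⟩⟩ := H.nonempty_standardEtalePresentation
  obtain ⟨P', rfl⟩ := exists_lift_standardEtalePair_of_nil (algebraMap A R) hsurj hker P₀
  refine ⟨f, hf, P'.Ring, inferInstance, inferInstance, inferInstance, ⟨?_⟩⟩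
  let 𝓟₁ : StandardEtalePresentation R (Localization.Away f) := ⟨P'.map (algebraMap A R), x₀, hmap, hbij⟩
  let 𝓟₂ : StandardEtalePresentation A P'.Ring :=
    ⟨P', P'.X, P'.hasMap_X, by simpa [StandardEtalePair.lift_X_left] using Function.bijective_id⟩
  exact 𝓟₁.equivRing.trans (𝓟₂.baseChange (T := R)).equivRing.symm

/-- Lifting of algebra maps out of a smooth algebra along a surjection with nil kernel. -/
theorem exists_algHom_lift_of_smooth_of_nil {R B C' C : Type*} [CommRing R] [CommRing B]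
    [CommRing C'] [CommRing C] [Algebra R B] [Algebra.Smooth R B] [Algebra R C'] [Algebra R C]
    (φ : C' →ₐ[R] C) (hsurj : Function.Surjective φ)
    (hker : ∀ x ∈ RingHom.ker φ.toRingHom, IsNilpotent x) (g : B →ₐ[R] C) :
    ∃ g' : B →ₐ[R] C', φ.comp g' = g := by
  obtain ⟨n, π, hπ, hfg⟩ := (inferInstance : Algebra.FinitePresentation R B).out
  choose c hc using fun i : Fin n => hsurj (g (π (MvPolynomial.X i)))
  let ev : MvPolynomial (Fin n) R →ₐ[R] C' := MvPolynomial.aeval c
  have hev : φ.comp ev = g.comp π := by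
    apply MvPolynomial.algHom_ext
    intro i
    simp [ev, hc]
  let J₀ : Ideal C' := Ideal.map ev.toRingHom (RingHom.ker π.toRingHom)
  have hJ₀fg : J₀.FG := hfg.map _
  have hJ₀le : J₀ ≤ RingHom.ker φ.toRingHom := by
    rw [Ideal.map_le_iff_le_comap]
    intro p hp
    rw [Ideal.mem_comap, RingHom.mem_ker]
    change (φ.comp ev) p = 0
    rw [hev]
    change g (π p) = 0
    rw [show π p = 0 from hp, map_zero]
  have hJ₀nil : IsNilpotent J₀ := by
    rw [hJ₀fg.isNilpotent_iff_le_nilradical]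
    intro x hx
    exact hker x (hJ₀le hx)
  let g₀ : B →ₐ[R] C' ⧸ J₀ := AlgHom.liftOfSurjective π hπ ((Ideal.Quotient.mkₐ R J₀).comp ev) (by
    intro p hp
    rw [RingHom.mem_ker]
    change Ideal.Quotient.mk J₀ (ev p) = 0
    rw [Ideal.Quotient.eq_zero_iff_mem]
    exact Ideal.mem_map_of_mem _ hp)
  let g' : B →ₐ[R] C' := Algebra.FormallySmooth.lift J₀ hJ₀nil g₀
  refine ⟨g', ?_⟩
  have h1 : (Ideal.Quotient.mkₐ R J₀).comp g' = g₀ := Algebra.FormallySmooth.comp_lift J₀ hJ₀nil g₀
  let φb : C' ⧸ J₀ →ₐ[R] C := Ideal.Quotient.liftₐ J₀ φ (fun x hx => hJ₀le hx)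
  have h2 : φb.comp (Ideal.Quotient.mkₐ R J₀) = φ := by
    ext x
    simp [φb]
  have h3 : φb.comp g₀ = g := by
    apply AlgHom.ext
    intro b
    obtain ⟨p, rfl⟩ := hπ b
    change φb (g₀ (π p)) = g (π p)
    rw [AlgHom.liftOfSurjective_apply]
    change φb ((Ideal.Quotient.mkₐ R J₀) (ev p)) = _
    rw [← AlgHom.comp_apply, h2]
    exact congr($hev p)
  rw [← h2, AlgHom.comp_assoc, h1, h3]

end Groth.Agent.H53
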