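import Groth.Agent.H53.NilLiftRing
import Groth.Agent.H53.EtaleLift

universe u
open CategoryTheory CategoryTheory.Limits AlgebraicGeometry Opposite AlgSp
open scoped TensorProduct

namespace Groth.Agent.H53

/-- Global sections killed by a surjective morphism into a quasi-compact scheme are nilpotent. -/
theorem isNilpotent_of_appTop_eq_zero {T T' : Scheme.{u}} [CompactSpace T'] (j : T ⟶ T')
    (hj : Function.Surjective j) (x : Γ(T', ⊤)) (hx : j.appTop.hom x = 0) : IsNilpotent x := by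
  rw [Scheme.isNilpotent_iff_basicOpen_eq_bot, eq_bot_iff]
  intro t' ht'
  obtain ⟨t, rfl⟩ := hj t'
  have h1 : t ∈ j ⁻¹ᵁ T'.basicOpen x := ht'
  rw [Scheme.preimage_basicOpen_top] at h1
  have h2 : j.appTop.hom x = 0 := hx
  rw [show (ConcreteCategory.hom j.appTop) x = 0 from h2, Scheme.basicOpen_zero] at h1
  exact h1

set_option backward.isDefEq.respectTransparency false in
/-- Local lifting of etale morphisms along a thickening (surjective closed immersion) into an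
affine scheme: around every point, an etale `P₀ ⟶ T` is the base change of an etale `P' ⟶ T'`
with `P'` affine. -/
theorem exists_etale_lift_nhd_of_thick {T T' P₀ : Scheme.{u}} [IsAffine T'] (j : T ⟶ T')
    [IsClosedImmersion j] (hj : Function.Surjective j) (p₀ : P₀ ⟶ T) [Etale p₀] (x : P₀) :
    ∃ (U P' : Scheme.{u}) (o : U ⟶ P₀) (π : P' ⟶ T') (i : U ⟶ P'),
      IsAffine U ∧ IsAffine P' ∧ Etale π ∧ x ∈ Set.range o ∧ IsPullback i (o ≫ p₀) π j := by
  obtain ⟨hT, hsurj⟩ := IsClosedImmersion.isAffine_surjective_of_isAffine j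
  let _ : Algebra Γ(T', ⊤) Γ(T, ⊤) := j.appTop.hom.toAlgebra
  have hker : ∀ x ∈ RingHom.ker (algebraMap Γ(T', ⊤) Γ(T, ⊤)), IsNilpotent x :=
    fun x hx => isNilpotent_of_appTop_eq_zero j hj x hx
  obtain ⟨_, ⟨V, hV, rfl⟩, hxV, -⟩ :=
    P₀.isBasis_affineOpens.exists_subset_of_mem_open (Set.mem_univ x) isOpen_univ
  have hV' : IsAffineOpen V := hV
  have hle : V ≤ p₀ ⁻¹ᵁ ⊤ := le_top
  let ψ : Γ(T, ⊤) →+* Γ(P₀, V) := (p₀.appLE ⊤ V hle).hom
  have hψ : ψ.Etale :=
    HasRingHomProperty.appLE (P := @Etale) p₀ inferInstance ⟨⊤, isAffineOpen_top T⟩ ⟨V, hV'⟩ hle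
  let _ : Algebra Γ(T, ⊤) Γ(P₀, V) := ψ.toAlgebra
  have : Algebra.Etale Γ(T, ⊤) Γ(P₀, V) := hψ
  let q := hV'.primeIdealOf ⟨x, hxV⟩
  obtain ⟨f, hf, B', _, _, hB', ⟨e⟩⟩ := exists_etale_lift_away_of_nil hsurj hker q.asIdeal
  let θ' : Γ(P₀, V) →+* Localization.Away f := algebraMap Γ(P₀, V) (Localization.Away f)
  let inl : Γ(T, ⊤) →+* Γ(T, ⊤) ⊗[Γ(T', ⊤)] B' := Algebra.TensorProduct.includeLeftRingHom
  let inr : B' →+* Γ(T, ⊤) ⊗[Γ(T', ⊤)] B' :=
    (Algebra.TensorProduct.includeRight : B' →ₐ[Γ(T', ⊤)] Γ(T, ⊤) ⊗[Γ(T', ⊤)] B').toRingHom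
  have hθ : (e.toRingHom.comp θ').comp ψ = inl := by
    ext r
    change e (algebraMap Γ(P₀, V) (Localization.Away f) (algebraMap Γ(T, ⊤) Γ(P₀, V) r)) = _
    rw [← IsScalarTower.algebraMap_apply, e.commutes]
    rfl
  let o : Spec (.of (Γ(T, ⊤) ⊗[Γ(T', ⊤)] B')) ⟶ P₀ :=
    Spec.map (CommRingCat.ofHom e.toRingHom) ≫ Spec.map (CommRingCat.ofHom θ') ≫ hV'.fromSpec
  have ho : o ≫ p₀ = Spec.map (CommRingCat.ofHom inl) ≫ T.isoSpec.inv := by
    simp only [o, Category.assoc]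
    rw [← IsAffineOpen.SpecMap_appLE_fromSpec p₀ (isAffineOpen_top T) hV' hle,
      IsAffineOpen.fromSpec_top, ← Spec.map_comp_assoc, ← Spec.map_comp_assoc]
    congr 2
    ext r
    exact congr($hθ r)
  have hpush := CommRingCat.isPushout_tensorProduct Γ(T', ⊤) Γ(T, ⊤) B'
  have hpull := (isPullback_SpecMap_of_isPushout _ _ _ _ hpush).flip
  refine ⟨Spec (.of (Γ(T, ⊤) ⊗[Γ(T', ⊤)] B')), Spec (.of B'), o,
    Spec.map (CommRingCat.ofHom (algebraMap Γ(T', ⊤) B')) ≫ T'.isoSpec.inv,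
    Spec.map (CommRingCat.ofHom inr), inferInstance, inferInstance, ?_, ?_, ?_⟩
  · have : Etale (Spec.map (CommRingCat.ofHom (algebraMap Γ(T', ⊤) B'))) := by
      rw [HasRingHomProperty.Spec_iff (P := @Etale)]
      exact (RingHom.etale_algebraMap).2 hB'
    infer_instance
  · have hq : q ∈ Set.range (PrimeSpectrum.comap θ') := by
      rw [PrimeSpectrum.localization_away_comap_range (Localization.Away f) f]
      exact hf
    obtain ⟨y, hy⟩ := hq
    have : IsIso (Spec.map (CommRingCat.ofHom e.toRingHom)) := by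
      have : IsIso (CommRingCat.ofHom e.toRingHom) := e.toRingEquiv.toCommRingCatIso.isIso_hom
      infer_instance
    obtain ⟨z, hz⟩ := (ConcreteCategory.bijective_of_isIso
      (Spec.map (CommRingCat.ofHom e.toRingHom)).base).2 y
    refine ⟨z, ?_⟩
    have h1 : o z = hV'.fromSpec ((Spec.map (CommRingCat.ofHom θ')) ((Spec.map (CommRingCat.ofHom e.toRingHom)) z)) := rfl
    rw [h1]
    have h2 : (Spec.map (CommRingCat.ofHom e.toRingHom)) z = y := hz
    rw [h2]
    have h3 : (Spec.map (CommRingCat.ofHom θ')) y = q := hy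
    rw [h3]
    exact hV'.fromSpec_primeIdealOf ⟨x, hxV⟩
  · refine hpull.of_iso (Iso.refl _) (Iso.refl _) T.isoSpec.symm T'.isoSpec.symm ?_ ?_ ?_ ?_
    · simp
      rfl
    · simp only [Iso.refl_hom, Category.id_comp, Iso.symm_hom]
      exact ho.symm
    · simp
    · simp only [Iso.symm_hom]
      exact Scheme.isoSpec_inv_naturality j

end Groth.Agent.H53
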