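import Mathlib
import Groth.Agent.S0585

/-!
# Projectivity is Zariski local (no finiteness assumption)

Using faithfully flat descent of projectivity (Raynaud–Gruson, `S0585`), a module is projective
as soon as its localizations at finitely many elements generating the unit ideal are projective.
-/

set_option autoImplicit false
universe u

namespace Groth.Agent.H53.ProjLocal

open TensorProduct

section Pi

variable {ι : Type} [Fintype ι] [DecidableEq ι] (S : ι → Type u) [∀ i, CommRing (S i)]

/-- The `i`-th factor as an algebra over the product ring. -/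
@[reducible] def evalAlgebra (i : ι) : Algebra (∀ i, S i) (S i) := (Pi.evalRingHom S i).toAlgebra

attribute [local instance] evalAlgebra

theorem algebraMap_eval (i : ι) (s : ∀ i, S i) : algebraMap (∀ i, S i) (S i) s = s i := rfl

variable {S}

/-- The "inclusion of the `i`-th component". -/
noncomputable def comp (N : Type u) [AddCommGroup N] [Module (∀ i, S i) N] (i : ι) :
    S i ⊗[∀ i, S i] N →ₗ[∀ i, S i] N :=
  TensorProduct.lift
    { toFun := fun s ↦
        { toFun := fun n ↦ (Pi.single i s : ∀ i, S i) • n
          map_add' := fun n n' ↦ smul_add _ _ _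
          map_smul' := fun t n ↦ smul_comm _ _ _ }
      map_add' := fun s s' ↦ by
        ext n
        simp only [LinearMap.coe_mk, AddHom.coe_mk, LinearMap.add_apply]
        rw [Pi.single_add, add_smul]
      map_smul' := fun t s ↦ by
        ext n
        simp only [LinearMap.coe_mk, AddHom.coe_mk, LinearMap.smul_apply, RingHom.id_apply]
        rw [← mul_smul]
        congr 1
        ext k
        by_cases hk : k = i
        · subst hk
          simp [Algebra.smul_def, algebraMap_eval]
        · simp [Pi.single_eq_of_ne hk] }

theorem comp_tmul (N : Type u) [AddCommGroup N] [Module (∀ i, S i) N] (i : ι) (s : S i) (n : N) :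
    comp N i (s ⊗ₜ n) = (Pi.single i s : ∀ i, S i) • n := rfl

theorem comp_baseChange {N N' : Type u} [AddCommGroup N] [Module (∀ i, S i) N] [AddCommGroup N']
    [Module (∀ i, S i) N'] (f : N →ₗ[∀ i, S i] N') (i : ι) (x : S i ⊗[∀ i, S i] N) :
    comp N' i (f.baseChange (S i) x) = f (comp N i x) := by
  induction x using TensorProduct.induction_on with
  | zero => simp
  | tmul s n => simp [comp_tmul]
  | add x y hx hy => simp [hx, hy]

theorem sum_comp_mk (N : Type u) [AddCommGroup N] [Module (∀ i, S i) N] (n : N) :
    ∑ i, comp N i ((1 : S i) ⊗ₜ n) = n := by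
  simp only [comp_tmul]
  have h : (∑ i, (Pi.single i (1 : S i) : ∀ i, S i)) = 1 :=
    Finset.univ_sum_single (1 : ∀ i, S i)
  rw [← Finset.sum_smul, h, one_smul]

/-- A module over a finite product ring is projective if its components are. -/
theorem projective_pi (Q : Type u) [AddCommGroup Q] [Module (∀ i, S i) Q]
    (h : ∀ i, Module.Projective (S i) (S i ⊗[∀ i, S i] Q)) : Module.Projective (∀ i, S i) Q := by
  refine Module.Projective.of_lifting_property ?_
  intro N N'' _ _ _ _ f g hf
  have key : ∀ i, ∃ hi : S i ⊗[∀ i, S i] Q →ₗ[S i] S i ⊗[∀ i, S i] N,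
      (f.baseChange (S i)).comp hi = g.baseChange (S i) := by
    intro i
    have := h i
    exact Module.projective_lifting_property (f.baseChange (S i)) (g.baseChange (S i))
      (LinearMap.lTensor_surjective _ hf)
  choose hh hhf using key
  refine ⟨∑ i, (comp N i).comp (((hh i).restrictScalars (∀ i, S i)).comp
    (TensorProduct.mk (∀ i, S i) (S i) Q 1)), ?_⟩
  ext q
  simp only [LinearMap.comp_apply, LinearMap.sum_apply, map_sum, LinearMap.restrictScalars_apply,
    TensorProduct.mk_apply]
  have h1 : ∀ i, f (comp N i (hh i ((1 : S i) ⊗ₜ q))) = comp N'' i ((1 : S i) ⊗ₜ g q) := by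
    intro i
    rw [← comp_baseChange]
    have := congr($(hhf i) ((1 : S i) ⊗ₜ q))
    simp only [LinearMap.comp_apply] at this
    rw [this, LinearMap.baseChange_tmul]
  simp only [h1]
  exact sum_comp_mk N'' (g q)

end Pi

section Span

variable (R : Type u) [CommRing R] (M : Type u) [AddCommGroup M] [Module R M]

attribute [local instance] evalAlgebra

theorem faithfullyFlat_pi_away {n : ℕ} (g : Fin n → R) (hg : Ideal.span (Set.range g) = ⊤) :
    Module.FaithfullyFlat R (∀ i, Localization.Away (g i)) := by
  classical
  have hflat : Module.Flat R (∀ i, Localization.Away (g i)) :=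
    Module.Flat.of_linearEquiv
      (DFinsupp.linearEquivFunOnFintype (R := R) (M := fun i => Localization.Away (g i))).symm
  refine Module.FaithfullyFlat.of_comap_surjective ?_
  intro p
  obtain ⟨i, hi⟩ : ∃ i, g i ∉ p.asIdeal := by
    by_contra hcon
    push Not at hcon
    have : Ideal.span (Set.range g) ≤ p.asIdeal :=
      Ideal.span_le.mpr (by rintro _ ⟨i, rfl⟩; exact hcon i)
    rw [hg] at this
    exact p.isPrime.ne_top (top_le_iff.mp this)
  have hdisj : Disjoint (Submonoid.powers (g i) : Set R) (p.asIdeal : Set R) := by
    rw [Set.disjoint_left]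
    rintro _ ⟨k, rfl⟩ hk
    exact hi (p.isPrime.mem_of_pow_mem k hk)
  have hprime : (p.asIdeal.map (algebraMap R (Localization.Away (g i)))).IsPrime :=
    IsLocalization.isPrime_of_isPrime_disjoint (Submonoid.powers (g i)) _ _ p.isPrime hdisj
  have hcomap : (p.asIdeal.map (algebraMap R (Localization.Away (g i)))).comap
      (algebraMap R (Localization.Away (g i))) = p.asIdeal :=
    IsLocalization.comap_map_of_isPrime_disjoint (Submonoid.powers (g i)) _ p.isPrime hdisj
  let q : PrimeSpectrum (Localization.Away (g i)) := ⟨_, hprime⟩
  refine ⟨PrimeSpectrum.comap (Pi.evalRingHom (fun i => Localization.Away (g i)) i) q, ?_⟩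
  ext1
  change (q.asIdeal.comap (Pi.evalRingHom (fun i => Localization.Away (g i)) i)).comap
    (algebraMap R (∀ i, Localization.Away (g i))) = p.asIdeal
  rw [Ideal.comap_comap]
  exact hcomap

/-- Projectivity can be checked on a finite cover by basic opens (no finiteness on the module). -/
theorem projective_of_localization_finite_span {n : ℕ} (g : Fin n → R)
    (hg : Ideal.span (Set.range g) = ⊤)
    (h : ∀ i, Module.Projective (Localization.Away (g i)) (Localization.Away (g i) ⊗[R] M)) :
    Module.Projective R M := by
  classical
  have hff := faithfullyFlat_pi_away R g hg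
  let S : Fin n → Type u := fun i => Localization.Away (g i)
  letI : ∀ i, Algebra (∀ i, S i) (S i) := fun i => evalAlgebra S i
  have : ∀ i, IsScalarTower R (∀ i, S i) (S i) :=
    fun i ↦ IsScalarTower.of_algebraMap_eq (fun x ↦ rfl)
  have hproj : Module.Projective (∀ i, S i) ((∀ i, S i) ⊗[R] M) := by
    refine projective_pi (S := S) _ ?_
    intro i
    have := h i
    exact Module.Projective.of_equiv
      (TensorProduct.AlgebraTensorModule.cancelBaseChange R (∀ i, S i) (S i) (S i) M).symm
  exact Groth.Agent.S0585.result R (∀ i, Localization.Away (g i)) M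

end Span

end Groth.Agent.H53.ProjLocal
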