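import Mathlib
import Groth.Agent.H53.ProjLocal

/-!
# Zariski descent of projectivity, abstract localizations
-/

set_option autoImplicit false
universe u

namespace Groth.Agent.H53.ProjLocal

open TensorProduct

variable (R : Type u) [CommRing R] (M : Type u) [AddCommGroup M] [Module R M]

attribute [local instance] evalAlgebra

theorem faithfullyFlat_pi_away' {n : ℕ} (g : Fin n → R) (hg : Ideal.span (Set.range g) = ⊤)
    (A' : Fin n → Type u) [∀ i, CommRing (A' i)] [∀ i, Algebra R (A' i)]
    [∀ i, IsLocalization.Away (g i) (A' i)] :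
    Module.FaithfullyFlat R (∀ i, A' i) := by
  classical
  have hfl : ∀ i, Module.Flat R (A' i) := fun i ↦ IsLocalization.flat (A' i) (Submonoid.powers (g i))
  have hflat : Module.Flat R (∀ i, A' i) :=
    Module.Flat.of_linearEquiv
      (DFinsupp.linearEquivFunOnFintype (R := R) (M := fun i => A' i)).symm
  refine Module.FaithfullyFlat.of_comap_surjective ?_
  intro p
  obtain ⟨i, hi⟩ : ∃ i, g i ∉ p.asIdeal := by
    by_contra hcon
    push Not at hcon
    have : Ideal.span (Set.range g) ≤ p.asIdeal :=
      Ideal.span_le.mpr (by rintro _ ⟨i, rfl⟩; exact hcon i)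
    rw [hg] at this
    exact p.isPrime.ne_top (top_le_iff.mp this)
  have hdisj : Disjoint (Submonoid.powers (g i) : Set R) (p.asIdeal : Set R) := by
    rw [Set.disjoint_left]
    rintro _ ⟨k, rfl⟩ hk
    exact hi (p.isPrime.mem_of_pow_mem k hk)
  have hprime : (p.asIdeal.map (algebraMap R (A' i))).IsPrime :=
    IsLocalization.isPrime_of_isPrime_disjoint (Submonoid.powers (g i)) _ _ p.isPrime hdisj
  have hcomap : (p.asIdeal.map (algebraMap R (A' i))).comap (algebraMap R (A' i)) = p.asIdeal :=
    IsLocalization.comap_map_of_isPrime_disjoint (Submonoid.powers (g i)) _ p.isPrime hdisj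
  let q : PrimeSpectrum (A' i) := ⟨_, hprime⟩
  refine ⟨PrimeSpectrum.comap (Pi.evalRingHom A' i) q, ?_⟩
  ext1
  change (q.asIdeal.comap (Pi.evalRingHom A' i)).comap (algebraMap R (∀ i, A' i)) = p.asIdeal
  rw [Ideal.comap_comap]
  exact hcomap

/-- Projectivity can be checked on a finite cover by basic opens; abstract localizations. -/
theorem projective_of_localization_finite_span' {n : ℕ} (g : Fin n → R)
    (hg : Ideal.span (Set.range g) = ⊤)
    (A' : Fin n → Type u) [∀ i, CommRing (A' i)] [∀ i, Algebra R (A' i)]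
    [∀ i, IsLocalization.Away (g i) (A' i)]
    (h : ∀ i, Module.Projective (A' i) (A' i ⊗[R] M)) :
    Module.Projective R M := by
  classical
  have hff := faithfullyFlat_pi_away' R g hg A'
  let _ : ∀ i, Algebra (∀ i, A' i) (A' i) := fun i => evalAlgebra A' i
  have : ∀ i, IsScalarTower R (∀ i, A' i) (A' i) :=
    fun i ↦ IsScalarTower.of_algebraMap_eq (fun x ↦ rfl)
  have hproj : Module.Projective (∀ i, A' i) ((∀ i, A' i) ⊗[R] M) := by
    refine projective_pi (S := A') _ ?_
    intro i
    have := h i
    exact Module.Projective.of_equiv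
      (TensorProduct.AlgebraTensorModule.cancelBaseChange R (∀ i, A' i) (A' i) (A' i) M).symm
  exact Groth.Agent.S0585.result R (∀ i, A' i) M

/-- Version in the shape of `Module.Finite.of_localizationSpan_finite'`. -/
theorem projective_of_localizationSpan_finite' (t : Finset R) (ht : Ideal.span (t : Set R) = ⊤)
    {Mₚ : ∀ (_ : t), Type u} [∀ (g : t), AddCommGroup (Mₚ g)] [∀ (g : t), Module R (Mₚ g)]
    {Rₚ : ∀ (_ : t), Type u} [∀ (g : t), CommRing (Rₚ g)] [∀ (g : t), Algebra R (Rₚ g)]
    [∀ (g : t), IsLocalization.Away g.val (Rₚ g)]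
    [∀ (g : t), Module (Rₚ g) (Mₚ g)] [∀ (g : t), IsScalarTower R (Rₚ g) (Mₚ g)]
    (f : ∀ (g : t), M →ₗ[R] Mₚ g) [∀ (g : t), IsLocalizedModule.Away g.val (f g)]
    (H : ∀ (g : t), Module.Projective (Rₚ g) (Mₚ g)) : Module.Projective R M := by
  let e := t.equivFin
  let g : Fin t.card → R := fun i ↦ (e.symm i : R)
  have hrange : Set.range g = (t : Set R) := by
    ext x
    constructor
    · rintro ⟨i, rfl⟩
      exact (e.symm i).2
    · intro hx
      exact ⟨e ⟨x, hx⟩, by simp [g]⟩
  refine projective_of_localization_finite_span' R M g (by rw [hrange, ht])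
    (fun i ↦ Rₚ (e.symm i)) (fun i ↦ ?_)
  have := H (e.symm i)
  exact Module.Projective.of_equiv
    (IsLocalizedModule.isBaseChange (Submonoid.powers (e.symm i).1) (Rₚ (e.symm i))
      (f (e.symm i))).equiv.symm

end Groth.Agent.H53.ProjLocal
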