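import Mathlib

set_option autoImplicit false
set_option linter.style.haveILetI false

/-! A retract of a smooth algebra is smooth. -/

universe u

namespace Groth.Agent.H53

variable {R A C : Type u} [CommRing R] [CommRing A] [CommRing C] [Algebra R A] [Algebra R C]

/-- The kernel of a retraction of a finitely generated algebra is finitely generated. -/
theorem ker_fg_of_retract (ι : A →ₐ[R] C) (π : C →ₐ[R] A) (h : ∀ a, π (ι a) = a)
    [Algebra.FiniteType R C] : (RingHom.ker π.toRingHom).FG := by
  classical
  obtain ⟨s, hs⟩ := (Algebra.FiniteType.out : (⊤ : Subalgebra R C).FG)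
  let I : Ideal C := Ideal.span ((fun c => c - ι (π c)) '' (s : Set C))
  have hI : I.FG := ⟨s.image (fun c => c - ι (π c)), by simp [I]⟩
  have key : ∀ c : C, c - ι (π c) ∈ I := by
    intro c
    have hc : c ∈ Algebra.adjoin R (s : Set C) := by rw [hs]; trivial
    induction hc using Algebra.adjoin_induction with
    | mem x hx => exact Ideal.subset_span ⟨x, hx, rfl⟩
    | algebraMap r => simp
    | add x y _ _ hx hy =>
      have : x + y - ι (π (x + y)) = (x - ι (π x)) + (y - ι (π y)) := by
        simp only [map_add]; ring
      rw [this]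
      exact I.add_mem hx hy
    | mul x y _ _ hx hy =>
      have : x * y - ι (π (x * y)) = (x - ι (π x)) * y + ι (π x) * (y - ι (π y)) := by
        simp only [map_mul]; ring
      rw [this]
      exact I.add_mem (I.mul_mem_right _ hx) (I.mul_mem_left _ hy)
  have e : RingHom.ker π.toRingHom = I := by
    apply le_antisymm
    · intro c hc
      have hc' : π c = 0 := hc
      have := key c
      rwa [hc', map_zero, sub_zero] at this
    · rw [Ideal.span_le]
      rintro _ ⟨c, -, rfl⟩
      show π (c - ι (π c)) = 0
      rw [map_sub, h, sub_self]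
  rw [e]
  exact hI

/-- A retract of a smooth algebra is smooth. -/
theorem smooth_of_retract (ι : A →ₐ[R] C) (π : C →ₐ[R] A) (h : ∀ a, π (ι a) = a)
    [Algebra.Smooth R C] : Algebra.Smooth R A := by
  have hsurj : Function.Surjective π := fun a => ⟨ι a, h a⟩
  refine ⟨?_, Algebra.FinitePresentation.of_surjective (f := π) hsurj (ker_fg_of_retract ι π h)⟩
  apply Algebra.FormallySmooth.of_comp_surjective
  intro B _ _ I hI g
  obtain ⟨G, hG⟩ := Algebra.FormallySmooth.comp_surjective R C I hI (g.comp π)
  refine ⟨G.comp ι, ?_⟩
  rw [← AlgHom.comp_assoc, hG, AlgHom.comp_assoc]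
  ext a
  simp [h]

end Groth.Agent.H53
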