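import Groth.Agent.H53.Retract
import Mathlib

/-! Retracts of morphisms of schemes: if `g : X ⟶ Y` has a section and `g ≫ h` is flat / locally of
finite type / locally of finite presentation, then so is `h`. -/

set_option autoImplicit false
universe u

open CategoryTheory CategoryTheory.Limits AlgebraicGeometry

namespace Groth.Agent.H53

section Ring

variable {A B C : Type u} [CommRing A] [CommRing B] [CommRing C] (φ : A →+* B) (ψ : B →+* C)
  (ρ : C →+* B)

theorem ringHom_flat_of_retract (h : ρ.comp ψ = RingHom.id B) (H : (ψ.comp φ).Flat) : φ.Flat := by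
  let _ : Algebra A B := φ.toAlgebra
  let _ : Algebra A C := (ψ.comp φ).toAlgebra
  have hρ : ∀ b, ρ (ψ b) = b := fun b => RingHom.congr_fun h b
  let ι : B →ₐ[A] C := { ψ with commutes' := fun a => rfl }
  let π : C →ₐ[A] B := { ρ with commutes' := fun a => hρ (φ a) }
  have hF : Module.Flat A C := H
  change Module.Flat A B
  exact Module.Flat.of_retract ι.toLinearMap π.toLinearMap (by ext b; exact hρ b)

theorem ringHom_finiteType_of_retract (h : ρ.comp ψ = RingHom.id B) (H : (ψ.comp φ).FiniteType) :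
    φ.FiniteType := by
  let _ : Algebra A B := φ.toAlgebra
  let _ : Algebra A C := (ψ.comp φ).toAlgebra
  have hρ : ∀ b, ρ (ψ b) = b := fun b => RingHom.congr_fun h b
  let π : C →ₐ[A] B := { ρ with commutes' := fun a => hρ (φ a) }
  have hF : Algebra.FiniteType A C := H
  change Algebra.FiniteType A B
  exact Algebra.FiniteType.of_surjective π (fun b => ⟨ψ b, hρ b⟩)

theorem ringHom_finitePresentation_of_retract (h : ρ.comp ψ = RingHom.id B)
    (H : (ψ.comp φ).FinitePresentation) : φ.FinitePresentation := by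
  let _ : Algebra A B := φ.toAlgebra
  let _ : Algebra A C := (ψ.comp φ).toAlgebra
  have hρ : ∀ b, ρ (ψ b) = b := fun b => RingHom.congr_fun h b
  let ι : B →ₐ[A] C := { ψ with commutes' := fun a => rfl }
  let π : C →ₐ[A] B := { ρ with commutes' := fun a => hρ (φ a) }
  have hF : Algebra.FinitePresentation A C := H
  have hFT : Algebra.FiniteType A C := inferInstance
  change Algebra.FinitePresentation A B
  exact Algebra.FinitePresentation.of_surjective (f := π) (fun b => ⟨ψ b, hρ b⟩)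
    (ker_fg_of_retract ι π hρ)

end Ring

/-- Scheme-level retract lemma for a local property of ring maps. -/
theorem prop_of_retract (P : MorphismProperty Scheme.{u})
    (Q : ∀ {R S : Type u} [CommRing R] [CommRing S], (R →+* S) → Prop)
    [HasRingHomProperty P Q] (hQ : RingHom.StableUnderCompositionWithLocalizationAwaySource Q)
    (hret : ∀ {A B C : Type u} [CommRing A] [CommRing B] [CommRing C] (φ : A →+* B) (ψ : B →+* C)
      (ρ : C →+* B), ρ.comp ψ = RingHom.id B → Q (ψ.comp φ) → Q φ)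
    {X Y Z : Scheme.{u}} (g : X ⟶ Y) (σ : Y ⟶ X) (hσ : σ ≫ g = 𝟙 Y) (h : Y ⟶ Z)
    (H : P (g ≫ h)) : P h := by
  rw [HasRingHomProperty.iff_exists_appLE (P := P) hQ]
  intro y
  have hgσ : ∀ y', g (σ y') = y' := fun y' => by
    rw [← Scheme.Hom.comp_apply, hσ]; rfl
  obtain ⟨Z', hZ', hyZ', -⟩ := TopologicalSpace.Opens.isBasis_iff_nbhd.mp Z.isBasis_affineOpens
    (TopologicalSpace.Opens.mem_top (h y))
  obtain ⟨Y₀, hY₀, hyY₀, hY₀Z'⟩ := TopologicalSpace.Opens.isBasis_iff_nbhd.mp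
    Y.isBasis_affineOpens (show y ∈ h ⁻¹ᵁ Z' from hyZ')
  obtain ⟨X', hX', hxX', hX'Y₀⟩ := TopologicalSpace.Opens.isBasis_iff_nbhd.mp
    X.isBasis_affineOpens (show σ y ∈ g ⁻¹ᵁ Y₀ by
      change g (σ y) ∈ Y₀
      rw [hgσ]; exact hyY₀)
  obtain ⟨a, haW, hya⟩ := hY₀.exists_basicOpen_le (V := σ ⁻¹ᵁ X') ⟨y, hxX'⟩ hyY₀
  have hW : IsAffineOpen (Y.basicOpen a) := hY₀.basicOpen a
  have hX'' : IsAffineOpen (X.basicOpen (g.appLE Y₀ X' hX'Y₀ a)) := hX'.basicOpen _
  have hX''eq : X.basicOpen (g.appLE Y₀ X' hX'Y₀ a) = X' ⊓ g ⁻¹ᵁ (Y.basicOpen a) :=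
    Scheme.basicOpen_appLE g X' Y₀ hX'Y₀ a
  have e1 : X.basicOpen (g.appLE Y₀ X' hX'Y₀ a) ≤ g ⁻¹ᵁ (Y.basicOpen a) := by
    rw [hX''eq]; exact inf_le_right
  have e2 : Y.basicOpen a ≤ σ ⁻¹ᵁ (X.basicOpen (g.appLE Y₀ X' hX'Y₀ a)) := by
    intro y' hy'
    change σ y' ∈ X.basicOpen (g.appLE Y₀ X' hX'Y₀ a)
    rw [hX''eq]
    refine ⟨haW hy', ?_⟩
    change g (σ y') ∈ Y.basicOpen a
    rw [hgσ]; exact hy'
  have hWZ' : Y.basicOpen a ≤ h ⁻¹ᵁ Z' := (Y.basicOpen_le a).trans hY₀Z'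
  have e3 : X.basicOpen (g.appLE Y₀ X' hX'Y₀ a) ≤ (g ≫ h) ⁻¹ᵁ Z' :=
    e1.trans ((TopologicalSpace.Opens.map g.base).map (homOfLE hWZ')).le
  refine ⟨⟨Z', hZ'⟩, ⟨Y.basicOpen a, hW⟩, hya, hWZ', ?_⟩
  refine hret (h.appLE Z' (Y.basicOpen a) hWZ').hom (g.appLE _ _ e1).hom (σ.appLE _ _ e2).hom ?_ ?_
  · rw [← CommRingCat.hom_comp, Scheme.Hom.appLE_comp_appLE]
    have key : ∀ (k : Y ⟶ Y) (hk : k = 𝟙 Y) (e : Y.basicOpen a ≤ k ⁻¹ᵁ Y.basicOpen a),
        k.appLE (Y.basicOpen a) (Y.basicOpen a) e = 𝟙 _ := by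
      intro k hk e
      subst hk
      rw [Scheme.Hom.appLE, Scheme.Hom.id_app]
      simp
      exact Y.presheaf.map_id _
    rw [key (σ ≫ g) hσ]
    rfl
  · rw [← CommRingCat.hom_comp, Scheme.Hom.appLE_comp_appLE]
    exact HasRingHomProperty.appLE P (g ≫ h) H ⟨Z', hZ'⟩ ⟨_, hX''⟩ e3

theorem flat_of_retract {X Y Z : Scheme.{u}} (g : X ⟶ Y) (σ : Y ⟶ X) (hσ : σ ≫ g = 𝟙 Y)
    (h : Y ⟶ Z) (H : Flat (g ≫ h)) : Flat h :=
  prop_of_retract @Flat RingHom.Flat
    (RingHom.Flat.stableUnderComposition.stableUnderCompositionWithLocalizationAway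
      RingHom.Flat.holdsForLocalizationAway).1
    (fun φ ψ ρ hh HH => ringHom_flat_of_retract φ ψ ρ hh HH) g σ hσ h H

theorem locallyOfFiniteType_of_retract {X Y Z : Scheme.{u}} (g : X ⟶ Y) (σ : Y ⟶ X)
    (hσ : σ ≫ g = 𝟙 Y) (h : Y ⟶ Z) (H : LocallyOfFiniteType (g ≫ h)) : LocallyOfFiniteType h :=
  prop_of_retract @LocallyOfFiniteType RingHom.FiniteType
    (RingHom.finiteType_stableUnderComposition.stableUnderCompositionWithLocalizationAway
      RingHom.finiteType_holdsForLocalizationAway).1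
    (fun φ ψ ρ hh HH => ringHom_finiteType_of_retract φ ψ ρ hh HH) g σ hσ h H

theorem locallyOfFinitePresentation_of_retract {X Y Z : Scheme.{u}} (g : X ⟶ Y) (σ : Y ⟶ X)
    (hσ : σ ≫ g = 𝟙 Y) (h : Y ⟶ Z) (H : LocallyOfFinitePresentation (g ≫ h)) :
    LocallyOfFinitePresentation h :=
  prop_of_retract @LocallyOfFinitePresentation RingHom.FinitePresentation
    (RingHom.finitePresentation_stableUnderComposition.stableUnderCompositionWithLocalizationAway
      RingHom.finitePresentation_holdsForLocalizationAway).1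
    (fun φ ψ ρ hh HH => ringHom_finitePresentation_of_retract φ ψ ρ hh HH) g σ hσ h H

end Groth.Agent.H53
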