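import Groth.Agent.H53.SheafSurj

/-! Instances of `RetractClass`: flat, locally of finite type, locally of finite presentation. -/

set_option autoImplicit false
universe u

open CategoryTheory CategoryTheory.Limits AlgebraicGeometry Opposite
open AlgSp

namespace Groth.Agent.H53

theorem fppf_presieve_surjective {U : Scheme.{u}} (R : Presieve U)
    (hR : R ∈ Scheme.fppfPrecoverage U) (x : U) :
    ∃ (U' : Scheme.{u}) (g : U' ⟶ U), R g ∧ x ∈ Set.range g := by
  have := hR.1
  rw [Scheme.jointlySurjectivePrecoverage,
    Presieve.mem_comap_jointlySurjectivePrecoverage_iff] at this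
  obtain ⟨U', g, hg, y, hy⟩ := this x
  exact ⟨U', g, hg, y, hy⟩

theorem retractClass_flat : RetractClass (@Flat : MorphismProperty Scheme.{u}) where
  good := Groth.Agent.H50.goodClass_flat
  retract g σ hσ h H := flat_of_retract g σ hσ h H
  presieve k R hR H :=
    flat_of_forall_comp_flat k R (fppf_presieve_surjective R hR) (fun _ _ hg => (hR.2 hg).1)
      (fun _ _ hg => H _ hg)
  precomp k h hk _ hh := by
    have : Flat k := hk
    have : Flat h := hh
    infer_instance

theorem retractClass_lft : RetractClass (@LocallyOfFiniteType : MorphismProperty Scheme.{u}) where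
  good := Groth.Agent.H50.goodClass_lft
  retract g σ hσ h H := locallyOfFiniteType_of_retract g σ hσ h H
  presieve {U V} k R hR H :=
    locallyOfFiniteType_of_fppf_family k
      (ι := Σ U' : Scheme.{u}, {v : U' ⟶ U // R v}) (fun i => i.1) (fun i => i.2.1)
      (fun i => (hR.2 i.2.2).1) (fun i => (hR.2 i.2.2).2) (fun i => H _ i.2.2)
      (fun y => by
        obtain ⟨U', g, hg, hy⟩ := fppf_presieve_surjective R hR y
        exact ⟨⟨U', g, hg⟩, hy⟩)
  precomp k h _ hk hh := by
    have : LocallyOfFinitePresentation k := hk
    have : LocallyOfFiniteType h := hh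
    infer_instance

theorem retractClass_lfp :
    RetractClass (@LocallyOfFinitePresentation : MorphismProperty Scheme.{u}) where
  good := Groth.Agent.H50.goodClass_lfp
  retract g σ hσ h H := locallyOfFinitePresentation_of_retract g σ hσ h H
  presieve {U V} k R hR H :=
    locallyOfFinitePresentation_of_fppf_family k
      (ι := Σ U' : Scheme.{u}, {v : U' ⟶ U // R v}) (fun i => i.1) (fun i => i.2.1)
      (fun i => (hR.2 i.2.2).1) (fun i => (hR.2 i.2.2).2) (fun i => H _ i.2.2)
      (fun y => by
        obtain ⟨U', g, hg, hy⟩ := fppf_presieve_surjective R hR y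
        exact ⟨⟨U', g, hg⟩, hy⟩)
  precomp k h _ hk hh := by
    have : LocallyOfFinitePresentation k := hk
    have : LocallyOfFinitePresentation h := hh
    infer_instance

end Groth.Agent.H53
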