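import Mathlib
import Groth.Agent.H53.DerLift
import Groth.Agent.H53.ProjLocal

/-!
# Local lifting property ⟹ projectivity of the conormal-type module

`A` a ring, `I` an ideal, `B` an `A`-algebra with an augmentation `B → A ⧸ I`. We define the local
lifting property `LocalLift g` (at `g : A`) of ring maps out of `B` and show that if it holds for
`g₁, …, gₙ` generating the unit ideal, then `(A ⧸ I) ⊗[B] Ω[B⁄A]` is a projective `A ⧸ I`-module.
-/

set_option autoImplicit false
universe u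

namespace Groth.Agent.H53.SqZeroLocal

open TensorProduct Groth.Agent.H53.DerLift

variable (A : Type u) [CommRing A] (I : Ideal A) (B : Type u) [CommRing B] [Algebra A B]
  [Algebra B (A ⧸ I)] [IsScalarTower A B (A ⧸ I)]

/-- The local lifting property at `g`: ring maps `B → R''` lift along surjections `R' → R''`
such that `R' → R₀` has square zero kernel, when `g` becomes invertible in `R₀`. -/
def LocalLift (g : A) : Prop :=
  ∀ (R' R'' R₀ : Type u) [CommRing R'] [CommRing R''] [CommRing R₀] (π : R' →+* R'')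
    (ρ : R'' →+* R₀), Function.Surjective π → Function.Surjective ρ →
    (∀ x y : R', ρ (π x) = 0 → ρ (π y) = 0 → x * y = 0) →
    ∀ (β : A →+* R') (θ : A ⧸ I →+* R₀), (∀ x, ρ (π (β x)) = θ (Ideal.Quotient.mk I x)) →
    IsUnit (θ (Ideal.Quotient.mk I g)) →
    ∀ ψ'' : B →+* R'', (∀ x, ψ'' (algebraMap A B x) = π (β x)) →
      (∀ x, ρ (ψ'' x) = θ (algebraMap B (A ⧸ I) x)) →
    ∃ ψ : B →+* R', (∀ x, π (ψ x) = ψ'' x) ∧ ∀ x, ψ (algebraMap A B x) = β x

/-- The `Rᵐᵒᵖ`-module structure on a module over a commutative ring. -/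
@[reducible] def opModule (R N : Type u) [CommRing R] [AddCommGroup N] [Module R N] :
    Module Rᵐᵒᵖ N :=
  Module.compHom N ((RingHom.id R).fromOpposite (fun _ _ => Commute.all _ _))

theorem isCentralScalar_opModule (R N : Type u) [CommRing R] [AddCommGroup N] [Module R N] :
    letI := opModule R N
    IsCentralScalar R N :=
  letI := opModule R N
  ⟨fun _ _ => rfl⟩

variable {A I B}

set_option maxHeartbeats 1000000 in
/-- Derivations lift along surjections over a ring `R₀` in which `g` is invertible. -/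
theorem exists_isDer_lift_of_localLift {g : A} (hg : LocalLift A I B g)
    (R₀ : Type u) [CommRing R₀] [Algebra (A ⧸ I) R₀] [Algebra B R₀] [IsScalarTower B (A ⧸ I) R₀]
    (hu : IsUnit (algebraMap (A ⧸ I) R₀ (Ideal.Quotient.mk I g)))
    (N N'' : Type u) [AddCommGroup N] [AddCommGroup N''] [Module R₀ N] [Module R₀ N'']
    (p : N →ₗ[R₀] N'') (hp : Function.Surjective p) (D'' : B → N'') (hD'' : IsDer A R₀ D'') :
    ∃ D : B → N, IsDer A R₀ D ∧ ∀ x, p (D x) = D'' x := by
  let _ := opModule R₀ N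
  let _ := opModule R₀ N''
  have := isCentralScalar_opModule R₀ N
  have := isCentralScalar_opModule R₀ N''
  have hD1 : D'' 1 = 0 := by
    have := hD''.map_algebraMap 1
    rwa [map_one] at this
  have hD0 : D'' 0 = 0 := by
    have := hD''.map_add 0 0
    rw [add_zero] at this
    exact left_eq_add.mp this
  let π : TrivSqZeroExt R₀ N →+* TrivSqZeroExt R₀ N'' := (TrivSqZeroExt.map p).toRingHom
  let ρ : TrivSqZeroExt R₀ N'' →+* R₀ := (TrivSqZeroExt.fstHom R₀ R₀ N'').toRingHom
  let θ : A ⧸ I →+* R₀ := algebraMap (A ⧸ I) R₀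
  let β : A →+* TrivSqZeroExt R₀ N :=
    (TrivSqZeroExt.inlHom R₀ N).comp (θ.comp (Ideal.Quotient.mk I))
  let ψ'' : B →+* TrivSqZeroExt R₀ N'' :=
    { toFun := fun x ↦ TrivSqZeroExt.inl (algebraMap B R₀ x) + TrivSqZeroExt.inr (D'' x)
      map_one' := by
        rw [hD1, map_one, TrivSqZeroExt.inr_zero, add_zero]
        rfl
      map_mul' := fun x y ↦ by
        apply TrivSqZeroExt.ext
        · simp
        · simp only [TrivSqZeroExt.snd_add, TrivSqZeroExt.snd_inl, TrivSqZeroExt.snd_inr, zero_add,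
            TrivSqZeroExt.snd_mul, TrivSqZeroExt.fst_add, TrivSqZeroExt.fst_inl,
            TrivSqZeroExt.fst_inr, add_zero, op_smul_eq_smul]
          exact hD''.map_mul x y
      map_zero' := by
        rw [hD0, map_zero, TrivSqZeroExt.inr_zero, add_zero, TrivSqZeroExt.inl_zero]
      map_add' := fun x y ↦ by
        rw [hD''.map_add, map_add, TrivSqZeroExt.inl_add, TrivSqZeroExt.inr_add]
        abel }
  have hπ : Function.Surjective π := by
    intro z
    obtain ⟨n, hn⟩ := hp z.snd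
    refine ⟨TrivSqZeroExt.inl z.fst + TrivSqZeroExt.inr n, ?_⟩
    change TrivSqZeroExt.map p _ = z
    rw [map_add, TrivSqZeroExt.map_inl, TrivSqZeroExt.map_inr, hn,
      TrivSqZeroExt.inl_fst_add_inr_snd_eq]
  have hρ : Function.Surjective ρ := fun r ↦ ⟨TrivSqZeroExt.inl r, TrivSqZeroExt.fst_inl N'' r⟩
  have hsq : ∀ x y : TrivSqZeroExt R₀ N, ρ (π x) = 0 → ρ (π y) = 0 → x * y = 0 := by
    intro x y hx hy
    have hx' : x.fst = 0 := by
      have : (TrivSqZeroExt.map p x).fst = 0 := hx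
      rwa [TrivSqZeroExt.fst_map] at this
    have hy' : y.fst = 0 := by
      have : (TrivSqZeroExt.map p y).fst = 0 := hy
      rwa [TrivSqZeroExt.fst_map] at this
    apply TrivSqZeroExt.ext
    · rw [TrivSqZeroExt.fst_mul, hx', zero_mul, TrivSqZeroExt.fst_zero]
    · rw [TrivSqZeroExt.snd_mul, hx', hy', zero_smul, MulOpposite.op_zero, zero_smul, add_zero,
        TrivSqZeroExt.snd_zero]
  have hβθ : ∀ x, ρ (π (β x)) = θ (Ideal.Quotient.mk I x) := by
    intro x
    change (TrivSqZeroExt.map p (TrivSqZeroExt.inl _)).fst = _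
    rw [TrivSqZeroExt.map_inl, TrivSqZeroExt.fst_inl]
    rfl
  have hψ1 : ∀ x, ψ'' (algebraMap A B x) = π (β x) := by
    intro x
    change TrivSqZeroExt.inl (algebraMap B R₀ (algebraMap A B x)) +
      TrivSqZeroExt.inr (D'' (algebraMap A B x)) = TrivSqZeroExt.map p (TrivSqZeroExt.inl _)
    rw [hD''.map_algebraMap, TrivSqZeroExt.inr_zero, add_zero, TrivSqZeroExt.map_inl]
    congr 1
    change _ = algebraMap (A ⧸ I) R₀ (Ideal.Quotient.mk I x)
    rw [IsScalarTower.algebraMap_apply B (A ⧸ I) R₀, ← IsScalarTower.algebraMap_apply A B (A ⧸ I)]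
    rfl
  have hψ2 : ∀ x, ρ (ψ'' x) = θ (algebraMap B (A ⧸ I) x) := by
    intro x
    change (TrivSqZeroExt.inl (algebraMap B R₀ x) + TrivSqZeroExt.inr (D'' x)).fst = _
    rw [TrivSqZeroExt.fst_add, TrivSqZeroExt.fst_inl, TrivSqZeroExt.fst_inr, add_zero,
      IsScalarTower.algebraMap_apply B (A ⧸ I) R₀]
  obtain ⟨ψ, hψπ, hψβ⟩ := hg (TrivSqZeroExt R₀ N) (TrivSqZeroExt R₀ N'') R₀ π ρ hπ hρ hsq β θ hβθ hu
    ψ'' hψ1 hψ2
  have hfst : ∀ x, (ψ x).fst = algebraMap B R₀ x := by
    intro x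
    have h1 : (TrivSqZeroExt.map p (ψ x)).fst = (ψ'' x).fst := congr(TrivSqZeroExt.fst $(hψπ x))
    rw [TrivSqZeroExt.fst_map] at h1
    rw [h1]
    change (TrivSqZeroExt.inl (algebraMap B R₀ x) + TrivSqZeroExt.inr (D'' x)).fst = _
    rw [TrivSqZeroExt.fst_add, TrivSqZeroExt.fst_inl, TrivSqZeroExt.fst_inr, add_zero]
  refine ⟨fun x ↦ (ψ x).snd, ⟨fun x y ↦ ?_, fun x y ↦ ?_, fun a ↦ ?_⟩, fun x ↦ ?_⟩
  · rw [map_add, TrivSqZeroExt.snd_add]
  · rw [map_mul, TrivSqZeroExt.snd_mul, hfst, hfst, op_smul_eq_smul]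
  · rw [hψβ]
    rfl
  · have h1 : (TrivSqZeroExt.map p (ψ x)).snd = (ψ'' x).snd := congr(TrivSqZeroExt.snd $(hψπ x))
    rw [TrivSqZeroExt.snd_map] at h1
    rw [h1]
    change (TrivSqZeroExt.inl (algebraMap B R₀ x) + TrivSqZeroExt.inr (D'' x)).snd = _
    rw [TrivSqZeroExt.snd_add, TrivSqZeroExt.snd_inl, TrivSqZeroExt.snd_inr, zero_add]

variable (A I B) in
/-- The module `(A ⧸ I) ⊗[B] Ω[B⁄A]`. -/
abbrev M : Type u := (A ⧸ I) ⊗[B] Ω[B⁄A]

/-- If the local lifting property holds on a cover, `M` is projective (Raynaud–Gruson). -/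
theorem projective_of_localLift {n : ℕ} (g : Fin n → A) (hg : Ideal.span (Set.range g) = ⊤)
    (h : ∀ i, LocalLift A I B (g i)) : Module.Projective (A ⧸ I) (M A I B) := by
  refine Groth.Agent.H53.ProjLocal.projective_of_localization_finite_span (A ⧸ I) (M A I B)
    (fun i ↦ Ideal.Quotient.mk I (g i)) ?_ ?_
  · have : Set.range (fun i ↦ Ideal.Quotient.mk I (g i)) = Ideal.Quotient.mk I '' Set.range g := by
      rw [← Set.range_comp]
      rfl
    rw [this, ← Ideal.map_span, hg, Ideal.map_top]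
  · intro i
    let R₀ := Localization.Away (Ideal.Quotient.mk I (g i))
    have hu : IsUnit (algebraMap (A ⧸ I) R₀ (Ideal.Quotient.mk I (g i))) :=
      IsLocalization.Away.algebraMap_isUnit _
    have hproj : Module.Projective R₀ (R₀ ⊗[B] Ω[B⁄A]) :=
      projective_of_isDer_lift A R₀ (exists_isDer_lift_of_localLift (h i) R₀ hu)
    exact Module.Projective.of_equiv
      (TensorProduct.AlgebraTensorModule.cancelBaseChange B (A ⧸ I) R₀ R₀ Ω[B⁄A]).symm

end Groth.Agent.H53.SqZeroLocal
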