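import Mathlib

/-!
# Two-open Zariski glueing for a ring

For `k, h : R` generating the unit ideal: elements of `R_k` and `R_h` agreeing in `R_{kh}` glue,
membership in an ideal can be tested in `R_k` and `R_h`, and `𝔟 R_k × 𝔟 R_h → 𝔟 R_{kh}` is onto.
-/

set_option autoImplicit false
universe u

namespace Groth.Agent.H53.TwoLoc

variable {R : Type u} [CommRing R] (k h : R)

theorem exists_pow_combo (hkh : Ideal.span {k, h} = ⊤) (a b : ℕ) :
    ∃ α β : R, α * k ^ a + β * h ^ b = 1 := by
  have := Ideal.span_pow_eq_top {k, h} hkh (a + b)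
  rw [Set.image_pair, Ideal.eq_top_iff_one, Ideal.mem_span_pair] at this
  obtain ⟨c, d, hcd⟩ := this
  exact ⟨c * k ^ b, d * h ^ a, by rw [← hcd]; ring⟩

theorem isUnit_left : IsUnit (algebraMap R (Localization.Away (k * h)) k) := by
  have := IsLocalization.Away.algebraMap_isUnit (S := Localization.Away (k * h)) (k * h)
  rw [map_mul] at this
  exact isUnit_of_mul_isUnit_left this

theorem isUnit_right : IsUnit (algebraMap R (Localization.Away (k * h)) h) := by
  have := IsLocalization.Away.algebraMap_isUnit (S := Localization.Away (k * h)) (k * h)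
  rw [map_mul] at this
  exact isUnit_of_mul_isUnit_right this

/-- `R_k → R_{kh}`. -/
noncomputable def ρ₁ : Localization.Away k →+* Localization.Away (k * h) :=
  IsLocalization.Away.lift k (isUnit_left k h)

/-- `R_h → R_{kh}`. -/
noncomputable def ρ₂ : Localization.Away h →+* Localization.Away (k * h) :=
  IsLocalization.Away.lift h (isUnit_right k h)

@[simp] theorem ρ₁_algebraMap (x : R) :
    ρ₁ k h (algebraMap R (Localization.Away k) x) = algebraMap R (Localization.Away (k * h)) x :=
  IsLocalization.Away.lift_eq _ _ _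

@[simp] theorem ρ₂_algebraMap (x : R) :
    ρ₂ k h (algebraMap R (Localization.Away h) x) = algebraMap R (Localization.Away (k * h)) x :=
  IsLocalization.Away.lift_eq _ _ _

variable {k h}

/-- Membership in an ideal can be tested after localizing at `k` and `h`. -/
theorem mem_of_loc (hkh : Ideal.span {k, h} = ⊤) (𝔟 : Ideal R) (x : R)
    (h₁ : algebraMap R (Localization.Away k) x ∈ 𝔟.map (algebraMap R (Localization.Away k)))
    (h₂ : algebraMap R (Localization.Away h) x ∈ 𝔟.map (algebraMap R (Localization.Away h))) :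
    x ∈ 𝔟 := by
  have key : ∀ (r : R), algebraMap R (Localization.Away r) x ∈
      𝔟.map (algebraMap R (Localization.Away r)) → ∃ n : ℕ, r ^ n • x ∈ 𝔟 := by
    intro r hr
    rw [IsLocalization.mem_map_algebraMap_iff (Submonoid.powers r)] at hr
    obtain ⟨⟨⟨b, hb⟩, ⟨_, n, rfl⟩⟩, hbn⟩ := hr
    simp only at hbn
    rw [← map_mul, IsLocalization.eq_iff_exists (Submonoid.powers r)] at hbn
    obtain ⟨⟨_, m, rfl⟩, hm⟩ := hbn
    simp only at hm
    refine ⟨m + n, ?_⟩
    have : r ^ (m + n) • x = r ^ m * b := by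
      rw [smul_eq_mul, ← hm]
      ring
    rw [this]
    exact 𝔟.mul_mem_left _ hb
  refine Submodule.mem_of_span_eq_top_of_smul_pow_mem 𝔟 {k, h} hkh x ?_
  rintro ⟨r, hr⟩
  rcases hr with rfl | hr
  · exact key _ h₁
  · rw [Set.mem_singleton_iff] at hr
    subst hr
    exact key _ h₂

theorem eq_of_loc (hkh : Ideal.span {k, h} = ⊤) (x y : R)
    (h₁ : algebraMap R (Localization.Away k) x = algebraMap R (Localization.Away k) y)
    (h₂ : algebraMap R (Localization.Away h) x = algebraMap R (Localization.Away h) y) :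
    x = y := by
  have := mem_of_loc hkh ⊥ (x - y) (by rw [map_sub, h₁, sub_self]; exact zero_mem _)
    (by rw [map_sub, h₂, sub_self]; exact zero_mem _)
  rw [Ideal.mem_bot] at this
  exact sub_eq_zero.mp this

/-- Glueing of elements. -/
theorem glue_elem (hkh : Ideal.span {k, h} = ⊤) (x₁ : Localization.Away k)
    (x₂ : Localization.Away h) (hx : ρ₁ k h x₁ = ρ₂ k h x₂) :
    ∃ x : R, algebraMap R (Localization.Away k) x = x₁ ∧
      algebraMap R (Localization.Away h) x = x₂ := by
  obtain ⟨u, ⟨_, n, rfl⟩, rfl⟩ := IsLocalization.exists_mk'_eq (Submonoid.powers k) x₁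
  obtain ⟨v, ⟨_, m, rfl⟩, rfl⟩ := IsLocalization.exists_mk'_eq (Submonoid.powers h) x₂
  have h3 : algebraMap R (Localization.Away (k * h)) (u * h ^ m) =
      algebraMap R (Localization.Away (k * h)) (v * k ^ n) := by
    have e1 := IsLocalization.mk'_spec (Localization.Away k) u (⟨k ^ n, n, rfl⟩ : Submonoid.powers k)
    have e2 := IsLocalization.mk'_spec (Localization.Away h) v (⟨h ^ m, m, rfl⟩ : Submonoid.powers h)
    have e1' := congr(ρ₁ k h $e1)
    have e2' := congr(ρ₂ k h $e2)
    simp only [map_mul, ρ₁_algebraMap, ρ₂_algebraMap] at e1' e2'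
    rw [map_mul, map_mul, ← e1', ← e2', hx]
    ring
  rw [IsLocalization.eq_iff_exists (Submonoid.powers (k * h))] at h3
  obtain ⟨⟨_, l, rfl⟩, hrel⟩ := h3
  simp only at hrel
  obtain ⟨α, β, hone⟩ := exists_pow_combo k h hkh (n + l) (m + l)
  refine ⟨α * u * k ^ l + β * v * h ^ l, ?_, ?_⟩
  · rw [IsLocalization.eq_mk'_iff_mul_eq, ← map_mul,
      IsLocalization.eq_iff_exists (Submonoid.powers k)]
    refine ⟨⟨k ^ l, l, rfl⟩, ?_⟩
    simp only
    linear_combination (k ^ l * u) * hone - β * hrel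
  · rw [IsLocalization.eq_mk'_iff_mul_eq, ← map_mul,
      IsLocalization.eq_iff_exists (Submonoid.powers h)]
    refine ⟨⟨h ^ l, l, rfl⟩, ?_⟩
    simp only
    linear_combination (h ^ l * v) * hone + α * hrel

/-- `𝔟 R_h × 𝔟 R_k → 𝔟 R_{kh}` is surjective. -/
theorem surj_ideal (hkh : Ideal.span {k, h} = ⊤) (𝔟 : Ideal R) (z : Localization.Away (k * h))
    (hz : z ∈ 𝔟.map (algebraMap R (Localization.Away (k * h)))) :
    ∃ z₁ ∈ 𝔟.map (algebraMap R (Localization.Away k)),
      ∃ z₂ ∈ 𝔟.map (algebraMap R (Localization.Away h)), z = ρ₂ k h z₂ - ρ₁ k h z₁ := by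
  rw [IsLocalization.mem_map_algebraMap_iff (Submonoid.powers (k * h))] at hz
  obtain ⟨⟨⟨b, hb⟩, ⟨_, n, rfl⟩⟩, hbn⟩ := hz
  simp only at hbn
  obtain ⟨α, β, hone⟩ := exists_pow_combo k h hkh n n
  have hm1 : IsLocalization.mk' (Localization.Away k) (β * b) (⟨k ^ n, n, rfl⟩ : Submonoid.powers k) ∈
      𝔟.map (algebraMap R (Localization.Away k)) := by
    rw [IsLocalization.mk'_mem_map_algebraMap_iff]
    exact ⟨1, one_mem _, by rw [one_mul]; exact 𝔟.mul_mem_left _ hb⟩
  have hm2 : IsLocalization.mk' (Localization.Away h) (α * b) (⟨h ^ n, n, rfl⟩ : Submonoid.powers h) ∈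
      𝔟.map (algebraMap R (Localization.Away h)) := by
    rw [IsLocalization.mk'_mem_map_algebraMap_iff]
    exact ⟨1, one_mem _, by rw [one_mul]; exact 𝔟.mul_mem_left _ hb⟩
  refine ⟨-_, neg_mem hm1, _, hm2, ?_⟩
  have hunit : IsUnit (algebraMap R (Localization.Away (k * h)) ((k * h) ^ n)) := by
    rw [map_pow]
    exact (IsLocalization.Away.algebraMap_isUnit _).pow n
  apply hunit.mul_left_injective
  simp only
  rw [hbn]
  have e1 := IsLocalization.mk'_spec (Localization.Away k) (β * b) (⟨k ^ n, n, rfl⟩ : Submonoid.powers k)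
  have e2 := IsLocalization.mk'_spec (Localization.Away h) (α * b) (⟨h ^ n, n, rfl⟩ : Submonoid.powers h)
  have e1' := congr(ρ₁ k h $e1)
  have e2' := congr(ρ₂ k h $e2)
  simp only [map_mul, ρ₁_algebraMap, ρ₂_algebraMap] at e1' e2'
  have hone' := congr(algebraMap R (Localization.Away (k * h)) $hone)
  simp only [map_add, map_mul, map_one, map_pow] at hone'
  simp only [map_neg, sub_neg_eq_add, mul_pow, map_mul, map_pow] at e1' e2' ⊢
  linear_combination (-(algebraMap R (Localization.Away (k * h)) b)) * hone' -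
    (algebraMap R (Localization.Away (k * h)) k) ^ n * e2' -
    (algebraMap R (Localization.Away (k * h)) h) ^ n * e1'

end Groth.Agent.H53.TwoLoc
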