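import Mathlib
import Groth.Agent.H53.SqZeroLocal
import Groth.Agent.H53.TwoLoc

/-!
# Glueing lifts along a square zero extension

`A` a ring, `I` an ideal with `I ^ 2 = ⊥`, `B` an `A`-algebra with an augmentation `B → A ⧸ I`
such that `(A ⧸ I) ⊗[B] Ω[B⁄A]` is projective. Then `A`-algebra sections `B → A_g` of the
augmentation, given on a cover, can be modified to glue to a global one.
-/

set_option autoImplicit false
universe u

namespace Groth.Agent.H53.SqZeroGlue

open TensorProduct Groth.Agent.H53.DerLift Groth.Agent.H53.SqZeroLocal Groth.Agent.H53.TwoLoc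

variable {A : Type u} [CommRing A] (I : Ideal A) {B : Type u} [CommRing B] [Algebra A B]
  [Algebra B (A ⧸ I)] [IsScalarTower A B (A ⧸ I)]

/-- Derivations into `A`-modules killed by `I`, `B` acting through `B → A ⧸ I`. -/
structure IsDerA (N : Type u) [AddCommGroup N] [Module A N] (D : B → N) : Prop where
  map_add : ∀ x y, D (x + y) = D x + D y
  map_mul : ∀ x y (a b : A), Ideal.Quotient.mk I a = algebraMap B (A ⧸ I) x →
    Ideal.Quotient.mk I b = algebraMap B (A ⧸ I) y → D (x * y) = a • D y + b • D x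
  map_algebraMap : ∀ a : A, D (algebraMap A B a) = 0

variable {I}

/-- Lifting of derivations along surjections of `A`-modules killed by `I`. -/
theorem exists_isDerA_lift [Module.Projective (A ⧸ I) (M A I B)]
    {N N'' : Type u} [AddCommGroup N] [AddCommGroup N''] [Module A N] [Module A N'']
    (hN : ∀ a ∈ I, ∀ n : N, a • n = 0) (hN'' : ∀ a ∈ I, ∀ n : N'', a • n = 0)
    (p : N →ₗ[A] N'') (hp : Function.Surjective p) (D'' : B → N'') (hD'' : IsDerA I N'' D'') :
    ∃ D : B → N, IsDerA I N D ∧ ∀ x, p (D x) = D'' x := by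
  have tN : Module.IsTorsionBySet A N (I : Set A) := fun n a ↦ hN a.1 a.2 n
  have tN'' : Module.IsTorsionBySet A N'' (I : Set A) := fun n a ↦ hN'' a.1 a.2 n
  letI : Module (A ⧸ I) N := tN.module
  letI : Module (A ⧸ I) N'' := tN''.module
  have smulN : ∀ (a : A) (n : N), Ideal.Quotient.mk I a • n = a • n := fun a n ↦ rfl
  have smulN'' : ∀ (a : A) (n : N''), Ideal.Quotient.mk I a • n = a • n := fun a n ↦ rfl
  let p' : N →ₗ[A ⧸ I] N'' :=
    { toFun := p
      map_add' := p.map_add
      map_smul' := fun r n ↦ by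
        obtain ⟨a, rfl⟩ := Ideal.Quotient.mk_surjective r
        rw [smulN, RingHom.id_apply, smulN'', map_smul] }
  have hD : IsDer A (A ⧸ I) D'' :=
    { map_add := hD''.map_add
      map_mul := fun x y ↦ by
        obtain ⟨a, ha⟩ := Ideal.Quotient.mk_surjective (algebraMap B (A ⧸ I) x)
        obtain ⟨b, hb⟩ := Ideal.Quotient.mk_surjective (algebraMap B (A ⧸ I) y)
        rw [hD''.map_mul x y a b ha hb, ← ha, ← hb, smulN'', smulN'']
      map_algebraMap := hD''.map_algebraMap }
  obtain ⟨D, hD1, hD2⟩ := exists_isDer_lift A (A ⧸ I) p' hp D'' hD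
  refine ⟨D, ⟨hD1.map_add, fun x y a b ha hb ↦ ?_, hD1.map_algebraMap⟩, hD2⟩
  rw [hD1.map_mul, ← ha, ← hb, smulN, smulN]

section Lift

variable (I)
variable {R : Type u} [CommRing R] [Algebra A R]

/-- `s : B → R` is a lift of the augmentation `B → A ⧸ I` (modulo `I R`). -/
def IsLift (s : B →ₐ[A] R) : Prop :=
  ∀ (x : B) (y : A), Ideal.Quotient.mk I y = algebraMap B (A ⧸ I) x →
    s x - algebraMap A R y ∈ I.map (algebraMap A R)

variable {I}

theorem IsLift.comp {R' : Type u} [CommRing R'] [Algebra A R'] {s : B →ₐ[A] R} (hs : IsLift I s)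
    (τ : R →ₐ[A] R') : IsLift I (τ.comp s) := by
  intro x y hxy
  have h1 := Ideal.mem_map_of_mem τ.toRingHom (hs x y hxy)
  rw [Ideal.map_map] at h1
  have h2 : τ.toRingHom.comp (algebraMap A R) = algebraMap A R' := τ.comp_algebraMap
  rw [h2] at h1
  simpa using h1

theorem mul_eq_zero_of_mem (hI : I ^ 2 = ⊥) {u v : R} (hu : u ∈ I.map (algebraMap A R))
    (hv : v ∈ I.map (algebraMap A R)) : u * v = 0 := by
  have h1 : u * v ∈ I.map (algebraMap A R) * I.map (algebraMap A R) := Ideal.mul_mem_mul hu hv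
  rw [← Ideal.map_mul, ← pow_two, hI, Ideal.map_bot, Ideal.mem_bot] at h1
  exact h1

theorem smul_eq_zero_of_mem (hI : I ^ 2 = ⊥) {a : A} (ha : a ∈ I)
    (n : (I.map (algebraMap A R) : Ideal R)) : a • n = 0 := by
  apply Subtype.ext
  rw [Submodule.coe_smul_of_tower, Algebra.smul_def]
  exact mul_eq_zero_of_mem hI (Ideal.mem_map_of_mem _ ha) n.2

/-- The difference of two lifts is a derivation. -/
theorem isDerA_sub (hI : I ^ 2 = ⊥) {s s' : B →ₐ[A] R} (hs : IsLift I s) (hs' : IsLift I s')
    (hmem : ∀ x, s x - s' x ∈ I.map (algebraMap A R)) :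
    IsDerA I (I.map (algebraMap A R) : Ideal R) (fun x ↦ ⟨s x - s' x, hmem x⟩) where
  map_add x y := by
    apply Subtype.ext
    simp only [map_add, Submodule.coe_add]
    ring
  map_mul x y a b ha hb := by
    apply Subtype.ext
    simp only [map_mul, Submodule.coe_add, Submodule.coe_smul_of_tower, Algebra.smul_def]
    have h1 := mul_eq_zero_of_mem hI (hs x a ha) (hs y b hb)
    have h2 := mul_eq_zero_of_mem hI (hs' x a ha) (hs' y b hb)
    linear_combination h1 - h2
  map_algebraMap a := by
    apply Subtype.ext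
    simp

theorem sub_mem_of_isLift {s s' : B →ₐ[A] R} (hs : IsLift I s) (hs' : IsLift I s') (x : B) :
    s x - s' x ∈ I.map (algebraMap A R) := by
  obtain ⟨y, hy⟩ := Ideal.Quotient.mk_surjective (algebraMap B (A ⧸ I) x)
  have := sub_mem (hs x y hy) (hs' x y hy)
  simpa using this

/-- Adding a derivation to a lift gives a lift. -/
theorem exists_add (hI : I ^ 2 = ⊥) {s : B →ₐ[A] R} (hs : IsLift I s)
    (D : B → (I.map (algebraMap A R) : Ideal R))
    (hD : IsDerA I (I.map (algebraMap A R) : Ideal R) D) :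
    ∃ s' : B →ₐ[A] R, IsLift I s' ∧ ∀ x, s' x = s x + D x := by
  have hD1 : D 1 = 0 := by
    have := hD.map_algebraMap 1
    rwa [map_one] at this
  have hD0 : D 0 = 0 := by
    have := hD.map_add 0 0
    rw [add_zero] at this
    exact left_eq_add.mp this
  refine ⟨{ toFun := fun x ↦ s x + D x
            map_one' := by rw [hD1, map_one]; simp
            map_mul' := fun x y ↦ ?_
            map_zero' := by rw [hD0, map_zero]; simp
            map_add' := fun x y ↦ by rw [hD.map_add, map_add, Submodule.coe_add]; ring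
            commutes' := fun a ↦ by rw [hD.map_algebraMap, s.commutes]; simp }, ?_, fun x ↦ rfl⟩
  · obtain ⟨a, ha⟩ := Ideal.Quotient.mk_surjective (algebraMap B (A ⧸ I) x)
    obtain ⟨b, hb⟩ := Ideal.Quotient.mk_surjective (algebraMap B (A ⧸ I) y)
    rw [hD.map_mul x y a b ha hb, map_mul, Submodule.coe_add, Submodule.coe_smul_of_tower,
      Submodule.coe_smul_of_tower, Algebra.smul_def, Algebra.smul_def]
    have h1 := mul_eq_zero_of_mem hI (hs x a ha) (D y).2
    have h2 := mul_eq_zero_of_mem hI (hs y b hb) (D x).2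
    have h3 := mul_eq_zero_of_mem hI (D x).2 (D y).2
    linear_combination -h1 - h2 - h3
  · intro x y hxy
    change s x + D x - algebraMap A R y ∈ _
    have := add_mem (hs x y hxy) (D x).2
    convert this using 1
    ring

end Lift

section Glue

variable {R : Type u} [CommRing R] [Algebra A R] (k h : R)

/-- `ρ₁` as an `A`-algebra map. -/
noncomputable def ρ₁A : Localization.Away k →ₐ[A] Localization.Away (k * h) :=
  { ρ₁ k h with
    commutes' := fun a ↦ by
      change ρ₁ k h (algebraMap A (Localization.Away k) a) = _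
      rw [IsScalarTower.algebraMap_apply A R (Localization.Away k), ρ₁_algebraMap,
        ← IsScalarTower.algebraMap_apply] }

/-- `ρ₂` as an `A`-algebra map. -/
noncomputable def ρ₂A : Localization.Away h →ₐ[A] Localization.Away (k * h) :=
  { ρ₂ k h with
    commutes' := fun a ↦ by
      change ρ₂ k h (algebraMap A (Localization.Away h) a) = _
      rw [IsScalarTower.algebraMap_apply A R (Localization.Away h), ρ₂_algebraMap,
        ← IsScalarTower.algebraMap_apply] }

theorem ρ₁A_apply (x : Localization.Away k) : ρ₁A (A := A) k h x = ρ₁ k h x := rfl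
theorem ρ₂A_apply (x : Localization.Away h) : ρ₂A (A := A) k h x = ρ₂ k h x := rfl

theorem map_mem {R' R'' : Type u} [CommRing R'] [CommRing R''] [Algebra A R'] [Algebra A R'']
    (τ : R' →ₐ[A] R'') {x : R'} (hx : x ∈ I.map (algebraMap A R')) :
    τ x ∈ I.map (algebraMap A R'') := by
  have h1 := Ideal.mem_map_of_mem τ.toRingHom hx
  rw [Ideal.map_map] at h1
  have h2 : τ.toRingHom.comp (algebraMap A R') = algebraMap A R'' := τ.comp_algebraMap
  rw [h2] at h1
  exact h1

/-- The restriction of an algebra map to the ideals generated by `I`. -/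
noncomputable def resJ {R' R'' : Type u} [CommRing R'] [CommRing R''] [Algebra A R']
    [Algebra A R''] (τ : R' →ₐ[A] R'') :
    (I.map (algebraMap A R') : Ideal R') →ₗ[A] (I.map (algebraMap A R'') : Ideal R'') where
  toFun n := ⟨τ n.1, map_mem τ n.2⟩
  map_add' x y := by
    apply Subtype.ext
    simp
  map_smul' a x := by
    apply Subtype.ext
    simp

theorem map_map_eq (R' : Type u) [CommRing R'] [Algebra R R'] [Algebra A R']
    [IsScalarTower A R R'] :
    (I.map (algebraMap A R)).map (algebraMap R R') = I.map (algebraMap A R') := by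
  rw [Ideal.map_map, ← IsScalarTower.algebraMap_eq]

variable {k h}

set_option maxHeartbeats 1000000 in
/-- Two-open glueing of lifts. -/
theorem glue_two (hI : I ^ 2 = ⊥) [Module.Projective (A ⧸ I) (M A I B)]
    (hkh : Ideal.span {k, h} = ⊤)
    (s₁ : B →ₐ[A] Localization.Away k) (hs₁ : IsLift I s₁)
    (s₂ : B →ₐ[A] Localization.Away h) (hs₂ : IsLift I s₂) :
    ∃ s : B →ₐ[A] R, IsLift I s := by
  let σ₁ : B →ₐ[A] Localization.Away (k * h) := (ρ₁A k h).comp s₁
  let σ₂ : B →ₐ[A] Localization.Away (k * h) := (ρ₂A k h).comp s₂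
  have hσ₁ : IsLift I σ₁ := hs₁.comp _
  have hσ₂ : IsLift I σ₂ := hs₂.comp _
  let r₁ := resJ (I := I) (ρ₁A (A := A) k h)
  let r₂ := resJ (I := I) (ρ₂A (A := A) k h)
  let p : (I.map (algebraMap A (Localization.Away k)) : Ideal _) ×
      (I.map (algebraMap A (Localization.Away h)) : Ideal _) →ₗ[A]
      (I.map (algebraMap A (Localization.Away (k * h))) : Ideal _) :=
    r₂.comp (LinearMap.snd A _ _) - r₁.comp (LinearMap.fst A _ _)
  have hp : Function.Surjective p := by
    rintro ⟨z, hz⟩
    rw [← map_map_eq (I := I) (R := R)] at hz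
    obtain ⟨z₁, hz₁, z₂, hz₂, hzz⟩ := surj_ideal hkh _ z hz
    rw [map_map_eq] at hz₁ hz₂
    refine ⟨(⟨z₁, hz₁⟩, ⟨z₂, hz₂⟩), ?_⟩
    apply Subtype.ext
    change ρ₂ k h z₂ - ρ₁ k h z₁ = z
    exact hzz.symm
  have hkill : ∀ a ∈ I, ∀ n : (I.map (algebraMap A (Localization.Away k)) : Ideal _) ×
      (I.map (algebraMap A (Localization.Away h)) : Ideal _), a • n = 0 := by
    intro a ha n
    rw [Prod.ext_iff]
    exact ⟨smul_eq_zero_of_mem hI ha n.1, smul_eq_zero_of_mem hI ha n.2⟩
  obtain ⟨D, hD, hDp⟩ := exists_isDerA_lift hkill (fun a ha n ↦ smul_eq_zero_of_mem hI ha n) p hp _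
    (isDerA_sub hI hσ₁ hσ₂ (sub_mem_of_isLift hσ₁ hσ₂))
  have hD₁ : IsDerA I (I.map (algebraMap A (Localization.Away k)) : Ideal _) (fun x ↦ (D x).1) :=
    { map_add := fun x y ↦ by rw [hD.map_add, Prod.fst_add]
      map_mul := fun x y a b ha hb ↦ by
        rw [hD.map_mul x y a b ha hb, Prod.fst_add, Prod.smul_fst, Prod.smul_fst]
      map_algebraMap := fun a ↦ by rw [hD.map_algebraMap]; rfl }
  have hD₂ : IsDerA I (I.map (algebraMap A (Localization.Away h)) : Ideal _) (fun x ↦ (D x).2) :=
    { map_add := fun x y ↦ by rw [hD.map_add, Prod.snd_add]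
      map_mul := fun x y a b ha hb ↦ by
        rw [hD.map_mul x y a b ha hb, Prod.snd_add, Prod.smul_snd, Prod.smul_snd]
      map_algebraMap := fun a ↦ by rw [hD.map_algebraMap]; rfl }
  obtain ⟨s₁', hs₁', hs₁'eq⟩ := exists_add hI hs₁ _ hD₁
  obtain ⟨s₂', hs₂', hs₂'eq⟩ := exists_add hI hs₂ _ hD₂
  have hagree : ∀ x, ρ₁ k h (s₁' x) = ρ₂ k h (s₂' x) := by
    intro x
    have h1 := congr(($(hDp x)).1)
    change ρ₂ k h (D x).2 - ρ₁ k h (D x).1 = ρ₁ k h (s₁ x) - ρ₂ k h (s₂ x) at h1
    rw [hs₁'eq, hs₂'eq, map_add, map_add]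
    linear_combination -h1
  choose f hf₁ hf₂ using fun x ↦ glue_elem hkh (s₁' x) (s₂' x) (hagree x)
  let s : B →ₐ[A] R :=
    { toFun := f
      map_one' := eq_of_loc hkh _ _ (by rw [hf₁, map_one, map_one]) (by rw [hf₂, map_one, map_one])
      map_mul' := fun x y ↦ eq_of_loc hkh _ _ (by rw [hf₁, map_mul, map_mul, hf₁, hf₁])
        (by rw [hf₂, map_mul, map_mul, hf₂, hf₂])
      map_zero' := eq_of_loc hkh _ _ (by rw [hf₁, map_zero, map_zero])
        (by rw [hf₂, map_zero, map_zero])
      map_add' := fun x y ↦ eq_of_loc hkh _ _ (by rw [hf₁, map_add, map_add, hf₁, hf₁])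
        (by rw [hf₂, map_add, map_add, hf₂, hf₂])
      commutes' := fun a ↦ eq_of_loc hkh _ _
        (by rw [hf₁, s₁'.commutes, ← IsScalarTower.algebraMap_apply])
        (by rw [hf₂, s₂'.commutes, ← IsScalarTower.algebraMap_apply]) }
  refine ⟨s, fun x y hxy ↦ ?_⟩
  apply mem_of_loc hkh
  · rw [map_map_eq, map_sub, ← IsScalarTower.algebraMap_apply]
    change algebraMap R (Localization.Away k) (f x) - _ ∈ _
    rw [hf₁]
    exact hs₁' x y hxy
  · rw [map_map_eq, map_sub, ← IsScalarTower.algebraMap_apply]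
    change algebraMap R (Localization.Away h) (f x) - _ ∈ _
    rw [hf₂]
    exact hs₂' x y hxy

end Glue

section Main

/-- The canonical `A`-algebra map `A_k → R'` when `k` is invertible in `R'`. -/
noncomputable def awayToAlg (k : A) (R' : Type u) [CommRing R'] [Algebra A R']
    (hk : IsUnit (algebraMap A R' k)) : Localization.Away k →ₐ[A] R' :=
  IsLocalization.liftAlgHom (M := Submonoid.powers k) (f := Algebra.ofId A R') (by
    rintro ⟨_, n, rfl⟩
    change IsUnit (algebraMap A R' (k ^ n))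
    rw [map_pow]
    exact hk.pow n)

variable (I B) in
/-- `k` is good if the augmentation has a lift over `A_k`. -/
def Good (k : A) : Prop := ∃ s : B →ₐ[A] Localization.Away k, IsLift I s

theorem Good.of_isUnit {k : A} (hk : Good I B k) (R' : Type u) [CommRing R'] [Algebra A R']
    (hu : IsUnit (algebraMap A R' k)) : ∃ s : B →ₐ[A] R', IsLift I s := by
  obtain ⟨s, hs⟩ := hk
  exact ⟨(awayToAlg k R' hu).comp s, hs.comp _⟩

theorem good_zero : Good I B (0 : A) := by
  have hsub : Subsingleton (Localization.Away (0 : A)) :=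
    IsLocalization.subsingleton (M := Submonoid.powers (0 : A)) ⟨1, by simp⟩
  refine ⟨{ toFun := fun _ ↦ 0
            map_one' := Subsingleton.elim _ _
            map_mul' := fun _ _ ↦ Subsingleton.elim _ _
            map_zero' := rfl
            map_add' := fun _ _ ↦ Subsingleton.elim _ _
            commutes' := fun _ ↦ Subsingleton.elim _ _ }, fun x y _ ↦ ?_⟩
  rw [Subsingleton.elim (_ - _) 0]
  exact zero_mem _

theorem good_mul {k : A} (hk : Good I B k) (c : A) : Good I B (c * k) := by
  refine hk.of_isUnit _ ?_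
  have := IsLocalization.Away.algebraMap_isUnit (S := Localization.Away (c * k)) (c * k)
  rw [map_mul] at this
  exact isUnit_of_mul_isUnit_right this

theorem good_add (hI : I ^ 2 = ⊥) [Module.Projective (A ⧸ I) (M A I B)] {k h : A}
    (hk : Good I B k) (hh : Good I B h) : Good I B (k + h) := by
  let R := Localization.Away (k + h)
  have hkh : Ideal.span {algebraMap A R k, algebraMap A R h} = ⊤ := by
    rw [Ideal.eq_top_iff_one]
    have hu : IsUnit (algebraMap A R (k + h)) := IsLocalization.Away.algebraMap_isUnit _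
    obtain ⟨u, hu'⟩ := hu
    rw [Ideal.mem_span_pair]
    refine ⟨(↑u⁻¹ : R), (↑u⁻¹ : R), ?_⟩
    rw [← mul_add, ← map_add, ← hu', Units.inv_mul]
  obtain ⟨s₁, hs₁⟩ := hk.of_isUnit (Localization.Away (algebraMap A R k)) (by
    rw [IsScalarTower.algebraMap_apply A R (Localization.Away (algebraMap A R k))]
    exact IsLocalization.Away.algebraMap_isUnit _)
  obtain ⟨s₂, hs₂⟩ := hh.of_isUnit (Localization.Away (algebraMap A R h)) (by
    rw [IsScalarTower.algebraMap_apply A R (Localization.Away (algebraMap A R h))]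
    exact IsLocalization.Away.algebraMap_isUnit _)
  exact glue_two hI hkh s₁ hs₁ s₂ hs₂

/-- Lifts given on a cover by basic opens can be modified to glue to a global lift. -/
theorem exists_global_lift (hI : I ^ 2 = ⊥) [Module.Projective (A ⧸ I) (M A I B)] {n : ℕ}
    (g : Fin n → A) (hg : Ideal.span (Set.range g) = ⊤) (hloc : ∀ i, Good I B (g i)) :
    ∃ s : B →ₐ[A] A, IsLift I s := by
  let 𝔞 : Ideal A :=
    { carrier := {k | Good I B k}
      add_mem' := fun hk hh ↦ good_add hI hk hh
      zero_mem' := good_zero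
      smul_mem' := fun c k hk ↦ good_mul hk c }
  have h1 : Ideal.span (Set.range g) ≤ 𝔞 := Ideal.span_le.mpr (by
    rintro _ ⟨i, rfl⟩
    exact hloc i)
  rw [hg] at h1
  have h2 : Good I B (1 : A) := h1 Submodule.mem_top
  exact h2.of_isUnit A (by rw [map_one]; exact isUnit_one)

end Main

section Final

/-- The local lifting property gives a lift over `A_g`. -/
theorem good_of_localLift (hI : I ^ 2 = ⊥) {g : A} (hg : LocalLift A I B g) : Good I B g := by
  let R' := Localization.Away g
  let J : Ideal R' := I.map (algebraMap A R')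
  let θ : A ⧸ I →+* R' ⧸ J := Ideal.quotientMap J (algebraMap A R') Ideal.le_comap_map
  have hθ : ∀ x, θ (Ideal.Quotient.mk I x) = Ideal.Quotient.mk J (algebraMap A R' x) :=
    fun x ↦ Ideal.quotientMap_mk
  obtain ⟨ψ, hψ1, hψ2⟩ := hg R' (R' ⧸ J) (R' ⧸ J) (Ideal.Quotient.mk J) (RingHom.id _)
    Ideal.Quotient.mk_surjective Function.surjective_id
    (fun x y hx hy ↦ mul_eq_zero_of_mem hI (Ideal.Quotient.eq_zero_iff_mem.mp hx)
      (Ideal.Quotient.eq_zero_iff_mem.mp hy))
    (algebraMap A R') θ (fun x ↦ (hθ x).symm)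
    (by
      rw [hθ]
      exact (IsLocalization.Away.algebraMap_isUnit (S := R') g).map _)
    (θ.comp (algebraMap B (A ⧸ I)))
    (fun x ↦ by
      rw [RingHom.comp_apply, ← IsScalarTower.algebraMap_apply A B (A ⧸ I),
        Ideal.Quotient.algebraMap_eq, hθ])
    (fun x ↦ rfl)
  refine ⟨{ ψ with commutes' := hψ2 }, fun x y hxy ↦ ?_⟩
  change ψ x - algebraMap A R' y ∈ J
  rw [← Ideal.Quotient.eq, hψ1, RingHom.comp_apply, ← hxy, hθ]

/-- Main ring-level theorem: if the local lifting property holds on a cover, the augmentation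
`B → A ⧸ I` lifts to an `A`-algebra map `B → A`. -/
theorem exists_section_of_localLift (hI : I ^ 2 = ⊥) {n : ℕ} (g : Fin n → A)
    (hg : Ideal.span (Set.range g) = ⊤) (h : ∀ i, LocalLift A I B (g i)) :
    ∃ s : B →ₐ[A] A, ∀ x, Ideal.Quotient.mk I (s x) = algebraMap B (A ⧸ I) x := by
  haveI := projective_of_localLift g hg h
  obtain ⟨s, hs⟩ := exists_global_lift hI g hg (fun i ↦ good_of_localLift hI (h i))
  refine ⟨s, fun x ↦ ?_⟩
  obtain ⟨y, hy⟩ := Ideal.Quotient.mk_surjective (algebraMap B (A ⧸ I) x)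
  have := hs x y hy
  rw [Algebra.algebraMap_self, Ideal.map_id, RingHom.id_apply, ← Ideal.Quotient.eq] at this
  rw [this, hy]

/-- Version with an arbitrary generating set. -/
theorem exists_section_of_localLift' (hI : I ^ 2 = ⊥) (S : Set A) (hS : Ideal.span S = ⊤)
    (h : ∀ g ∈ S, LocalLift A I B g) :
    ∃ s : B →ₐ[A] A, ∀ x, Ideal.Quotient.mk I (s x) = algebraMap B (A ⧸ I) x := by
  obtain ⟨s', hs', hspan⟩ := (Ideal.span_eq_top_iff_finite S).mp hS
  let g : Fin s'.card → A := fun i ↦ (s'.equivFin.symm i : A)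
  have hrange : Set.range g = (s' : Set A) := by
    ext x
    constructor
    · rintro ⟨i, rfl⟩
      exact (s'.equivFin.symm i).2
    · intro hx
      exact ⟨s'.equivFin ⟨x, hx⟩, by simp [g]⟩
  refine exists_section_of_localLift hI g (by rw [hrange, hspan]) (fun i ↦ h _ (hs' ?_))
  exact (s'.equivFin.symm i).2

/-- If the images of a set generate the unit ideal modulo a square zero ideal, the set generates
the unit ideal. -/
theorem span_eq_top_of_map (hI : I ^ 2 = ⊥) (S : Set A)
    (hS : Ideal.span (Ideal.Quotient.mk I '' S) = ⊤) : Ideal.span S = ⊤ := by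
  rw [← Ideal.map_span] at hS
  have h1 : Ideal.span S ⊔ I = ⊤ := by
    have := congr(Ideal.comap (Ideal.Quotient.mk I) $hS)
    rw [Ideal.comap_map_of_surjective _ Ideal.Quotient.mk_surjective, Ideal.comap_top,
      ← RingHom.ker_eq_comap_bot, Ideal.mk_ker] at this
    exact this
  rw [Ideal.eq_top_iff_one, Submodule.mem_sup] at h1
  obtain ⟨x, hx, ι, hι, hxι⟩ := h1
  have hι2 : ι * ι = 0 := by
    have : ι * ι ∈ I ^ 2 := by rw [pow_two]; exact Ideal.mul_mem_mul hι hι
    rwa [hI, Ideal.mem_bot] at this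
  refine Ideal.eq_top_of_isUnit_mem _ hx (IsUnit.of_mul_eq_one (1 + ι) ?_)
  linear_combination (1 + ι) * hxι - hι2

end Final

end Groth.Agent.H53.SqZeroGlue
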