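import Mathlib
import Groth.Agent.H53.FONbhd
import Groth.Agent.H53.SqZeroGlue

/-!
# Affine-locally formally smooth morphisms are formally smooth

If all ring maps `Γ(Y, V) → Γ(X, U)` (`U ⊆ f⁻¹ V` affine opens) are formally smooth, then `f` has the
infinitesimal lifting property against `Spec (A ⧸ I) → Spec A`, `I ^ 2 = ⊥`.
-/

set_option autoImplicit false
universe u

namespace Groth.Agent.H53.SmoothGlobalLift

open AlgebraicGeometry CategoryTheory Limits
open Groth.Agent.H53.FONbhd Groth.Agent.H53.SqZeroLocal Groth.Agent.H53.SqZeroGlue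

set_option backward.isDefEq.respectTransparency false in
set_option maxHeartbeats 1000000 in
theorem isFormallySmoothHom_of_appLE {X Y : Scheme.{u}} (f : X ⟶ Y)
    (H : ∀ (U : X.Opens) (V : Y.Opens) (_ : IsAffineOpen U) (_ : IsAffineOpen V)
      (hUV : U ≤ f ⁻¹ᵁ V),
      letI := (f.appLE V U hUV).hom.toAlgebra
      Algebra.FormallySmooth Γ(Y, V) Γ(X, U)) :
    MoreMor.IsFormallySmoothHom f := by
  intro A _ I hI a b w
  obtain ⟨B, α, ε, ζ, h1, h2, h3, h4, h5⟩ := exists_foNbhd_ring f I hI a b w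
  letI : Algebra A B := α.hom.toAlgebra
  letI : Algebra B (A ⧸ I) := ε.hom.toAlgebra
  haveI : IsScalarTower A B (A ⧸ I) := IsScalarTower.of_algebraMap_eq (fun x ↦ by
    have := congr($h1 x)
    exact this.symm)
  -- the cover
  have hcov : ∀ t : Spec (CommRingCat.of (A ⧸ I)), ∃ g : A,
      t ∈ PrimeSpectrum.basicOpen (Ideal.Quotient.mk I g) ∧ LocalLift A I B g := by
    intro t
    obtain ⟨_, ⟨V, hV, rfl⟩, hxV, -⟩ :=
      Y.isBasis_affineOpens.exists_subset_of_mem_open (Set.mem_univ (f (a t))) isOpen_univ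
    obtain ⟨_, ⟨U, hU, rfl⟩, hxU, hUV⟩ :=
      X.isBasis_affineOpens.exists_subset_of_mem_open (show a t ∈ f ⁻¹ᵁ V from hxV)
        (f ⁻¹ᵁ V).isOpen
    obtain ⟨_, ⟨_, ⟨gbar, rfl⟩, rfl⟩, htg, hgU⟩ :=
      PrimeSpectrum.isBasis_basic_opens.exists_subset_of_mem_open (show t ∈ a ⁻¹ᵁ U from hxU)
        (a ⁻¹ᵁ U).isOpen
    obtain ⟨g, rfl⟩ := Ideal.Quotient.mk_surjective gbar
    refine ⟨g, htg, ?_⟩
    intro R' R'' R₀ _ _ _ π ρ hπ hρ hsq β θ hβθ hunit ψ'' hψ1 hψ2
    have hland : Set.range (Spec.map (CommRingCat.ofHom θ) ≫ a) ⊆ U := by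
      rintro _ ⟨y, rfl⟩
      rw [Scheme.Hom.comp_apply]
      apply hgU
      change Ideal.Quotient.mk I g ∉ (PrimeSpectrum.comap θ y).asIdeal
      rw [PrimeSpectrum.comap_asIdeal, Ideal.mem_comap]
      exact fun hmem ↦ y.isPrime.ne_top (Ideal.eq_top_of_isUnit_mem _ hmem hunit)
    obtain ⟨ψ, hψπ, hψα⟩ := exists_lift_of_foNbhd f I a b B α ε ζ h2 h3 h4 h5 hU hV hUV
      (H U V hU hV hUV) (CommRingCat.of R') (CommRingCat.of R'') (CommRingCat.of R₀)
      (CommRingCat.ofHom π) (CommRingCat.ofHom ρ) hπ hρ hsq (CommRingCat.ofHom β)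
      (CommRingCat.ofHom θ) (by ext x; exact hβθ x) hland (CommRingCat.ofHom ψ'')
      (by ext x; exact hψ1 x) (by ext x; exact hψ2 x)
    exact ⟨ψ.hom, fun x ↦ congr($hψπ x), fun x ↦ congr($hψα x)⟩
  choose g hg1 hg2 using hcov
  have hspan : Ideal.span (Set.range g) = ⊤ := by
    apply span_eq_top_of_map hI
    rw [← Set.range_comp, ← PrimeSpectrum.iSup_basicOpen_eq_top_iff, eq_top_iff]
    intro t _
    exact TopologicalSpace.Opens.mem_iSup.mpr ⟨t, hg1 t⟩
  obtain ⟨s, hs⟩ := exists_section_of_localLift' hI (Set.range g) hspan (by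
    rintro _ ⟨t, rfl⟩
    exact hg2 t)
  have e1 : CommRingCat.ofHom s.toRingHom ≫ CommRingCat.ofHom (Ideal.Quotient.mk I) = ε := by
    ext x
    exact hs x
  have e2 : α ≫ CommRingCat.ofHom s.toRingHom = 𝟙 _ := by
    ext x
    exact s.commutes x
  refine ⟨Spec.map (CommRingCat.ofHom s.toRingHom) ≫ ζ, ?_, ?_⟩
  · rw [← Spec.map_comp_assoc, e1, h2]
  · rw [Category.assoc, h3, ← Spec.map_comp_assoc, e2, Spec.map_id, Category.id_comp]

end Groth.Agent.H53.SmoothGlobalLift
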