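import Groth.Agent.H53.NilLiftSch
import Mathlib.AlgebraicGeometry.Morphisms.Smooth

universe u
open CategoryTheory CategoryTheory.Limits AlgebraicGeometry Opposite

namespace Groth.Agent.H53

/-- Morphisms between affine schemes from ring maps on global sections: a lifting lemma. -/
theorem exists_lift_affine_of_appTop {Z₀ P P₁ U₁ : Scheme.{u}} [IsAffine Z₀] [IsAffine P] [IsAffine P₁]
    [IsAffine U₁] (ζ₀ : Z₀ ⟶ P) (k : P₁ ⟶ P) (ι₁ : U₁ ⟶ P₁) (s₁ : U₁ ⟶ Z₀)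
    (H : ∃ g' : Γ(Z₀, ⊤) ⟶ Γ(P₁, ⊤), ζ₀.appTop ≫ g' = k.appTop ∧ g' ≫ ι₁.appTop = s₁.appTop) :
    ∃ s' : P₁ ⟶ Z₀, s' ≫ ζ₀ = k ∧ ι₁ ≫ s' = s₁ := by
  obtain ⟨g', h1, h2⟩ := H
  refine ⟨P₁.isoSpec.hom ≫ Spec.map g' ≫ Z₀.isoSpec.inv, ?_, ?_⟩
  · rw [← cancel_mono P.isoSpec.hom]
    simp only [Category.assoc]
    rw [← Scheme.isoSpec_hom_naturality ζ₀, Iso.inv_hom_id_assoc, ← Spec.map_comp, h1,
      Scheme.isoSpec_hom_naturality k]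
  · rw [← cancel_mono Z₀.isoSpec.hom]
    simp only [Category.assoc, Iso.inv_hom_id, Category.comp_id]
    rw [← Scheme.isoSpec_hom_naturality_assoc ι₁, ← Spec.map_comp, h2,
      Scheme.isoSpec_hom_naturality s₁]

set_option backward.isDefEq.respectTransparency false in
/-- Affine case of the lifting of sections of smooth morphisms along thickenings. -/
theorem exists_lift_affine_of_smooth_of_thick {Z₀ P P₁ U₁ : Scheme.{u}} [IsAffine Z₀] [IsAffine P]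
    [IsAffine P₁] (ζ₀ : Z₀ ⟶ P) [Smooth ζ₀] (k : P₁ ⟶ P) (ι₁ : U₁ ⟶ P₁) [IsClosedImmersion ι₁]
    (hι₁ : Function.Surjective ι₁) (s₁ : U₁ ⟶ Z₀) (w : s₁ ≫ ζ₀ = ι₁ ≫ k) :
    ∃ s' : P₁ ⟶ Z₀, s' ≫ ζ₀ = k ∧ ι₁ ≫ s' = s₁ := by
  obtain ⟨hU₁, hsurj⟩ := IsClosedImmersion.isAffine_surjective_of_isAffine ι₁
  apply exists_lift_affine_of_appTop
  let _ : Algebra Γ(P, ⊤) Γ(Z₀, ⊤) := ζ₀.appTop.hom.toAlgebra
  let _ : Algebra Γ(P, ⊤) Γ(P₁, ⊤) := k.appTop.hom.toAlgebra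
  let _ : Algebra Γ(P, ⊤) Γ(U₁, ⊤) := (k.appTop ≫ ι₁.appTop).hom.toAlgebra
  have hsm : Algebra.Smooth Γ(P, ⊤) Γ(Z₀, ⊤) :=
    (HasRingHomProperty.iff_of_isAffine (P := @Smooth) (f := ζ₀)).1 inferInstance
  let φ : Γ(P₁, ⊤) →ₐ[Γ(P, ⊤)] Γ(U₁, ⊤) := { ι₁.appTop.hom with commutes' := fun r => rfl }
  have hw : ζ₀.appTop ≫ s₁.appTop = k.appTop ≫ ι₁.appTop := by
    rw [← Scheme.Hom.comp_appTop, ← Scheme.Hom.comp_appTop, w]
  let g : Γ(Z₀, ⊤) →ₐ[Γ(P, ⊤)] Γ(U₁, ⊤) :=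
    { s₁.appTop.hom with commutes' := fun r => congr($hw r) }
  obtain ⟨g', hg'⟩ := exists_algHom_lift_of_smooth_of_nil φ hsurj
    (fun x hx => isNilpotent_of_appTop_eq_zero ι₁ hι₁ x hx) g
  refine ⟨CommRingCat.ofHom g'.toRingHom, ?_, ?_⟩
  · ext r
    exact g'.commutes r
  · ext b
    exact congr($hg' b)

/-- Local lifting of sections of a smooth morphism along a thickening of affine schemes. -/
theorem exists_local_section_of_smooth_of_thick {Z P U : Scheme.{u}} [IsAffine P] (ζ : Z ⟶ P)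
    [Smooth ζ] (ι : U ⟶ P) [IsClosedImmersion ι] (hι : Function.Surjective ι) (s : U ⟶ Z)
    (hs : s ≫ ζ = ι) (x : U) :
    ∃ (P₁ U₁ : Scheme.{u}) (k : P₁ ⟶ P) (kU : U₁ ⟶ U) (ι₁ : U₁ ⟶ P₁) (s' : P₁ ⟶ Z),
      IsAffine P₁ ∧ IsOpenImmersion k ∧ IsPullback ι₁ kU k ι ∧ ι x ∈ Set.range k ∧
        s' ≫ ζ = k ∧ ι₁ ≫ s' = kU ≫ s := by
  obtain ⟨_, ⟨Z₀, hZ₀, rfl⟩, hxZ₀, -⟩ :=
    Z.isBasis_affineOpens.exists_subset_of_mem_open (Set.mem_univ (s x)) isOpen_univ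
  revert Z₀
  change ∀ (Z₀ : Z.Opens), _
  intro Z₀ hZ₀ hxZ₀
  have hZ₀' : IsAffineOpen Z₀ := hZ₀
  have hhomeo : IsHomeomorph ι := by
    rw [isHomeomorph_iff_isEmbedding_surjective]
    exact ⟨ι.isClosedEmbedding.isEmbedding, hι⟩
  let O : U.Opens := s ⁻¹ᵁ Z₀
  have hO' : IsOpen (ι '' (O : Set U)) := hhomeo.isOpenMap _ O.isOpen
  have hxO' : ι x ∈ ι '' (O : Set U) := ⟨x, hxZ₀, rfl⟩
  obtain ⟨_, ⟨_, ⟨r, rfl⟩, rfl⟩, hxr, hrO⟩ := (isBasis_basicOpen P).exists_subset_of_mem_open hxO' hO'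
  have hP₁ : IsAffineOpen (P.basicOpen r) := (isAffineOpen_top P).basicOpen r
  have sq := isPullback_morphismRestrict ι (P.basicOpen r)
  have hrange : Set.range ((ι ⁻¹ᵁ P.basicOpen r).ι ≫ s) ⊆ Set.range Z₀.ι := by
    rintro _ ⟨u, rfl⟩
    rw [Scheme.Opens.range_ι]
    have hu : ι u.1 ∈ P.basicOpen r := u.2
    obtain ⟨o, ho, hoe⟩ := hrO hu
    have : o = u.1 := hhomeo.injective hoe
    subst this
    exact ho
  let s₁ : (ι ⁻¹ᵁ P.basicOpen r).toScheme ⟶ Z₀.toScheme :=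
    IsOpenImmersion.lift Z₀.ι ((ι ⁻¹ᵁ P.basicOpen r).ι ≫ s) hrange
  have hs₁ : s₁ ≫ Z₀.ι = (ι ⁻¹ᵁ P.basicOpen r).ι ≫ s := IsOpenImmersion.lift_fac _ _ _
  have : IsAffine (P.basicOpen r).toScheme := hP₁
  have : IsAffine Z₀.toScheme := hZ₀'
  have : IsClosedImmersion (ι ∣_ P.basicOpen r) := MorphismProperty.of_isPullback sq.flip inferInstance
  have hsurj₁ : Function.Surjective (ι ∣_ P.basicOpen r) := by
    have h0 : Surjective ι := ⟨hι⟩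
    have : Surjective (ι ∣_ P.basicOpen r) := MorphismProperty.of_isPullback sq.flip h0
    exact this.surj
  have w : s₁ ≫ (Z₀.ι ≫ ζ) = (ι ∣_ P.basicOpen r) ≫ (P.basicOpen r).ι := by
    rw [← Category.assoc, hs₁, Category.assoc, hs, sq.w]
  obtain ⟨s', h1, h2⟩ := exists_lift_affine_of_smooth_of_thick (Z₀.ι ≫ ζ) (P.basicOpen r).ι
    (ι ∣_ P.basicOpen r) hsurj₁ s₁ w
  refine ⟨(P.basicOpen r).toScheme, (ι ⁻¹ᵁ P.basicOpen r).toScheme, (P.basicOpen r).ι,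
    (ι ⁻¹ᵁ P.basicOpen r).ι, ι ∣_ P.basicOpen r, s' ≫ Z₀.ι, hP₁, inferInstance, sq, ?_, ?_, ?_⟩
  · rw [Scheme.Opens.range_ι]
    exact hxr
  · rw [Category.assoc]
    exact h1
  · rw [← Category.assoc, h2, hs₁]

end Groth.Agent.H53
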