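import Mathlib

set_option autoImplicit false
set_option linter.style.haveILetI false

/-! Ring-level input for "smooth morphisms have sections etale-locally": given a polynomial
`h` over `S` not vanishing identically modulo a prime `p₀`, there is an etale `S`-algebra `S'`
with a prime `p'` over `p₀` and a point `a ∈ S'ⁿ` with `h(a) ∉ p'`. -/

universe u

open Polynomial

namespace Groth.Agent.H53

/-- Case of an infinite residue domain: a point exists already over `S`. -/
theorem exists_point_of_infinite_quotient {S : Type u} [CommRing S] (p₀ : Ideal S) [p₀.IsPrime]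
    [Infinite (S ⧸ p₀)] {n : ℕ} (h : MvPolynomial (Fin n) S)
    (hh : MvPolynomial.map (Ideal.Quotient.mk p₀) h ≠ 0) :
    ∃ a : Fin n → S, MvPolynomial.aeval a h ∉ p₀ := by
  by_contra hcon
  push Not at hcon
  apply hh
  apply MvPolynomial.funext
  intro x
  have hx : ∀ i, ∃ s : S, Ideal.Quotient.mk p₀ s = x i := fun i => Ideal.Quotient.mk_surjective (x i)
  choose a ha using hx
  have h1 := hcon a
  rw [← Ideal.Quotient.eq_zero_iff_mem] at h1
  have h2 : MvPolynomial.eval x (MvPolynomial.map (Ideal.Quotient.mk p₀) h) =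
      Ideal.Quotient.mk p₀ (MvPolynomial.aeval a h) := by
    rw [MvPolynomial.eval_map, MvPolynomial.aeval_def, MvPolynomial.hom_eval₂]
    congr 1
    funext i
    simp [ha]
  rw [h2, h1, map_zero]


/-- Case of a finite residue field: a point exists over a standard etale extension. -/
theorem exists_point_of_finite_quotient {S : Type u} [CommRing S] (p₀ : Ideal S) [p₀.IsMaximal]
    [Finite (S ⧸ p₀)] {n : ℕ} (h : MvPolynomial (Fin n) S)
    (hh : MvPolynomial.map (Ideal.Quotient.mk p₀) h ≠ 0) :
    ∃ (S' : Type u) (_ : CommRing S') (_ : Algebra S S') (_ : Algebra.Etale S S')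
      (p' : Ideal S') (_ : p'.IsPrime) (a : Fin n → S'),
      p'.comap (algebraMap S S') = p₀ ∧ MvPolynomial.aeval a h ∉ p' := by
  classical
  letI : Field (S ⧸ p₀) := Ideal.Quotient.field p₀
  let k := S ⧸ p₀
  let K := AlgebraicClosure k
  -- a point over `K`
  have hK : MvPolynomial.map (algebraMap k K) (MvPolynomial.map (Ideal.Quotient.mk p₀) h) ≠ 0 := by
    intro h0
    apply hh
    apply MvPolynomial.map_injective (algebraMap k K) (algebraMap k K).injective
    rw [h0, map_zero]
  obtain ⟨a, ha⟩ : ∃ a : Fin n → K, MvPolynomial.eval a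
      (MvPolynomial.map (algebraMap k K) (MvPolynomial.map (Ideal.Quotient.mk p₀) h)) ≠ 0 := by
    by_contra hcon
    push Not at hcon
    apply hK
    apply MvPolynomial.funext
    intro x
    rw [hcon x, map_zero]
  -- the field generated by the coordinates
  let k' : IntermediateField k K := IntermediateField.adjoin k (Set.range a)
  haveI : FiniteDimensional k k' :=
    IntermediateField.finiteDimensional_adjoin fun x _ => (Algebra.IsIntegral.isIntegral x)
  obtain ⟨θ', hθ'⟩ := Field.exists_primitive_element_of_finite_bot k k'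
  let θ : K := θ'
  have hθint : IsIntegral k θ := Algebra.IsIntegral.isIntegral θ
  have hmem : ∀ i, ∃ A : k[X], Polynomial.aeval θ A = a i := by
    intro i
    have hi : a i ∈ k' := IntermediateField.subset_adjoin k _ ⟨i, rfl⟩
    have h1 : (⟨a i, hi⟩ : k') ∈ (⊤ : IntermediateField k k') := trivial
    rw [← hθ'] at h1
    have h2 : (⟨a i, hi⟩ : k') ∈ (IntermediateField.adjoin k {θ'}).toSubalgebra := h1
    rw [IntermediateField.adjoin_simple_toSubalgebra_of_isAlgebraic
      (Algebra.IsAlgebraic.isAlgebraic θ'), Algebra.adjoin_singleton_eq_range_aeval] at h2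
    obtain ⟨A, hA⟩ := h2
    refine ⟨A, ?_⟩
    have h3 : algebraMap k' K (Polynomial.aeval θ' A) = a i := congrArg (algebraMap k' K) hA
    rwa [← Polynomial.aeval_algebraMap_apply] at h3
  choose A hA using hmem
  -- lift to `S`
  have hsurj : Function.Surjective (Ideal.Quotient.mk p₀) := Ideal.Quotient.mk_surjective
  have hlift : ∀ B : k[X], ∃ B' : S[X], B'.map (Ideal.Quotient.mk p₀) = B :=
    fun B => Polynomial.map_surjective _ hsurj B
  choose A' hA' using fun i => hlift (A i)
  let m := minpoly k θ
  have hm : m.Monic := minpoly.monic hθint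
  obtain ⟨M, hM1, -, hM2⟩ := Polynomial.lifts_and_degree_eq_and_monic
    ((Polynomial.mem_lifts m).2 (hlift m)) hm
  have hsep : m.Separable := PerfectField.separable_of_irreducible (minpoly.irreducible hθint)
  let Pr : StandardEtalePair S :=
    { f := M, monic_f := hM2, g := derivative M, cond := ⟨1, 0, 1, by simp⟩ }
  haveI : IsScalarTower S k K := inferInstance
  have hev : ∀ B' : S[X], Polynomial.aeval θ B' = Polynomial.aeval θ (B'.map (Ideal.Quotient.mk p₀)) := by
    intro B'
    have : (Ideal.Quotient.mk p₀ : S →+* k) = algebraMap S k := rfl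
    rw [this, Polynomial.aeval_map_algebraMap]
  have hmap : Pr.HasMap θ := by
    refine ⟨?_, ?_⟩
    · show Polynomial.aeval θ M = 0
      rw [hev, hM1]
      exact minpoly.aeval k θ
    · show IsUnit (Polynomial.aeval θ (derivative M))
      rw [hev, ← Polynomial.derivative_map, hM1]
      exact (hsep.aeval_derivative_ne_zero (minpoly.aeval k θ)).isUnit
  let φ' : Pr.Ring →ₐ[S] K := Pr.lift θ hmap
  let a' : Fin n → Pr.Ring := fun i => Polynomial.aeval Pr.X (A' i)
  have ha' : ∀ i, φ' (a' i) = a i := by
    intro i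
    show φ' (Polynomial.aeval Pr.X (A' i)) = a i
    rw [← Polynomial.aeval_algHom_apply, StandardEtalePair.lift_X, hev, hA', hA]
  refine ⟨Pr.Ring, inferInstance, inferInstance, inferInstance, RingHom.ker φ'.toRingHom,
    RingHom.ker_isPrime _, a', ?_, ?_⟩
  · ext s
    rw [Ideal.mem_comap, RingHom.mem_ker]
    show φ' (algebraMap S Pr.Ring s) = 0 ↔ _
    rw [AlgHom.commutes]
    show algebraMap k K (Ideal.Quotient.mk p₀ s) = 0 ↔ _
    rw [map_eq_zero_iff _ (algebraMap k K).injective, Ideal.Quotient.eq_zero_iff_mem]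
  · rw [RingHom.mem_ker]
    show ¬ φ' (MvPolynomial.aeval a' h) = 0
    rw [MvPolynomial.comp_aeval_apply, funext ha', MvPolynomial.aeval_def, ← MvPolynomial.eval_map,
      IsScalarTower.algebraMap_eq S k K, ← MvPolynomial.map_map]
    exact ha

/-- For a prime `p₀` of `S` and a polynomial `h` over `S` which does not vanish identically modulo
`p₀`, there are an etale `S`-algebra `S'`, a prime `p'` of `S'` over `p₀` and a point `a ∈ S'ⁿ`
with `h(a) ∉ p'`. -/
theorem exists_etale_point {S : Type u} [CommRing S] (p₀ : Ideal S) [p₀.IsPrime]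
    {n : ℕ} (h : MvPolynomial (Fin n) S)
    (hh : MvPolynomial.map (Ideal.Quotient.mk p₀) h ≠ 0) :
    ∃ (S' : Type u) (_ : CommRing S') (_ : Algebra S S') (_ : Algebra.Etale S S')
      (p' : Ideal S') (_ : p'.IsPrime) (a : Fin n → S'),
      p'.comap (algebraMap S S') = p₀ ∧ MvPolynomial.aeval a h ∉ p' := by
  rcases finite_or_infinite (S ⧸ p₀) with hfin | hinf
  · haveI : p₀.IsMaximal :=
      Ideal.Quotient.maximal_of_isField p₀ (Finite.isField_of_domain (S ⧸ p₀))
    exact exists_point_of_finite_quotient p₀ h hh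
  · obtain ⟨a, ha⟩ := exists_point_of_infinite_quotient p₀ h hh
    exact ⟨S, inferInstance, inferInstance, inferInstance, p₀, inferInstance, a, by simp, ha⟩

end Groth.Agent.H53
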