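import Groth.Agent.H53.SmoothSection
import Groth.Agent.H53.Retract
import Groth.Agent.H53.LocSource
import Groth.Agent.H51.EtSource
import Groth.Agent.H50.EtSrcSmooth

set_option autoImplicit false
set_option linter.style.haveILetI false

/-! Smoothness is smooth-local on the source (schemes). -/

universe u

open CategoryTheory CategoryTheory.Limits AlgebraicGeometry TopologicalSpace

namespace Groth.Agent.H53

/-- A retract of a smooth morphism is smooth: if `s ≫ π = 𝟙` and `π ≫ c` is smooth, then `c` is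
smooth. -/
theorem smooth_of_retract_scheme {V' Z W : Scheme.{u}} (s : V' ⟶ Z) (π : Z ⟶ V')
    (hs : s ≫ π = 𝟙 V') (c : V' ⟶ W) (hsm : Smooth (π ≫ c)) : Smooth c := by
  rw [HasRingHomProperty.iff_exists_appLE (P := @Smooth)
    (RingHom.Smooth.stableUnderComposition.stableUnderCompositionWithLocalizationAway
      RingHom.Smooth.holdsForLocalizationAway).1]
  intro x
  -- affine opens
  obtain ⟨_, ⟨W₀, hW₀, rfl⟩, hxW₀, -⟩ :=
    W.isBasis_affineOpens.exists_subset_of_mem_open (Set.mem_univ (c x)) isOpen_univ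
  obtain ⟨_, ⟨V₀, hV₀, rfl⟩, hxV₀, hV₀W₀⟩ :=
    V'.isBasis_affineOpens.exists_subset_of_mem_open (show x ∈ (c ⁻¹ᵁ W₀ : Set V') from hxW₀)
      (c ⁻¹ᵁ W₀).isOpen
  obtain ⟨_, ⟨Z₀, hZ₀, rfl⟩, hxZ₀, hZ₀V₀⟩ :=
    Z.isBasis_affineOpens.exists_subset_of_mem_open
      (show s x ∈ (π ⁻¹ᵁ V₀ : Set Z) from by
        show π (s x) ∈ V₀
        rw [← Scheme.Hom.comp_apply, hs]; exact hxV₀)
      (π ⁻¹ᵁ V₀).isOpen
  -- a basic open of `V₀` mapping into `Z₀` under `s`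
  obtain ⟨b, hb1, hb2⟩ := hV₀.exists_basicOpen_le (V := s ⁻¹ᵁ Z₀) ⟨x, hxZ₀⟩ hxV₀
  let V₁ : V'.Opens := V'.basicOpen b
  have hV₁ : IsAffineOpen V₁ := hV₀.basicOpen b
  have hV₁V₀ : V₁ ≤ V₀ := V'.basicOpen_le b
  let Z₁ : Z.Opens := Z.basicOpen (π.appLE V₀ Z₀ hZ₀V₀ b)
  have hZ₁ : IsAffineOpen Z₁ := hZ₀.basicOpen _
  have hZ₁eq : Z₁ = Z₀ ⊓ π ⁻¹ᵁ V₁ := Scheme.basicOpen_appLE π Z₀ V₀ hZ₀V₀ b
  have e1 : Z₁ ≤ π ⁻¹ᵁ V₁ := by rw [hZ₁eq]; exact inf_le_right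
  have e2 : V₁ ≤ s ⁻¹ᵁ Z₁ := by
    intro y hy
    show s y ∈ Z₁
    rw [hZ₁eq]
    refine ⟨hb1 hy, ?_⟩
    show π (s y) ∈ V₁
    rw [← Scheme.Hom.comp_apply, hs]
    exact hy
  have e3 : V₁ ≤ c ⁻¹ᵁ W₀ := hV₁V₀.trans hV₀W₀
  have e4 : Z₁ ≤ (π ≫ c) ⁻¹ᵁ W₀ := e1.trans ((Opens.map π.base).map (homOfLE e3)).le
  refine ⟨⟨W₀, hW₀⟩, ⟨V₁, hV₁⟩, hb2, e3, ?_⟩
  -- ring maps
  have hπc : c.appLE W₀ V₁ e3 ≫ π.appLE V₁ Z₁ e1 = (π ≫ c).appLE W₀ Z₁ e4 :=
    Scheme.Hom.appLE_comp_appLE π c W₀ V₁ Z₁ e3 e1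
  have hid : π.appLE V₁ Z₁ e1 ≫ s.appLE Z₁ V₁ e2 = 𝟙 _ := by
    rw [Scheme.Hom.appLE_comp_appLE]
    have : ∀ (t : V' ⟶ V') (ht : t = 𝟙 V') (e : V₁ ≤ t ⁻¹ᵁ V₁), t.appLE V₁ V₁ e = 𝟙 _ := by
      rintro t rfl e
      simp only [Scheme.Hom.appLE, Scheme.Hom.id_app]
      exact (Category.id_comp _).trans (V'.presheaf.map_id _)
    exact this _ hs _
  have hC : ((π ≫ c).appLE W₀ Z₁ e4).hom.Smooth :=
    HasRingHomProperty.appLE (P := @Smooth) _ hsm ⟨W₀, hW₀⟩ ⟨Z₁, hZ₁⟩ e4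
  letI : Algebra Γ(W, W₀) Γ(V', V₁) := (c.appLE W₀ V₁ e3).hom.toAlgebra
  letI : Algebra Γ(W, W₀) Γ(Z, Z₁) := ((π ≫ c).appLE W₀ Z₁ e4).hom.toAlgebra
  haveI : Algebra.Smooth Γ(W, W₀) Γ(Z, Z₁) := RingHom.smooth_algebraMap.1 hC
  let ι : Γ(V', V₁) →ₐ[Γ(W, W₀)] Γ(Z, Z₁) :=
    { (π.appLE V₁ Z₁ e1).hom with
      commutes' := fun r => by
        show (c.appLE W₀ V₁ e3 ≫ π.appLE V₁ Z₁ e1) r = ((π ≫ c).appLE W₀ Z₁ e4) r
        rw [hπc] }
  let ρ : Γ(Z, Z₁) →ₐ[Γ(W, W₀)] Γ(V', V₁) :=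
    { (s.appLE Z₁ V₁ e2).hom with
      commutes' := fun r => by
        show ((π ≫ c).appLE W₀ Z₁ e4 ≫ s.appLE Z₁ V₁ e2) r = (c.appLE W₀ V₁ e3) r
        rw [← hπc, Category.assoc, hid, Category.comp_id] }
  have hρι : ∀ a, ρ (ι a) = a := by
    intro a
    show (π.appLE V₁ Z₁ e1 ≫ s.appLE Z₁ V₁ e2) a = a
    rw [hid]
    rfl
  have := smooth_of_retract ι ρ hρι
  exact RingHom.smooth_algebraMap.2 this

/-- If `g : U ⟶ X` is smooth, `g ≫ f` is smooth and `u : U`, there is an etale neighbourhood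
`e : V' ⟶ X` of `g u` with `e ≫ f` smooth. -/
theorem exists_etale_nhd_smooth_comp {U X Y : Scheme.{u}} (g : U ⟶ X) (f : X ⟶ Y) [Smooth g]
    (hgf : Smooth (g ≫ f)) (u : U) :
    ∃ (V' : Scheme.{u}) (e : V' ⟶ X) (v' : V'), Etale e ∧ e v' = g u ∧ Smooth (e ≫ f) := by
  obtain ⟨V', e, σ, v', he, hσ, hv'⟩ := exists_etale_section_of_smooth g u
  refine ⟨V', e, v', he, hv', ?_⟩
  let s : V' ⟶ pullback g e := pullback.lift σ (𝟙 V') (by rw [hσ, Category.id_comp])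
  have hs : s ≫ pullback.snd g e = 𝟙 V' := pullback.lift_snd _ _ _
  apply smooth_of_retract_scheme s (pullback.snd g e) hs (e ≫ f)
  rw [← Category.assoc, ← pullback.condition, Category.assoc]
  infer_instance

/-- Smoothness descends along smooth covering families on the source. -/
theorem smooth_of_forall_comp_of_mem_smoothPrecoverage {X Y : Scheme.{u}} (f : X ⟶ Y)
    (R : Presieve X) (hR : R ∈ Scheme.precoverage @Smooth X)
    (H : ∀ ⦃U : Scheme.{u}⦄ ⦃g : U ⟶ X⦄, R g → Smooth (g ≫ f)) : Smooth f := by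
  have hsurj : ∀ x : X, ∃ (U : Scheme.{u}) (g : U ⟶ X), R g ∧ x ∈ Set.range g := by
    have := hR.1
    rw [Scheme.jointlySurjectivePrecoverage,
      Presieve.mem_comap_jointlySurjectivePrecoverage_iff] at this
    intro x
    obtain ⟨U, g, hg, y, hy⟩ := this x
    exact ⟨U, g, hg, y, hy⟩
  choose U g hg hx using hsurj
  choose w hw using hx
  have hsm : ∀ x, Smooth (g x) := fun x => hR.2 (hg x)
  have key : ∀ x, ∃ (V' : Scheme.{u}) (e : V' ⟶ X) (v' : V'),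
      Etale e ∧ e v' = g x (w x) ∧ Smooth (e ≫ f) := fun x =>
    haveI := hsm x
    exists_etale_nhd_smooth_comp (g x) f (H (hg x)) (w x)
  choose V' e v' he hv' hef using key
  have hR' : Presieve.ofArrows V' e ∈ Scheme.precoverage @Etale X := by
    rw [Scheme.ofArrows_mem_precoverage_iff]
    exact ⟨fun x => ⟨x, v' x, (hv' x).trans (hw x)⟩, he⟩
  refine Groth.Agent.H51.of_forall_comp_of_mem_etalePrecoverage (P := @Smooth)
    (fun e h he hs H => @Groth.Agent.H50.smooth_of_comp_etale_surjective _ _ _ e h he hs H)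
    f _ hR' ?_
  rintro _ _ ⟨x⟩
  exact hef x

/-- Being smooth is local on the source for the smooth precoverage. -/
theorem smooth_isLocalAtSource_smoothPrecoverage :
    MorphismProperty.IsLocalAtSource (@Smooth : MorphismProperty Scheme.{u})
      (Scheme.precoverage @Smooth) where
  comp {X Y f R} hR U g hg hf := by
    have : Smooth g := hR.2 hg
    have : Smooth f := hf
    exact (inferInstance : Smooth (g ≫ f))
  of_forall_comp {X Y f R} hR H := smooth_of_forall_comp_of_mem_smoothPrecoverage f R hR H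

end Groth.Agent.H53
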