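import Groth.Agent.H53.FormalEtale

universe u
open CategoryTheory CategoryTheory.Limits AlgebraicGeometry Opposite AlgSp

namespace Groth.Agent.H53

variable {S : Scheme.{u}}

set_option backward.isDefEq.respectTransparency false in
/-- Base change of a square-zero closed immersion into an affine scheme along a morphism from an
affine scheme is square-zero. -/
theorem sqZero_of_isPullback_of_isAffine {W Z W' V' : Scheme.{u}} (i : W ⟶ Z) [IsClosedImmersion i]
    [IsAffine Z] (hi : i.ker * i.ker = ⊥) (p : V' ⟶ Z) [IsAffine V'] (q : W' ⟶ W) (i' : W' ⟶ V')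
    (sq : IsPullback q i' i p) : i'.ker * i'.ker = ⊥ := by
  have hci' : IsClosedImmersion i' := MorphismProperty.of_isPullback sq ‹IsClosedImmersion i›
  obtain ⟨hW, hsurj⟩ := IsClosedImmersion.isAffine_surjective_of_isAffine i
  let I₀ : Ideal Γ(Z, ⊤) := RingHom.ker i.appTop.hom
  have hI₀ : I₀ ^ 2 = ⊥ := Groth.Agent.H8.ker_appTop_sq_eq_bot i hi
  let K : Ideal Γ(V', ⊤) := I₀.map p.appTop.hom
  have hK : K ^ 2 = ⊥ := by
    change (I₀.map p.appTop.hom) ^ 2 = ⊥
    rw [← Ideal.map_pow, hI₀, Ideal.map_bot]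
  let e : (Γ(Z, ⊤) ⧸ I₀) ≃+* Γ(W, ⊤) := RingHom.quotientKerEquivOfSurjective hsurj
  have hle : ∀ a ∈ I₀, ((Ideal.Quotient.mk K).comp p.appTop.hom) a = 0 := fun a ha => by
    rw [RingHom.comp_apply, Ideal.Quotient.eq_zero_iff_mem]
    exact Ideal.mem_map_of_mem _ ha
  let ψ : Γ(W, ⊤) →+* Γ(V', ⊤) ⧸ K :=
    (Ideal.Quotient.lift I₀ ((Ideal.Quotient.mk K).comp p.appTop.hom) hle).comp e.symm.toRingHom
  have hψ : i.appTop ≫ CommRingCat.ofHom ψ =
      p.appTop ≫ CommRingCat.ofHom (Ideal.Quotient.mk K) := by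
    ext z
    change ψ (i.appTop.hom z) = _
    have h1 : e.symm (i.appTop.hom z) = Ideal.Quotient.mk I₀ z := by
      rw [RingEquiv.symm_apply_eq]
      rfl
    change (Ideal.Quotient.lift I₀ _ hle) (e.symm (i.appTop.hom z)) = _
    rw [h1, Ideal.Quotient.lift_mk]
    rfl
  let s : Spec (.of (Γ(V', ⊤) ⧸ K)) ⟶ V' :=
    Spec.map (CommRingCat.ofHom (Ideal.Quotient.mk K)) ≫ V'.isoSpec.inv
  let r : Spec (.of (Γ(V', ⊤) ⧸ K)) ⟶ W := Spec.map (CommRingCat.ofHom ψ) ≫ W.isoSpec.inv
  have hrs : r ≫ i = s ≫ p := by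
    simp only [r, s, Category.assoc]
    rw [← Scheme.isoSpec_inv_naturality i, ← Scheme.isoSpec_inv_naturality p,
      ← Spec.map_comp_assoc, ← Spec.map_comp_assoc, hψ]
  obtain ⟨t, -, ht⟩ : ∃ t, t ≫ q = r ∧ t ≫ i' = s :=
    ⟨sq.lift r s hrs, sq.lift_fst _ _ _, sq.lift_snd _ _ _⟩
  have ht' : t ≫ i' ≫ V'.isoSpec.hom = Spec.map (CommRingCat.ofHom (Ideal.Quotient.mk K)) := by
    rw [← Category.assoc, ht]
    simp only [s, Category.assoc, Iso.inv_hom_id, Category.comp_id]
  have hfac : CommRingCat.ofHom (Ideal.Quotient.mk K) =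
      i'.appTop ≫ (t.appTop ≫ (Scheme.ΓSpecIso (.of (Γ(V', ⊤) ⧸ K))).hom) := by
    have hnat := Scheme.ΓSpecIso_naturality (CommRingCat.ofHom (Ideal.Quotient.mk K))
    have h4 := congrArg Scheme.Hom.appTop ht'
    simp only [Scheme.Hom.comp_appTop] at h4
    rw [Scheme.isoSpec_hom, Scheme.toSpecΓ_appTop] at h4
    rw [← h4, Category.assoc, Category.assoc] at hnat
    rw [← cancel_epi (Scheme.ΓSpecIso Γ(V', ⊤)).hom]
    exact hnat.symm
  have key : ∀ x ∈ RingHom.ker i'.appTop.hom, x ∈ K := by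
    intro x hx
    rw [← Ideal.Quotient.eq_zero_iff_mem]
    have h2 := congr(($hfac).hom x)
    simp only [CommRingCat.hom_comp, RingHom.comp_apply] at h2
    rw [RingHom.mem_ker.mp hx, map_zero, map_zero] at h2
    exact h2
  apply Scheme.IdealSheafData.ext_of_isAffine
  have h1 : i'.ker.ideal ⟨⊤, isAffineOpen_top _⟩ = RingHom.ker i'.appTop.hom :=
    i'.ker_apply ⟨⊤, isAffineOpen_top _⟩
  have h2 : (i'.ker * i'.ker).ideal ⟨⊤, isAffineOpen_top _⟩ =
      i'.ker.ideal ⟨⊤, isAffineOpen_top _⟩ * i'.ker.ideal ⟨⊤, isAffineOpen_top _⟩ := rfl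
  rw [h2, h1]
  change _ = ⊥
  rw [eq_bot_iff, Ideal.mul_le]
  intro x hx y hy
  have : x * y ∈ K ^ 2 := by
    rw [pow_two]
    exact Ideal.mul_mem_mul (key x hx) (key y hy)
  rwa [hK] at this

set_option backward.isDefEq.respectTransparency false in
/-- `Spec (A ⧸ I) ⟶ Spec A` has square-zero kernel when `I ^ 2 = ⊥`. -/
theorem sqZero_specMap_quotientMk {A : Type u} [CommRing A] (I : Ideal A) (hI : I ^ 2 = ⊥) :
    sqZero (Spec.map (CommRingCat.ofHom (Ideal.Quotient.mk I))) := by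
  change _ * _ = ⊥
  apply Scheme.IdealSheafData.ext_of_isAffine
  set t := Spec.map (CommRingCat.ofHom (Ideal.Quotient.mk I)) with ht
  have : IsClosedImmersion t := IsClosedImmersion.spec_of_surjective _ Ideal.Quotient.mk_surjective
  have h1 : t.ker.ideal ⟨⊤, isAffineOpen_top _⟩ = RingHom.ker t.appTop.hom :=
    t.ker_apply ⟨⊤, isAffineOpen_top _⟩
  have h2 : (t.ker * t.ker).ideal ⟨⊤, isAffineOpen_top _⟩ =
      t.ker.ideal ⟨⊤, isAffineOpen_top _⟩ * t.ker.ideal ⟨⊤, isAffineOpen_top _⟩ := rfl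
  rw [h2, h1]
  change _ = ⊥
  rw [eq_bot_iff, Ideal.mul_le]
  intro x hx y hy
  have hnat := Scheme.ΓSpecIso_naturality (CommRingCat.ofHom (Ideal.Quotient.mk I))
  have hx' : (Scheme.ΓSpecIso (CommRingCat.of A)).hom x ∈ I := by
    rw [← Ideal.Quotient.eq_zero_iff_mem]
    have := congr(($hnat).hom x)
    simp only [CommRingCat.hom_comp, RingHom.comp_apply] at this
    rw [← ht, RingHom.mem_ker.mp hx, map_zero] at this
    exact this.symm
  have hy' : (Scheme.ΓSpecIso (CommRingCat.of A)).hom y ∈ I := by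
    rw [← Ideal.Quotient.eq_zero_iff_mem]
    have := congr(($hnat).hom y)
    simp only [CommRingCat.hom_comp, RingHom.comp_apply] at this
    rw [← ht, RingHom.mem_ker.mp hy, map_zero] at this
    exact this.symm
  have hxy : (Scheme.ΓSpecIso (CommRingCat.of A)).hom (x * y) = 0 := by
    rw [map_mul]
    have : (Scheme.ΓSpecIso (CommRingCat.of A)).hom x * (Scheme.ΓSpecIso (CommRingCat.of A)).hom y
        ∈ I ^ 2 := by
      rw [pow_two]; exact Ideal.mul_mem_mul hx' hy'
    rwa [hI, Ideal.mem_bot] at this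
  rw [Ideal.mem_bot]
  have hinj : Function.Injective (Scheme.ΓSpecIso (CommRingCat.of A)).hom :=
    (ConcreteCategory.bijective_of_isIso (Scheme.ΓSpecIso (CommRingCat.of A)).hom).1
  exact hinj (by rw [hxy, map_zero])

/-- A square-zero surjective closed immersion of schemes over `S` with affine target is a first
order thickening in the sense of `AlgSp.IsFOThickMor`. -/
theorem isFOThickMor_yon_map {T T' : Over S} (j : T ⟶ T') (hT' : IsAffine T'.left)
    (h1 : thick j.left) (h2 : sqZero j.left) : IsFOThickMor ((yon S).map j) := by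
  refine ⟨(isThickMor_yon_map_iff j).2 h1, ?_⟩
  intro V W b fst snd hV hb sq
  obtain ⟨b₀, rfl⟩ := (yon S).map_surjective b
  obtain ⟨fst₀, rfl⟩ := (yon S).map_surjective fst
  have sq' : IsPullback fst₀ snd j b₀ :=
    IsPullback.of_map (yon S) ((yon S).map_injective (by
      rw [Functor.map_comp, Functor.map_comp]; exact sq.w)) sq
  have sq'' := sq'.map (Over.forget S)
  have : IsClosedImmersion j.left := h1.1
  exact sqZero_of_isPullback_of_isAffine j.left h2 b₀.left fst₀.left snd.left sq''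

/-- The closed immersion of a lifting square is a first order thickening. -/
theorem isFOThickMor_infSq_j {F G : Sp S} {f : F ⟶ G} (sq : InfSq f) :
    IsFOThickMor ((yon S).map sq.j) := by
  refine isFOThickMor_yon_map sq.j (by dsimp; infer_instance) ⟨?_, ?_⟩ ?_
  · exact IsClosedImmersion.spec_of_surjective _ Ideal.Quotient.mk_surjective
  · exact ⟨Groth.Agent.H8.specMap_quotientMk_surjective sq.I sq.sq_zero⟩
  · exact sqZero_specMap_quotientMk sq.I sq.sq_zero

/-- If `a` is representable, etale and surjective and `a ≫ b` is formally unramified, then `b` is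
formally unramified. -/
theorem isFormallyUnramifiedMor_of_comp {F G H : Sp S} (a : F ⟶ G) (b : G ⟶ H)
    (ha : RepWith @Etale a) (ha' : RepWith @Surjective a)
    (hab : IsFormallyUnramifiedMor (a ≫ b)) : IsFormallyUnramifiedMor b := by
  intro sq l l' h1 h2 h3 h4
  have P := ha.rep.isPullback l
  have hπ1 : Etale (ha.rep.snd l).left := ha.property_snd l
  have hπ2 : Surjective (ha.rep.snd l).left := ha'.property _ _ _ P
  have hβ : RepWith @Etale ((yon S).map (ha.rep.snd l)) := (repWith_yon_map_iff _ _).2 hπ1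
  have hβ' : RepWith @Surjective ((yon S).map (ha.rep.snd l)) := (repWith_yon_map_iff _ _).2 hπ2
  have : Epi ((yon S).map (ha.rep.snd l)) := epi_of_repWith_etale_surjective _ hβ hβ'
  have hrep := representable_yon_map sq.j
  have Q := hrep.isPullback ((yon S).map (ha.rep.snd l))
  have hthick₀ := isFOThickMor_of_isPullback_chart (isFOThickMor_infSq_j sq) hβ Q
  have hV := IsAlgSpace.yon_obj (ha.rep.pullback l)
  have e1 : (yon S).map (hrep.snd ((yon S).map (ha.rep.snd l))) ≫ (yon S).map (ha.rep.snd l) ≫ l =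
      hrep.fst ((yon S).map (ha.rep.snd l)) ≫ sq.top := by
    rw [← Category.assoc, ← Q.w, Category.assoc, h1]
  have e2 : (yon S).map (hrep.snd ((yon S).map (ha.rep.snd l))) ≫ (yon S).map (ha.rep.snd l) ≫ l' =
      hrep.fst ((yon S).map (ha.rep.snd l)) ≫ sq.top := by
    rw [← Category.assoc, ← Q.w, Category.assoc, h3]
  obtain ⟨v', hv1, hv2⟩ := thick_lift_exists a (isFormallyEtaleMor_of_repWith_etale a ha) _ hthick₀ hV
    ((yon S).map (hrep.snd ((yon S).map (ha.rep.snd l))) ≫ ha.rep.fst l)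
    ((yon S).map (ha.rep.snd l) ≫ l') (by rw [Category.assoc, P.w, e1, e2])
  have hvv : ha.rep.fst l = v' := thick_lift_unique (a ≫ b) hab _ hthick₀ hV
    ((yon S).map (hrep.snd ((yon S).map (ha.rep.snd l))) ≫ ha.rep.fst l)
    ((yon S).map (ha.rep.snd l) ≫ sq.bot) _ _ rfl
    (by rw [← Category.assoc, P.w, Category.assoc, h2]) hv1
    (by rw [← Category.assoc, hv2, Category.assoc, h4])
  rw [← cancel_epi ((yon S).map (ha.rep.snd l)), ← P.w, hvv, hv2]

end Groth.Agent.H53
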