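import Groth.Agent.H53.Glue
import Groth.Agent.H53.Charts
import Groth.Agent.H8.FormallyEtale
import Groth.Prelude.Def_AlgSpInf

universe u
open CategoryTheory CategoryTheory.Limits AlgebraicGeometry Opposite AlgSp

namespace Groth.Agent.H53

variable {S : Scheme.{u}}

set_option backward.isDefEq.respectTransparency false in
/-- Any square-zero closed immersion `i : W ⟶ Z` over `S` into an affine scheme is isomorphic over
`S` to a standard pair `Spec (A ⧸ I) ⟶ Spec A`; lifting problems along `i` are lifting squares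
`InfSq`. -/
theorem exists_infSq {F G : Sp S} (f : F ⟶ G) {Z W : Over S} (i : W ⟶ Z) (hZ : IsAffine Z.left)
    (hi : IsClosedImmersion i.left) (hsq : i.left.ker * i.left.ker = ⊥)
    (top : (yon S).obj W ⟶ F) (bot : (yon S).obj Z ⟶ G) (comm : top ≫ f = (yon S).map i ≫ bot) :
    ∃ (sq : InfSq f) (eZ : sq.ptT' ≅ Z) (eW : sq.ptT ≅ W), sq.j ≫ eZ.hom = eW.hom ≫ i ∧
      sq.top = (yon S).map eW.hom ≫ top ∧ sq.bot = (yon S).map eZ.hom ≫ bot := by
  obtain ⟨hW, hsurj⟩ := IsClosedImmersion.isAffine_surjective_of_isAffine i.left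
  let φ : Γ(Z.left, ⊤) →+* Γ(W.left, ⊤) := i.left.appTop.hom
  let I : Ideal Γ(Z.left, ⊤) := RingHom.ker φ
  have hI : I ^ 2 = ⊥ := Groth.Agent.H8.ker_appTop_sq_eq_bot i.left hsq
  let e : (Γ(Z.left, ⊤) ⧸ I) ≃+* Γ(W.left, ⊤) := RingHom.quotientKerEquivOfSurjective hsurj
  have he1 : CommRingCat.ofHom (Ideal.Quotient.mk I) ≫ CommRingCat.ofHom e.toRingHom =
      i.left.appTop := by
    ext x
    rfl
  have he2 : CommRingCat.ofHom e.toRingHom ≫ CommRingCat.ofHom e.symm.toRingHom = 𝟙 _ := by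
    ext x
    exact e.symm_apply_apply x
  have he3 : CommRingCat.ofHom e.symm.toRingHom ≫ CommRingCat.ofHom e.toRingHom = 𝟙 _ := by
    ext x
    exact e.apply_symm_apply x
  have hS1 : Spec.map (CommRingCat.ofHom e.symm.toRingHom) ≫
      Spec.map (CommRingCat.ofHom e.toRingHom) = 𝟙 _ := by
    rw [← Spec.map_comp, he2, Spec.map_id]
  have hS3 : Spec.map (CommRingCat.ofHom e.toRingHom) ≫
      Spec.map (CommRingCat.ofHom e.symm.toRingHom) = 𝟙 _ := by
    rw [← Spec.map_comp, he3, Spec.map_id]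
  have hS2 : Spec.map i.left.appTop = Spec.map (CommRingCat.ofHom e.toRingHom) ≫
      Spec.map (CommRingCat.ofHom (Ideal.Quotient.mk I)) := by
    rw [← Spec.map_comp, he1]
  have hnat : W.left.isoSpec.inv ≫ i.left = Spec.map i.left.appTop ≫ Z.left.isoSpec.inv :=
    (Scheme.isoSpec_inv_naturality i.left).symm
  let str : Spec (.of Γ(Z.left, ⊤)) ⟶ S := Z.left.isoSpec.inv ≫ Z.hom
  let eZ : Over.mk str ≅ Z := Over.isoMk Z.left.isoSpec.symm rfl
  let eWs : Spec (.of (Γ(Z.left, ⊤) ⧸ I)) ≅ W.left :=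
    { hom := Spec.map (CommRingCat.ofHom e.symm.toRingHom) ≫ W.left.isoSpec.inv
      inv := W.left.isoSpec.hom ≫ Spec.map (CommRingCat.ofHom e.toRingHom)
      hom_inv_id := by
        rw [Category.assoc, Iso.inv_hom_id_assoc, hS1]
      inv_hom_id := by
        rw [Category.assoc, reassoc_of% hS3, Iso.hom_inv_id] }
  have hkey : eWs.hom ≫ i.left =
      Spec.map (CommRingCat.ofHom (Ideal.Quotient.mk I)) ≫ Z.left.isoSpec.inv := by
    change (Spec.map (CommRingCat.ofHom e.symm.toRingHom) ≫ W.left.isoSpec.inv) ≫ i.left = _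
    rw [Category.assoc, hnat, hS2]
    simp only [Category.assoc]
    rw [reassoc_of% hS1]
  let eW : Over.mk (Spec.map (CommRingCat.ofHom (Ideal.Quotient.mk I)) ≫ str) ≅ W :=
    Over.isoMk eWs (by
      change eWs.hom ≫ W.hom = Spec.map (CommRingCat.ofHom (Ideal.Quotient.mk I)) ≫ str
      rw [← Over.w i, reassoc_of% hkey])
  have hj : (Over.homMk (Spec.map (CommRingCat.ofHom (Ideal.Quotient.mk I))) rfl :
      Over.mk (Spec.map (CommRingCat.ofHom (Ideal.Quotient.mk I)) ≫ str) ⟶ Over.mk str) ≫ eZ.hom =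
      eW.hom ≫ i := by
    ext
    exact hkey.symm
  refine ⟨{ A := Γ(Z.left, ⊤), I := I, sq_zero := hI, str := str,
            top := (yon S).map eW.hom ≫ top, bot := (yon S).map eZ.hom ≫ bot,
            comm := ?_ }, eZ, eW, hj, rfl, rfl⟩
  have hj' := congrArg (fun k => (yon S).map k) hj
  simp only [Functor.map_comp] at hj'
  rw [Category.assoc, comm]
  exact ((reassoc_of% hj') bot).symm

/-- Uniqueness of lifts for a formally unramified morphism along an arbitrary square-zero closed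
immersion into an affine scheme. -/
theorem lift_unique_of_formallyUnramified {F G : Sp S} (f : F ⟶ G)
    (hf : IsFormallyUnramifiedMor f) {Z W : Over S} (i : W ⟶ Z) (hZ : IsAffine Z.left)
    (hi : IsClosedImmersion i.left) (hsq : i.left.ker * i.left.ker = ⊥)
    (top : (yon S).obj W ⟶ F) (bot : (yon S).obj Z ⟶ G) (l l' : (yon S).obj Z ⟶ F)
    (h1 : (yon S).map i ≫ l = top) (h2 : l ≫ f = bot)
    (h3 : (yon S).map i ≫ l' = top) (h4 : l' ≫ f = bot) : l = l' := by
  have comm : top ≫ f = (yon S).map i ≫ bot := by rw [← h1, Category.assoc, h2]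
  obtain ⟨sq, eZ, eW, hj, htop, hbot⟩ := exists_infSq f i hZ hi hsq top bot comm
  have hj' := congrArg (fun k => (yon S).map k) hj
  simp only [Functor.map_comp] at hj'
  have key := hf sq ((yon S).map eZ.hom ≫ l) ((yon S).map eZ.hom ≫ l')
    (by rw [reassoc_of% hj', h1, htop]) (by rw [Category.assoc, h2, hbot])
    (by rw [reassoc_of% hj', h3, htop]) (by rw [Category.assoc, h4, hbot])
  have : IsIso ((yon S).map eZ.hom) := inferInstance
  exact (cancel_epi ((yon S).map eZ.hom)).1 key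

/-- Existence of lifts for a formally smooth morphism along an arbitrary square-zero closed
immersion into an affine scheme. -/
theorem lift_exists_of_formallySmooth {F G : Sp S} (f : F ⟶ G)
    (hf : IsFormallySmoothMor f) {Z W : Over S} (i : W ⟶ Z) (hZ : IsAffine Z.left)
    (hi : IsClosedImmersion i.left) (hsq : i.left.ker * i.left.ker = ⊥)
    (top : (yon S).obj W ⟶ F) (bot : (yon S).obj Z ⟶ G) (comm : top ≫ f = (yon S).map i ≫ bot) :
    ∃ l : (yon S).obj Z ⟶ F, (yon S).map i ≫ l = top ∧ l ≫ f = bot := by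
  obtain ⟨sq, eZ, eW, hj, htop, hbot⟩ := exists_infSq f i hZ hi hsq top bot comm
  have hj' := congrArg (fun k => (yon S).map k) hj
  simp only [Functor.map_comp] at hj'
  obtain ⟨l₀, hl1, hl2⟩ := hf sq
  have hj'' : (yon S).map i ≫ (yon S).map eZ.inv = (yon S).map eW.inv ≫ (yon S).map sq.j := by
    rw [← Functor.map_comp, ← Functor.map_comp]
    congr 1
    rw [Iso.comp_inv_eq, Category.assoc, hj, Iso.inv_hom_id_assoc]
  refine ⟨(yon S).map eZ.inv ≫ l₀, ?_, ?_⟩
  · rw [reassoc_of% hj'', hl1, htop, ← Category.assoc, ← Functor.map_comp, Iso.inv_hom_id,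
      CategoryTheory.Functor.map_id, Category.id_comp]
  · rw [Category.assoc, hl2, hbot, ← Category.assoc, ← Functor.map_comp, Iso.inv_hom_id,
      CategoryTheory.Functor.map_id, Category.id_comp]

theorem isFormallyUnramifiedMor_of_isFormallyEtaleMor {F G : Sp S} {f : F ⟶ G}
    (hf : IsFormallyEtaleMor f) : IsFormallyUnramifiedMor f := by
  intro sq l l' h1 h2 h3 h4
  obtain ⟨l₀, _, hu⟩ := hf sq
  rw [hu l ⟨h1, h2⟩, hu l' ⟨h3, h4⟩]

theorem isFormallySmoothMor_of_isFormallyEtaleMor {F G : Sp S} {f : F ⟶ G}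
    (hf : IsFormallyEtaleMor f) : IsFormallySmoothMor f := by
  intro sq
  obtain ⟨l₀, h, _⟩ := hf sq
  exact ⟨l₀, h⟩

theorem isFormallyEtaleMor_of_smooth_of_unramified {F G : Sp S} {f : F ⟶ G}
    (h1 : IsFormallySmoothMor f) (h2 : IsFormallyUnramifiedMor f) : IsFormallyEtaleMor f := by
  intro sq
  obtain ⟨l₀, h⟩ := h1 sq
  exact ⟨l₀, h, fun l' h' => h2 sq l' l₀ h'.1 h'.2 h.1 h.2⟩

/-- `m` is a solution on the chart `β : h_Z ⟶ T'` of the lifting problem `(f, j, a, b)`. -/
def IsChartLift {X Y T T' : Sp S} (f : X ⟶ Y) (j : T ⟶ T') (a : T ⟶ X) (b : T' ⟶ Y) {Z : Over S}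
    (β : (yon S).obj Z ⟶ T') (m : (yon S).obj Z ⟶ X) : Prop :=
  m ≫ f = β ≫ b ∧ ∀ (V : Over S) (p : (yon S).obj V ⟶ T) (q : V ⟶ Z),
    p ≫ j = (yon S).map q ≫ β → (yon S).map q ≫ m = p ≫ a

theorem IsChartLift.restrict {X Y T T' : Sp S} {f : X ⟶ Y} {j : T ⟶ T'} {a : T ⟶ X} {b : T' ⟶ Y}
    {Z : Over S} {β : (yon S).obj Z ⟶ T'} {m : (yon S).obj Z ⟶ X} (h : IsChartLift f j a b β m)
    {Z' : Over S} (g : Z' ⟶ Z) :
    IsChartLift f j a b ((yon S).map g ≫ β) ((yon S).map g ≫ m) := by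
  refine ⟨by rw [Category.assoc, h.1, Category.assoc], fun V p q hpq => ?_⟩
  rw [← Category.assoc, ← Functor.map_comp]
  exact h.2 V p (q ≫ g) (by rw [hpq, Functor.map_comp, Category.assoc])

theorem isChartLift_of_lift {X Y T T' : Sp S} {f : X ⟶ Y} {j : T ⟶ T'} {a : T ⟶ X} {b : T' ⟶ Y}
    (l : T' ⟶ X) (h1 : j ≫ l = a) (h2 : l ≫ f = b) {Z : Over S} (β : (yon S).obj Z ⟶ T') :
    IsChartLift f j a b β (β ≫ l) := by
  refine ⟨by rw [Category.assoc, h2], fun V p q hpq => ?_⟩
  rw [← Category.assoc, ← hpq, Category.assoc, h1]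

theorem IsChartLift.unique {X Y T T' : Sp S} {f : X ⟶ Y} {j : T ⟶ T'} {a : T ⟶ X} {b : T' ⟶ Y}
    (hf : IsFormallyUnramifiedMor f) (hj : IsFOThickMor j)
    {Z : Over S} (hZ : IsAffine Z.left) {β : (yon S).obj Z ⟶ T'} (hβ : RepWith @Etale β)
    {m m' : (yon S).obj Z ⟶ X} (h : IsChartLift f j a b β m) (h' : IsChartLift f j a b β m') :
    m = m' := by
  have sq := hj.1.rep.isPullback β
  have h1 : thick (hj.1.rep.snd β).left := hj.1.property_snd β
  have h2 : sqZero (hj.1.rep.snd β).left := hj.2 β _ _ hZ hβ sq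
  exact lift_unique_of_formallyUnramified f hf (hj.1.rep.snd β) hZ h1.1 h2
    (hj.1.rep.fst β ≫ a) (β ≫ b) m m' (h.2 _ _ _ sq.w) h.1 (h'.2 _ _ _ sq.w) h'.1

theorem exists_isChartLift {X Y T T' : Sp S} {f : X ⟶ Y} {j : T ⟶ T'} {a : T ⟶ X} {b : T' ⟶ Y}
    (hf : IsFormallySmoothMor f) (hj : IsFOThickMor j) (w : a ≫ f = j ≫ b)
    {Z : Over S} (hZ : IsAffine Z.left) {β : (yon S).obj Z ⟶ T'} (hβ : RepWith @Etale β) :
    ∃ m : (yon S).obj Z ⟶ X, IsChartLift f j a b β m := by
  have sq := hj.1.rep.isPullback β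
  have h1 : thick (hj.1.rep.snd β).left := hj.1.property_snd β
  have h2 : sqZero (hj.1.rep.snd β).left := hj.2 β _ _ hZ hβ sq
  obtain ⟨m, hm1, hm2⟩ := lift_exists_of_formallySmooth f hf (hj.1.rep.snd β) hZ h1.1 h2
    (hj.1.rep.fst β ≫ a) (β ≫ b) (by rw [Category.assoc, w, ← Category.assoc, sq.w, Category.assoc])
  refine ⟨m, hm2, fun V p q hpq => ?_⟩
  have e1 : sq.lift p ((yon S).map q) hpq ≫ hj.1.rep.fst β = p := sq.lift_fst _ _ _
  have e2 : sq.lift p ((yon S).map q) hpq ≫ (yon S).map (hj.1.rep.snd β) = (yon S).map q :=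
    sq.lift_snd _ _ _
  rw [← e2, Category.assoc, hm1, ← Category.assoc, e1]

/-- The affine opens of an atlas of `T'`, as etale charts. -/
theorem exists_affine_etale_family {T' : Sp S} (hT' : IsAlgSpace T') :
    ∃ (ι : Type u) (Z : ι → Over S) (β : ∀ i, (yon S).obj (Z i) ⟶ T'),
      (∀ i, IsAffine (Z i).left) ∧ (∀ i, RepWith @Etale (β i)) ∧
      ∀ (V : Over S) (t : (yon S).obj V ⟶ T'), ∃ R : Sieve V, R ∈ J S V ∧
        ∀ ⦃W : Over S⦄ (w : W ⟶ V), R w →
          ∃ (i : ι) (g : W ⟶ Z i), (yon S).map g ≫ β i = (yon S).map w ≫ t := by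
  obtain ⟨U, c, hc1, hc2⟩ := hT'.atlas
  have : Epi c := epi_of_repWith_etale_surjective c hc1 hc2
  refine ⟨U.left.affineCover.I₀, fun i => overOf U (U.left.affineCover.f i),
    fun i => (yon S).map (overHom U (U.left.affineCover.f i)) ≫ c,
    fun i => Scheme.isAffine_affineCover U.left i,
    fun i => repWith_etale_map_comp _
      (by change Etale (U.left.affineCover.f i); infer_instance) c hc1,
    fun V t => cover_of_atlas c U.left.affineCover V t⟩

/-- Uniqueness of lifts along a first order thickening into an algebraic space, for a formally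
unramified morphism of sheaves. -/
theorem thick_lift_unique {X Y T T' : Sp S} (f : X ⟶ Y) (hf : IsFormallyUnramifiedMor f)
    (j : T ⟶ T') (hj : IsFOThickMor j) (hT' : IsAlgSpace T') (a : T ⟶ X) (b : T' ⟶ Y)
    (l l' : T' ⟶ X) (h1 : j ≫ l = a) (h2 : l ≫ f = b) (h3 : j ≫ l' = a) (h4 : l' ≫ f = b) :
    l = l' := by
  obtain ⟨ι, Z, β, hZ, hβ, hcov⟩ := exists_affine_etale_family hT'
  refine hom_ext_of_family Z β hcov l l' fun i => ?_
  exact IsChartLift.unique hf hj (hZ i) (hβ i) (isChartLift_of_lift l h1 h2 (β i))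
    (isChartLift_of_lift l' h3 h4 (β i))

/-- Existence of lifts along a first order thickening into an algebraic space, for a formally
etale morphism of sheaves. -/
theorem thick_lift_exists {X Y T T' : Sp S} (f : X ⟶ Y) (hf : IsFormallyEtaleMor f)
    (j : T ⟶ T') (hj : IsFOThickMor j) (hT' : IsAlgSpace T') (a : T ⟶ X) (b : T' ⟶ Y)
    (w : a ≫ f = j ≫ b) : ∃ l : T' ⟶ X, j ≫ l = a ∧ l ≫ f = b := by
  have hfu := isFormallyUnramifiedMor_of_isFormallyEtaleMor hf
  have hfs := isFormallySmoothMor_of_isFormallyEtaleMor hf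
  obtain ⟨ι, Z, β, hZ, hβ, hcov⟩ := exists_affine_etale_family hT'
  choose m hm using fun i => exists_isChartLift hfs hj w (hZ i) (hβ i)
  obtain ⟨L, hL⟩ := desc_of_family Z β hcov m (by
    intro W i i' g₁ g₂ hg
    obtain ⟨R, p, q, sq⟩ := exists_pullback_yon (β i) (β i') (hβ i').rep
    have hp : Etale p.left := prop_of_isPullback_yon sq (hβ i')
    have key : (yon S).map p ≫ m i = (yon S).map q ≫ m i' := by
      refine yon_hom_ext_of_cover _ _ (openCoverToFppf R.left.affineCover) fun k => ?_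
      have hk : RepWith @Etale ((yon S).map (overHom R (R.left.affineCover.f k)) ≫
          (yon S).map p ≫ β i) := by
        rw [← Category.assoc, ← Functor.map_comp]
        refine repWith_etale_map_comp _ ?_ _ (hβ i)
        change Etale (R.left.affineCover.f k ≫ p.left)
        infer_instance
      have c1 := ((hm i).restrict p).restrict (overHom R (R.left.affineCover.f k))
      have c2 := ((hm i').restrict q).restrict (overHom R (R.left.affineCover.f k))
      rw [← sq.w] at c2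
      exact IsChartLift.unique hfu hj (Scheme.isAffine_affineCover R.left k) hk c1 c2
    obtain ⟨k, e1, e2⟩ : ∃ k, k ≫ (yon S).map p = (yon S).map g₁ ∧ k ≫ (yon S).map q = (yon S).map g₂ :=
      ⟨sq.lift _ _ hg, sq.lift_fst _ _ _, sq.lift_snd _ _ _⟩
    rw [← e1, ← e2, Category.assoc, Category.assoc, key])
  refine ⟨L, ?_, ?_⟩
  · refine sp_hom_ext fun V p => ?_
    obtain ⟨R, hR, hlift⟩ := hcov V (p ≫ j)
    refine yon_hom_ext_of_sieve _ _ R hR fun W w' hw' => ?_
    obtain ⟨i, g, hg⟩ := hlift w' hw'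
    have h1 := (hm i).2 W ((yon S).map w' ≫ p) g (by rw [Category.assoc, hg])
    rw [← Category.assoc p, ← Category.assoc, ← hg, Category.assoc, hL, h1, Category.assoc]
  · refine hom_ext_of_family Z β hcov _ _ fun i => ?_
    rw [← Category.assoc, hL, (hm i).1]

theorem isChartLift_iff_of_isPullback {X Y T T' : Sp S} {f : X ⟶ Y} {j : T ⟶ T'} {a : T ⟶ X}
    {b : T' ⟶ Y} {Z W : Over S} {β : (yon S).obj Z ⟶ T'} {fst : (yon S).obj W ⟶ T} {snd : W ⟶ Z}
    (sq : IsPullback fst ((yon S).map snd) j β) (m : (yon S).obj Z ⟶ X) :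
    IsChartLift f j a b β m ↔ ((yon S).map snd ≫ m = fst ≫ a ∧ m ≫ f = β ≫ b) := by
  constructor
  · intro h
    exact ⟨h.2 _ _ _ sq.w, h.1⟩
  · rintro ⟨h1, h2⟩
    refine ⟨h2, fun V p q hpq => ?_⟩
    obtain ⟨k, e1, e2⟩ : ∃ k, k ≫ fst = p ∧ k ≫ (yon S).map snd = (yon S).map q :=
      ⟨sq.lift _ _ hpq, sq.lift_fst _ _ _, sq.lift_snd _ _ _⟩
    rw [← e2, Category.assoc, h1, ← Category.assoc, e1]

/-- The pullback of a first order thickening to an etale chart (by a scheme) of its target is a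
first order thickening (of schemes). -/
theorem isFOThickMor_of_isPullback_chart {T T' : Sp S} {j : T ⟶ T'} (hj : IsFOThickMor j)
    {Z W : Over S} {β : (yon S).obj Z ⟶ T'} (hβ : RepWith @Etale β) {fst : (yon S).obj W ⟶ T}
    {snd : W ⟶ Z} (sq : IsPullback fst ((yon S).map snd) j β) : IsFOThickMor ((yon S).map snd) := by
  refine ⟨(repWith_yon_map_iff thick snd).2 (hj.1.property β fst snd sq), ?_⟩
  intro V W' b' fst' snd' hV hb' sq'
  exact hj.2 (b' ≫ β) (fst' ≫ fst) snd' hV ((RepWith @Etale).comp_mem _ _ hb' hβ)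
    (sq'.paste_horiz sq)

/-- Gluing solutions of a lifting problem along a thickening of algebraic spaces: if on every
affine etale chart of `T'` there is exactly one chart solution, there is exactly one global one. -/
theorem thick_lift_of_charts {X Y T T' : Sp S} (f : X ⟶ Y) (j : T ⟶ T') (hT' : IsAlgSpace T')
    (a : T ⟶ X) (b : T' ⟶ Y)
    (hex : ∀ (Z : Over S) (β : (yon S).obj Z ⟶ T'), IsAffine Z.left → RepWith @Etale β →
      ∃ m, IsChartLift f j a b β m)
    (huniq : ∀ (Z : Over S) (β : (yon S).obj Z ⟶ T'), IsAffine Z.left → RepWith @Etale β →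
      ∀ m m', IsChartLift f j a b β m → IsChartLift f j a b β m' → m = m') :
    ∃! l : T' ⟶ X, j ≫ l = a ∧ l ≫ f = b := by
  obtain ⟨ι, Z, β, hZ, hβ, hcov⟩ := exists_affine_etale_family hT'
  choose m hm using fun i => hex (Z i) (β i) (hZ i) (hβ i)
  obtain ⟨L, hL⟩ := desc_of_family Z β hcov m (by
    intro W i i' g₁ g₂ hg
    obtain ⟨R, p, q, sq⟩ := exists_pullback_yon (β i) (β i') (hβ i').rep
    have hp : Etale p.left := prop_of_isPullback_yon sq (hβ i')
    have key : (yon S).map p ≫ m i = (yon S).map q ≫ m i' := by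
      refine yon_hom_ext_of_cover _ _ (openCoverToFppf R.left.affineCover) fun k => ?_
      have hk : RepWith @Etale ((yon S).map (overHom R (R.left.affineCover.f k)) ≫
          (yon S).map p ≫ β i) := by
        rw [← Category.assoc, ← Functor.map_comp]
        refine repWith_etale_map_comp _ ?_ _ (hβ i)
        change Etale (R.left.affineCover.f k ≫ p.left)
        infer_instance
      have c1 := ((hm i).restrict p).restrict (overHom R (R.left.affineCover.f k))
      have c2 := ((hm i').restrict q).restrict (overHom R (R.left.affineCover.f k))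
      rw [← sq.w] at c2
      exact huniq _ _ (Scheme.isAffine_affineCover R.left k) hk _ _ c1 c2
    obtain ⟨k, e1, e2⟩ : ∃ k, k ≫ (yon S).map p = (yon S).map g₁ ∧ k ≫ (yon S).map q = (yon S).map g₂ :=
      ⟨sq.lift _ _ hg, sq.lift_fst _ _ _, sq.lift_snd _ _ _⟩
    rw [← e1, ← e2, Category.assoc, Category.assoc, key])
  refine ⟨L, ⟨?_, ?_⟩, ?_⟩
  · refine sp_hom_ext fun V p => ?_
    obtain ⟨R, hR, hlift⟩ := hcov V (p ≫ j)
    refine yon_hom_ext_of_sieve _ _ R hR fun W w' hw' => ?_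
    obtain ⟨i, g, hg⟩ := hlift w' hw'
    have h1 := (hm i).2 W ((yon S).map w' ≫ p) g (by rw [Category.assoc, hg])
    rw [← Category.assoc p, ← Category.assoc, ← hg, Category.assoc, hL, h1, Category.assoc]
  · refine hom_ext_of_family Z β hcov _ _ fun i => ?_
    rw [← Category.assoc, hL, (hm i).1]
  · rintro L' ⟨h1, h2⟩
    refine hom_ext_of_family Z β hcov _ _ fun i => ?_
    rw [hL]
    exact huniq _ _ (hZ i) (hβ i) _ _ (isChartLift_of_lift L' h1 h2 (β i)) (hm i)

end Groth.Agent.H53
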