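import Groth.Agent.H53.ThickFlat3
import Groth.Agent.H53.PowZero
import Groth.Agent.H51.EtSource

/-! Lifting of local properties along finite order thickenings of the base, for a flat total
space (three-level chart transfer, generic in the property). -/

set_option autoImplicit false
universe u

open CategoryTheory CategoryTheory.Limits AlgebraicGeometry Opposite
open AlgSp

namespace Groth.Agent.H53

variable {S : Scheme.{u}}

/-- The scheme-level deformation statement for a property `P`. -/
def Deforms (P : MorphismProperty Scheme.{u}) : Prop :=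
  ∀ {X X' Y Y' S S' : Scheme.{u}} (iX : X ⟶ X') (iY : Y ⟶ Y') (iS : S ⟶ S')
    (f : X ⟶ Y) (f' : X' ⟶ Y') (g : Y ⟶ S) (g' : Y' ⟶ S'),
    MoreMor.IsFiniteOrderThickening iS → IsPullback iX (f ≫ g) (f' ≫ g') iS →
    IsPullback iY g g' iS → iX ≫ f' = f ≫ iY → Flat (f' ≫ g') → P f → P f'

/-- A property of morphisms of schemes can be checked on etale neighbourhoods of the points of
the source, provided it is Zariski local on the source and descends along surjective etale
maps. -/
theorem of_forall_exists_etale_nbhd {P : MorphismProperty Scheme.{u}} [IsZariskiLocalAtSource P]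
    (hP : ∀ {A B C : Scheme.{u}} (e : A ⟶ B) (h : B ⟶ C), Etale e → Surjective e →
      P (e ≫ h) → P h)
    {X Y : Scheme.{u}} (f : X ⟶ Y)
    (H : ∀ x : X, ∃ (U : Scheme.{u}) (g : U ⟶ X), Etale g ∧ x ∈ Set.range g ∧ P (g ≫ f)) :
    P f := by
  let R : Presieve X := fun T pT => Etale pT ∧ P (pT ≫ f)
  refine Groth.Agent.H51.of_forall_comp_of_mem_etalePrecoverage hP f R ⟨?_, fun _ _ hg => hg.1⟩
    (fun U g hg => hg.2)
  rw [Scheme.jointlySurjectivePrecoverage, Presieve.mem_comap_jointlySurjectivePrecoverage_iff]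
  intro x
  obtain ⟨U, g, h1, ⟨y, hy⟩, h3⟩ := H x
  exact ⟨U, g, ⟨h1, h3⟩, y, hy⟩

variable {X X' Y Y' B B' : Sp S} {iX : X ⟶ X'} {iY : Y ⟶ Y'} {iB : B ⟶ B'} {f : X ⟶ Y}
  {f' : X' ⟶ Y'} {g : Y ⟶ B} {g' : Y' ⟶ B'}

/-- Local form of the lifting of a deforming property along a finite order thickening of the
base. -/
theorem exists_local_of_finThick {P : MorphismProperty Scheme.{u}} (hdef : Deforms P)
    (hB' : IsAlgSpace B')
    (hcX : IsPullback iX (f ≫ g) (f' ≫ g') iB) (hcY : IsPullback iY g g' iB)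
    (w : iX ≫ f' = f ≫ iY) (hB : IsFinThickMor iB) (hflat : LocP @Flat (f' ≫ g'))
    (hf : LocP P f)
    {U' V' : Over S} (a' : (yon S).obj U' ⟶ X') (b' : (yon S).obj V' ⟶ Y') (h' : U' ⟶ V')
    (ha' : RepWith @Etale a') (hb' : RepWith @Etale b') (hcomm : a' ≫ f' = (yon S).map h' ≫ b')
    (u' : ↥U'.left) :
    ∃ (U'' V'' : Scheme.{u}) (pU : U'' ⟶ U'.left) (pV : V'' ⟶ V'.left) (h'' : U'' ⟶ V''),
      Etale pU ∧ Etale pV ∧ u' ∈ Set.range pU ∧ pU ≫ h'.left = h'' ≫ pV ∧ P h'' := by
  obtain ⟨n, hthick, hpow⟩ := hB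
  obtain ⟨W', c, w₀, hW'aff, hce, hcw⟩ :=
    exists_affine_chart_at hB' (Points.ofPt (a' ≫ f' ≫ g') u')
  -- the charts over `W'`
  obtain ⟨U'', pU, rU, sqU''⟩ := exists_pullback_yon (a' ≫ f' ≫ g') c hce.rep
  obtain ⟨V'', pV, rV, sqV''⟩ := exists_pullback_yon (b' ≫ g') c hce.rep
  have hpU : Etale pU.left := prop_of_isPullback_yon sqU'' hce
  have hpV : Etale pV.left := prop_of_isPullback_yon sqV'' hce
  obtain ⟨u'', hu''1, -⟩ := exists_pt_of_isPullback_yon sqU'' u' w₀ hcw.symm
  -- the induced morphism `h''`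
  have hw'' : (yon S).map (pU ≫ h') ≫ b' ≫ g' = (yon S).map rU ≫ c := by
    rw [Functor.map_comp, Category.assoc, ← Category.assoc ((yon S).map h'), ← hcomm,
      Category.assoc, sqU''.w]
  obtain ⟨k'', hk''1, hk''2⟩ := sqV''.exists_lift _ _ hw''
  obtain ⟨h'', rfl⟩ := (yon S).map_surjective k''
  have hh''1 : h'' ≫ pV = pU ≫ h' := (yon S).map_injective (by rw [Functor.map_comp]; exact hk''1)
  have hh''2 : h'' ≫ rV = rU := (yon S).map_injective (by rw [Functor.map_comp]; exact hk''2)
  -- base change to `B`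
  have hiX : IsThickMor iX := isThickMor_of_isPullback hcX.flip hthick
  have hiY : IsThickMor iY := isThickMor_of_isPullback hcY.flip hthick
  have hae : RepWith @Etale ((yon S).map pU ≫ a') := repWith_etale_map_comp pU hpU a' ha'
  have hbe : RepWith @Etale ((yon S).map pV ≫ b') := repWith_etale_map_comp pV hpV b' hb'
  obtain ⟨W, fW, iW, sqW, hiW⟩ : ∃ (W : Over S) (fW : (yon S).obj W ⟶ B) (iW : W ⟶ W'),
      IsPullback fW ((yon S).map iW) iB c ∧ thick iW.left :=
    ⟨_, _, _, hthick.rep.isPullback c, hthick.property_snd c⟩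
  have hpowW : powZero n iW.left := hpow c fW iW hW'aff hce sqW
  obtain ⟨U, fU, iU, sqU, hiU, hUe⟩ : ∃ (U : Over S) (fU : (yon S).obj U ⟶ X) (iU : U ⟶ U''),
      IsPullback fU ((yon S).map iU) iX ((yon S).map pU ≫ a') ∧ thick iU.left ∧
        RepWith @Etale fU :=
    ⟨_, _, _, hiX.rep.isPullback _, hiX.property_snd _,
      MorphismProperty.of_isPullback (hiX.rep.isPullback _).flip hae⟩
  obtain ⟨V, fV, iV, sqV, hiV, hVe⟩ : ∃ (V : Over S) (fV : (yon S).obj V ⟶ Y) (iV : V ⟶ V''),
      IsPullback fV ((yon S).map iV) iY ((yon S).map pV ≫ b') ∧ thick iV.left ∧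
        RepWith @Etale fV :=
    ⟨_, _, _, hiY.rep.isPullback _, hiY.property_snd _,
      MorphismProperty.of_isPullback (hiY.rep.isPullback _).flip hbe⟩
  -- the morphism `h : U ⟶ V`
  have hwV : (fU ≫ f) ≫ iY = (yon S).map (iU ≫ h'') ≫ ((yon S).map pV ≫ b') := by
    rw [Category.assoc, ← w, ← Category.assoc, sqU.w, Category.assoc, Category.assoc, hcomm,
      Functor.map_comp, Category.assoc, ← Category.assoc ((yon S).map h''), ← Functor.map_comp,
      hh''1, Functor.map_comp, Category.assoc]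
  obtain ⟨kh, hkh1, hkh2⟩ := sqV.exists_lift _ _ hwV
  obtain ⟨h, rfl⟩ := (yon S).map_surjective kh
  -- the morphism `r : V ⟶ W`
  have hwW : (fV ≫ g) ≫ iB = (yon S).map (iV ≫ rV) ≫ c := by
    rw [Category.assoc, ← hcY.w, ← Category.assoc, sqV.w, Category.assoc, Category.assoc,
      sqV''.w, Functor.map_comp, Category.assoc]
  obtain ⟨kr, hkr1, hkr2⟩ := sqW.exists_lift _ _ hwW
  obtain ⟨r, rfl⟩ := (yon S).map_surjective kr
  -- the cartesian squares over `W ⟶ W'`
  have outerV : IsPullback (fV ≫ g) ((yon S).map iV) iB (((yon S).map pV ≫ b') ≫ g') :=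
    sqV.paste_horiz hcY.flip
  rw [Category.assoc, sqV''.w, ← hkr1] at outerV
  have leftV : IsPullback ((yon S).map r) ((yon S).map iV) ((yon S).map iW) ((yon S).map rV) :=
    IsPullback.of_right outerV (by rw [hkr2, Functor.map_comp]) sqW
  have outerU : IsPullback (fU ≫ f ≫ g) ((yon S).map iU) iB
      (((yon S).map pU ≫ a') ≫ f' ≫ g') := sqU.paste_horiz hcX.flip
  have etop : fU ≫ f ≫ g = (yon S).map (h ≫ r) ≫ fW := by
    rw [Functor.map_comp, Category.assoc, hkr1, ← Category.assoc ((yon S).map h), hkh1,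
      Category.assoc]
  rw [Category.assoc, sqU''.w, etop] at outerU
  have leftU : IsPullback ((yon S).map (h ≫ r)) ((yon S).map iU) ((yon S).map iW)
      ((yon S).map rU) := by
    refine IsPullback.of_right outerU ?_ sqW
    rw [Functor.map_comp, Category.assoc, hkr2, Functor.map_comp, ← Category.assoc, hkh2,
      Functor.map_comp, Category.assoc, ← Functor.map_comp, hh''2]
  have leftV' : IsPullback r iV iW rV :=
    IsPullback.of_map (yon S) ((yon S).map_injective (by
      rw [Functor.map_comp, Functor.map_comp]; exact leftV.w)) leftV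
  have leftU' : IsPullback (h ≫ r) iU iW rU :=
    IsPullback.of_map (yon S) ((yon S).map_injective (by
      rw [Functor.map_comp, Functor.map_comp]; exact leftU.w)) leftU
  have sV := (leftV'.map (Over.forget S)).flip
  have sU := (leftU'.map (Over.forget S)).flip
  -- inputs
  have hFh : P h.left := hf fU fV h hUe hVe hkh1.symm
  have hFr : Flat rU.left := hflat ((yon S).map pU ≫ a') c rU hae hce (by
    rw [Category.assoc]; exact sqU''.w)
  have hrU : rU.left = h''.left ≫ rV.left := by rw [← hh''2]; rfl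
  have hFr' : Flat (h''.left ≫ rV.left) := by rw [← hrU]; exact hFr
  have hw' : iU.left ≫ h''.left = h.left ≫ iV.left := by
    have := (yon S).map_injective (by rw [Functor.map_comp]; exact hkh2 : (yon S).map (h ≫ iV) =
      (yon S).map (iU ≫ h''))
    exact (congrArg (fun t => t.left) this).symm
  have hFO : MoreMor.IsFiniteOrderThickening iW.left :=
    isFiniteOrderThickening_of_thick_of_powZero _ n hiW hpowW
  have sU' : IsPullback iU.left (h.left ≫ r.left) (h''.left ≫ rV.left) iW.left := by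
    rw [← hrU]; exact sU
  have hFh'' : P h''.left :=
    hdef iU.left iV.left iW.left h.left h''.left r.left rV.left hFO sU' sV hw' hFr' hFh
  refine ⟨U''.left, V''.left, pU.left, pV.left, h''.left, hpU, hpV, ⟨u'', hu''1⟩, ?_, hFh''⟩
  exact (congrArg (fun t => t.left) hh''1).symm

/-- A deforming property which is etale local on the source and stable under postcomposition
with etale morphisms lifts along a finite order thickening of the base. -/
theorem locP_of_finThick_of_deforms {P : MorphismProperty Scheme.{u}} [IsZariskiLocalAtSource P]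
    (hdef : Deforms P)
    (hsrc : ∀ {A B C : Scheme.{u}} (e : A ⟶ B) (h : B ⟶ C), Etale e → Surjective e →
      P (e ≫ h) → P h)
    (hpost : ∀ {A B C : Scheme.{u}} (h : A ⟶ B) (e : B ⟶ C), Etale e → P h → P (h ≫ e))
    (hB' : IsAlgSpace B')
    (hcX : IsPullback iX (f ≫ g) (f' ≫ g') iB) (hcY : IsPullback iY g g' iB)
    (w : iX ≫ f' = f ≫ iY) (hB : IsFinThickMor iB) (hflat : LocP @Flat (f' ≫ g'))
    (hf : LocP P f) : LocP P f' := by
  intro U' V' a' b' h' ha' hb' hcomm
  refine of_forall_exists_etale_nbhd hsrc h'.left fun x => ?_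
  obtain ⟨U'', V'', pU, pV, h'', h1, h2, h3, h4, h5⟩ :=
    exists_local_of_finThick hdef hB' hcX hcY w hB hflat hf a' b' h' ha' hb' hcomm x
  refine ⟨U'', pU, h1, h3, ?_⟩
  rw [h4]
  exact hpost h'' pV h2 h5

end Groth.Agent.H53
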