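import Groth.Agent.H53.ThickDeform

/-! Lifting of local properties along arbitrary thickenings of the base, for a total space flat
and locally of finite presentation over the base and a middle space locally of finite type
(three-level chart transfer, generic in the property). -/

set_option autoImplicit false
universe u

open CategoryTheory CategoryTheory.Limits AlgebraicGeometry Opposite
open AlgSp

namespace Groth.Agent.H53

variable {S : Scheme.{u}}

/-- The scheme-level deformation statement for a property `P`, finitely presented version. -/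
def DeformsFP (P : MorphismProperty Scheme.{u}) : Prop :=
  ∀ {X X' Y Y' S S' : Scheme.{u}} (iX : X ⟶ X') (iY : Y ⟶ Y') (iS : S ⟶ S')
    (f : X ⟶ Y) (f' : X' ⟶ Y') (g : Y ⟶ S) (g' : Y' ⟶ S'),
    MoreMor.IsThickening iS → IsPullback iX (f ≫ g) (f' ≫ g') iS →
    IsPullback iY g g' iS → iX ≫ f' = f ≫ iY → Flat (f' ≫ g') →
    LocallyOfFinitePresentation (f' ≫ g') → LocallyOfFiniteType g' → P f → P f'

variable {X X' Y Y' B B' : Sp S} {iX : X ⟶ X'} {iY : Y ⟶ Y'} {iB : B ⟶ B'} {f : X ⟶ Y}
  {f' : X' ⟶ Y'} {g : Y ⟶ B} {g' : Y' ⟶ B'}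

/-- Local form of the lifting of a deforming property along a thickening of the base (finitely
presented case). -/
theorem exists_local_of_thick_fp {P : MorphismProperty Scheme.{u}} (hdef : DeformsFP P)
    (hB' : IsAlgSpace B')
    (hcX : IsPullback iX (f ≫ g) (f' ≫ g') iB) (hcY : IsPullback iY g g' iB)
    (w : iX ≫ f' = f ≫ iY) (hthick : IsThickMor iB) (hflat : LocP @Flat (f' ≫ g'))
    (hfp : LocP @LocallyOfFinitePresentation (f' ≫ g')) (hg' : LocP @LocallyOfFiniteType g')
    (hf : LocP P f)
    {U' V' : Over S} (a' : (yon S).obj U' ⟶ X') (b' : (yon S).obj V' ⟶ Y') (h' : U' ⟶ V')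
    (ha' : RepWith @Etale a') (hb' : RepWith @Etale b') (hcomm : a' ≫ f' = (yon S).map h' ≫ b')
    (u' : ↥U'.left) :
    ∃ (U'' V'' : Scheme.{u}) (pU : U'' ⟶ U'.left) (pV : V'' ⟶ V'.left) (h'' : U'' ⟶ V''),
      Etale pU ∧ Etale pV ∧ u' ∈ Set.range pU ∧ pU ≫ h'.left = h'' ≫ pV ∧ P h'' := by
  obtain ⟨W', c, w₀, hW'aff, hce, hcw⟩ :=
    exists_affine_chart_at hB' (Points.ofPt (a' ≫ f' ≫ g') u')
  -- the charts over `W'`
  obtain ⟨U'', pU, rU, sqU''⟩ := exists_pullback_yon (a' ≫ f' ≫ g') c hce.rep
  obtain ⟨V'', pV, rV, sqV''⟩ := exists_pullback_yon (b' ≫ g') c hce.rep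
  have hpU : Etale pU.left := prop_of_isPullback_yon sqU'' hce
  have hpV : Etale pV.left := prop_of_isPullback_yon sqV'' hce
  obtain ⟨u'', hu''1, -⟩ := exists_pt_of_isPullback_yon sqU'' u' w₀ hcw.symm
  -- the induced morphism `h''`
  have hw'' : (yon S).map (pU ≫ h') ≫ b' ≫ g' = (yon S).map rU ≫ c := by
    rw [Functor.map_comp, Category.assoc, ← Category.assoc ((yon S).map h'), ← hcomm,
      Category.assoc, sqU''.w]
  obtain ⟨k'', hk''1, hk''2⟩ := sqV''.exists_lift _ _ hw''
  obtain ⟨h'', rfl⟩ := (yon S).map_surjective k''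
  have hh''1 : h'' ≫ pV = pU ≫ h' := (yon S).map_injective (by rw [Functor.map_comp]; exact hk''1)
  have hh''2 : h'' ≫ rV = rU := (yon S).map_injective (by rw [Functor.map_comp]; exact hk''2)
  -- base change to `B`
  have hiX : IsThickMor iX := isThickMor_of_isPullback hcX.flip hthick
  have hiY : IsThickMor iY := isThickMor_of_isPullback hcY.flip hthick
  have hae : RepWith @Etale ((yon S).map pU ≫ a') := repWith_etale_map_comp pU hpU a' ha'
  have hbe : RepWith @Etale ((yon S).map pV ≫ b') := repWith_etale_map_comp pV hpV b' hb'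
  obtain ⟨W, fW, iW, sqW, hiW⟩ : ∃ (W : Over S) (fW : (yon S).obj W ⟶ B) (iW : W ⟶ W'),
      IsPullback fW ((yon S).map iW) iB c ∧ thick iW.left :=
    ⟨_, _, _, hthick.rep.isPullback c, hthick.property_snd c⟩
  obtain ⟨U, fU, iU, sqU, hiU, hUe⟩ : ∃ (U : Over S) (fU : (yon S).obj U ⟶ X) (iU : U ⟶ U''),
      IsPullback fU ((yon S).map iU) iX ((yon S).map pU ≫ a') ∧ thick iU.left ∧
        RepWith @Etale fU :=
    ⟨_, _, _, hiX.rep.isPullback _, hiX.property_snd _,
      MorphismProperty.of_isPullback (hiX.rep.isPullback _).flip hae⟩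
  obtain ⟨V, fV, iV, sqV, hiV, hVe⟩ : ∃ (V : Over S) (fV : (yon S).obj V ⟶ Y) (iV : V ⟶ V''),
      IsPullback fV ((yon S).map iV) iY ((yon S).map pV ≫ b') ∧ thick iV.left ∧
        RepWith @Etale fV :=
    ⟨_, _, _, hiY.rep.isPullback _, hiY.property_snd _,
      MorphismProperty.of_isPullback (hiY.rep.isPullback _).flip hbe⟩
  -- the morphism `h : U ⟶ V`
  have hwV : (fU ≫ f) ≫ iY = (yon S).map (iU ≫ h'') ≫ ((yon S).map pV ≫ b') := by
    rw [Category.assoc, ← w, ← Category.assoc, sqU.w, Category.assoc, Category.assoc, hcomm,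
      Functor.map_comp, Category.assoc, ← Category.assoc ((yon S).map h''), ← Functor.map_comp,
      hh''1, Functor.map_comp, Category.assoc]
  obtain ⟨kh, hkh1, hkh2⟩ := sqV.exists_lift _ _ hwV
  obtain ⟨h, rfl⟩ := (yon S).map_surjective kh
  -- the morphism `r : V ⟶ W`
  have hwW : (fV ≫ g) ≫ iB = (yon S).map (iV ≫ rV) ≫ c := by
    rw [Category.assoc, ← hcY.w, ← Category.assoc, sqV.w, Category.assoc, Category.assoc,
      sqV''.w, Functor.map_comp, Category.assoc]
  obtain ⟨kr, hkr1, hkr2⟩ := sqW.exists_lift _ _ hwW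
  obtain ⟨r, rfl⟩ := (yon S).map_surjective kr
  -- the cartesian squares over `W ⟶ W'`
  have outerV : IsPullback (fV ≫ g) ((yon S).map iV) iB (((yon S).map pV ≫ b') ≫ g') :=
    sqV.paste_horiz hcY.flip
  rw [Category.assoc, sqV''.w, ← hkr1] at outerV
  have leftV : IsPullback ((yon S).map r) ((yon S).map iV) ((yon S).map iW) ((yon S).map rV) :=
    IsPullback.of_right outerV (by rw [hkr2, Functor.map_comp]) sqW
  have outerU : IsPullback (fU ≫ f ≫ g) ((yon S).map iU) iB
      (((yon S).map pU ≫ a') ≫ f' ≫ g') := sqU.paste_horiz hcX.flip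
  have etop : fU ≫ f ≫ g = (yon S).map (h ≫ r) ≫ fW := by
    rw [Functor.map_comp, Category.assoc, hkr1, ← Category.assoc ((yon S).map h), hkh1,
      Category.assoc]
  rw [Category.assoc, sqU''.w, etop] at outerU
  have leftU : IsPullback ((yon S).map (h ≫ r)) ((yon S).map iU) ((yon S).map iW)
      ((yon S).map rU) := by
    refine IsPullback.of_right outerU ?_ sqW
    rw [Functor.map_comp, Category.assoc, hkr2, Functor.map_comp, ← Category.assoc, hkh2,
      Functor.map_comp, Category.assoc, ← Functor.map_comp, hh''2]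
  have leftV' : IsPullback r iV iW rV :=
    IsPullback.of_map (yon S) ((yon S).map_injective (by
      rw [Functor.map_comp, Functor.map_comp]; exact leftV.w)) leftV
  have leftU' : IsPullback (h ≫ r) iU iW rU :=
    IsPullback.of_map (yon S) ((yon S).map_injective (by
      rw [Functor.map_comp, Functor.map_comp]; exact leftU.w)) leftU
  have sV := (leftV'.map (Over.forget S)).flip
  have sU := (leftU'.map (Over.forget S)).flip
  -- inputs
  have hFh : P h.left := hf fU fV h hUe hVe hkh1.symm
  have hFr : Flat rU.left := hflat ((yon S).map pU ≫ a') c rU hae hce (by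
    rw [Category.assoc]; exact sqU''.w)
  have hrU : rU.left = h''.left ≫ rV.left := by rw [← hh''2]; rfl
  have hFr' : Flat (h''.left ≫ rV.left) := by rw [← hrU]; exact hFr
  have hw' : iU.left ≫ h''.left = h.left ≫ iV.left := by
    have := (yon S).map_injective (by rw [Functor.map_comp]; exact hkh2 : (yon S).map (h ≫ iV) =
      (yon S).map (iU ≫ h''))
    exact (congrArg (fun t => t.left) this).symm
  have hFP : LocallyOfFinitePresentation rU.left :=
    hfp ((yon S).map pU ≫ a') c rU hae hce (by rw [Category.assoc]; exact sqU''.w)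
  have hFP' : LocallyOfFinitePresentation (h''.left ≫ rV.left) := by rw [← hrU]; exact hFP
  have hFT : LocallyOfFiniteType rV.left :=
    hg' ((yon S).map pV ≫ b') c rV hbe hce (by rw [Category.assoc]; exact sqV''.w)
  have sU' : IsPullback iU.left (h.left ≫ r.left) (h''.left ≫ rV.left) iW.left := by
    rw [← hrU]; exact sU
  have hFh'' : P h''.left :=
    hdef iU.left iV.left iW.left h.left h''.left r.left rV.left hiW sU' sV hw' hFr' hFP' hFT hFh
  refine ⟨U''.left, V''.left, pU.left, pV.left, h''.left, hpU, hpV, ⟨u'', hu''1⟩, ?_, hFh''⟩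
  exact (congrArg (fun t => t.left) hh''1).symm

/-- A deforming property which is etale local on the source and stable under postcomposition
with etale morphisms lifts along a thickening of the base (finitely presented case). -/
theorem locP_of_thick_of_deformsFP {P : MorphismProperty Scheme.{u}} [IsZariskiLocalAtSource P]
    (hdef : DeformsFP P)
    (hsrc : ∀ {A B C : Scheme.{u}} (e : A ⟶ B) (h : B ⟶ C), Etale e → Surjective e →
      P (e ≫ h) → P h)
    (hpost : ∀ {A B C : Scheme.{u}} (h : A ⟶ B) (e : B ⟶ C), Etale e → P h → P (h ≫ e))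
    (hB' : IsAlgSpace B')
    (hcX : IsPullback iX (f ≫ g) (f' ≫ g') iB) (hcY : IsPullback iY g g' iB)
    (w : iX ≫ f' = f ≫ iY) (hB : IsThickMor iB) (hflat : LocP @Flat (f' ≫ g'))
    (hfp : LocP @LocallyOfFinitePresentation (f' ≫ g')) (hg' : LocP @LocallyOfFiniteType g')
    (hf : LocP P f) : LocP P f' := by
  intro U' V' a' b' h' ha' hb' hcomm
  refine of_forall_exists_etale_nbhd hsrc h'.left fun x => ?_
  obtain ⟨U'', V'', pU, pV, h'', h1, h2, h3, h4, h5⟩ :=
    exists_local_of_thick_fp hdef hB' hcX hcY w hB hflat hfp hg' hf a' b' h' ha' hb' hcomm x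
  refine ⟨U'', pU, h1, h3, ?_⟩
  rw [h4]
  exact hpost h'' pV h2 h5

end Groth.Agent.H53
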