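import Groth.Agent.H53.ThickChart
import Groth.Agent.H53.FlatSource
import Groth.Agent.S1317

/-! Flatness lifts along finite order thickenings of the base (three-level chart transfer). -/

set_option autoImplicit false
universe u

open CategoryTheory CategoryTheory.Limits AlgebraicGeometry Opposite
open AlgSp

namespace Groth.Agent.H53

variable {S : Scheme.{u}}

/-- An affine etale chart of an algebraic space through a given point. -/
theorem exists_affine_chart_at {B' : Sp S} (hB' : IsAlgSpace B') (β : Points B') :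
    ∃ (W' : Over S) (c : (yon S).obj W' ⟶ B') (w : ↥W'.left),
      IsAffine W'.left ∧ RepWith @Etale c ∧ Points.ofPt c w = β := by
  obtain ⟨W₀, c₀, hc₀e, hc₀s⟩ := hB'.atlas
  obtain ⟨w₀, hw₀⟩ := exists_ofPt_eq_of_repWith_surjective c₀ hc₀s β
  obtain ⟨w, hw⟩ := W₀.left.affineCover.covers w₀
  let W' : Over S := Over.mk (W₀.left.affineCover.f (W₀.left.affineCover.idx w₀) ≫ W₀.hom)
  let ι : W' ⟶ W₀ := Over.homMk (W₀.left.affineCover.f (W₀.left.affineCover.idx w₀)) rfl
  refine ⟨W', (yon S).map ι ≫ c₀, w, ?_, ?_, ?_⟩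
  · show IsAffine (W₀.left.affineCover.X _)
    infer_instance
  · exact repWith_etale_map_comp ι (by show Etale (W₀.left.affineCover.f _); infer_instance) c₀ hc₀e
  · rw [ofPt_yon_map_comp]
    show Points.ofPt c₀ (W₀.left.affineCover.f _ w) = β
    rw [hw, hw₀]

/-- The kernel of an `n`th order thickening is nilpotent. -/
theorem isFiniteOrderThickening_of_thick_of_powZero {W W' : Scheme.{u}} (iW : W ⟶ W') (n : ℕ)
    (h1 : thick iW) (h2 : powZero n iW) : MoreMor.IsFiniteOrderThickening iW :=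
  ⟨h1, ⟨n + 1, h2⟩⟩

variable {X X' Y Y' B B' : Sp S} {iX : X ⟶ X'} {iY : Y ⟶ Y'} {iB : B ⟶ B'} {f : X ⟶ Y}
  {f' : X' ⟶ Y'} {g : Y ⟶ B} {g' : Y' ⟶ B'}

/-- Local form of the lifting of flatness along a finite order thickening of the base: every
point of a chart of `f'` has an etale neighbourhood over which the chart morphism is flat. -/
theorem exists_flat_local_of_finThick (hB' : IsAlgSpace B')
    (hcX : IsPullback iX (f ≫ g) (f' ≫ g') iB) (hcY : IsPullback iY g g' iB)
    (w : iX ≫ f' = f ≫ iY) (hB : IsFinThickMor iB) (hflat : LocP @Flat (f' ≫ g'))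
    (hf : LocP @Flat f)
    {U' V' : Over S} (a' : (yon S).obj U' ⟶ X') (b' : (yon S).obj V' ⟶ Y') (h' : U' ⟶ V')
    (ha' : RepWith @Etale a') (hb' : RepWith @Etale b') (hcomm : a' ≫ f' = (yon S).map h' ≫ b')
    (u' : ↥U'.left) :
    ∃ (U'' : Scheme.{u}) (pU : U'' ⟶ U'.left), Etale pU ∧ u' ∈ Set.range pU ∧
      Flat (pU ≫ h'.left) := by
  obtain ⟨n, hthick, hpow⟩ := hB
  obtain ⟨W', c, w₀, hW'aff, hce, hcw⟩ :=
    exists_affine_chart_at hB' (Points.ofPt (a' ≫ f' ≫ g') u')
  -- the charts over `W'`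
  obtain ⟨U'', pU, rU, sqU''⟩ := exists_pullback_yon (a' ≫ f' ≫ g') c hce.rep
  obtain ⟨V'', pV, rV, sqV''⟩ := exists_pullback_yon (b' ≫ g') c hce.rep
  have hpU : Etale pU.left := prop_of_isPullback_yon sqU'' hce
  have hpV : Etale pV.left := prop_of_isPullback_yon sqV'' hce
  obtain ⟨u'', hu''1, -⟩ := exists_pt_of_isPullback_yon sqU'' u' w₀ hcw.symm
  -- the induced morphism `h''`
  have hw'' : (yon S).map (pU ≫ h') ≫ b' ≫ g' = (yon S).map rU ≫ c := by
    rw [Functor.map_comp, Category.assoc, ← Category.assoc ((yon S).map h'), ← hcomm,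
      Category.assoc, sqU''.w]
  obtain ⟨k'', hk''1, hk''2⟩ := sqV''.exists_lift _ _ hw''
  obtain ⟨h'', rfl⟩ := (yon S).map_surjective k''
  have hh''1 : h'' ≫ pV = pU ≫ h' := (yon S).map_injective (by rw [Functor.map_comp]; exact hk''1)
  have hh''2 : h'' ≫ rV = rU := (yon S).map_injective (by rw [Functor.map_comp]; exact hk''2)
  -- base change to `B`
  have hiX : IsThickMor iX := isThickMor_of_isPullback hcX.flip hthick
  have hiY : IsThickMor iY := isThickMor_of_isPullback hcY.flip hthick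
  have hae : RepWith @Etale ((yon S).map pU ≫ a') := repWith_etale_map_comp pU hpU a' ha'
  have hbe : RepWith @Etale ((yon S).map pV ≫ b') := repWith_etale_map_comp pV hpV b' hb'
  obtain ⟨W, fW, iW, sqW, hiW⟩ : ∃ (W : Over S) (fW : (yon S).obj W ⟶ B) (iW : W ⟶ W'),
      IsPullback fW ((yon S).map iW) iB c ∧ thick iW.left :=
    ⟨_, _, _, hthick.rep.isPullback c, hthick.property_snd c⟩
  have hpowW : powZero n iW.left := hpow c fW iW hW'aff hce sqW
  obtain ⟨U, fU, iU, sqU, hiU, hUe⟩ : ∃ (U : Over S) (fU : (yon S).obj U ⟶ X) (iU : U ⟶ U''),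
      IsPullback fU ((yon S).map iU) iX ((yon S).map pU ≫ a') ∧ thick iU.left ∧
        RepWith @Etale fU :=
    ⟨_, _, _, hiX.rep.isPullback _, hiX.property_snd _,
      MorphismProperty.of_isPullback (hiX.rep.isPullback _).flip hae⟩
  obtain ⟨V, fV, iV, sqV, hiV, hVe⟩ : ∃ (V : Over S) (fV : (yon S).obj V ⟶ Y) (iV : V ⟶ V''),
      IsPullback fV ((yon S).map iV) iY ((yon S).map pV ≫ b') ∧ thick iV.left ∧
        RepWith @Etale fV :=
    ⟨_, _, _, hiY.rep.isPullback _, hiY.property_snd _,
      MorphismProperty.of_isPullback (hiY.rep.isPullback _).flip hbe⟩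
  -- the morphism `h : U ⟶ V`
  have hwV : (fU ≫ f) ≫ iY = (yon S).map (iU ≫ h'') ≫ ((yon S).map pV ≫ b') := by
    rw [Category.assoc, ← w, ← Category.assoc, sqU.w, Category.assoc, Category.assoc, hcomm,
      Functor.map_comp, Category.assoc, ← Category.assoc ((yon S).map h''), ← Functor.map_comp,
      hh''1, Functor.map_comp, Category.assoc]
  obtain ⟨kh, hkh1, hkh2⟩ := sqV.exists_lift _ _ hwV
  obtain ⟨h, rfl⟩ := (yon S).map_surjective kh
  -- the morphism `r : V ⟶ W`
  have hwW : (fV ≫ g) ≫ iB = (yon S).map (iV ≫ rV) ≫ c := by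
    rw [Category.assoc, ← hcY.w, ← Category.assoc, sqV.w, Category.assoc, Category.assoc,
      sqV''.w, Functor.map_comp, Category.assoc]
  obtain ⟨kr, hkr1, hkr2⟩ := sqW.exists_lift _ _ hwW
  obtain ⟨r, rfl⟩ := (yon S).map_surjective kr
  -- the cartesian squares over `W ⟶ W'`
  have outerV : IsPullback (fV ≫ g) ((yon S).map iV) iB (((yon S).map pV ≫ b') ≫ g') :=
    sqV.paste_horiz hcY.flip
  rw [Category.assoc, sqV''.w, ← hkr1] at outerV
  have leftV : IsPullback ((yon S).map r) ((yon S).map iV) ((yon S).map iW) ((yon S).map rV) :=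
    IsPullback.of_right outerV (by rw [hkr2, Functor.map_comp]) sqW
  have outerU : IsPullback (fU ≫ f ≫ g) ((yon S).map iU) iB
      (((yon S).map pU ≫ a') ≫ f' ≫ g') := sqU.paste_horiz hcX.flip
  have etop : fU ≫ f ≫ g = (yon S).map (h ≫ r) ≫ fW := by
    rw [Functor.map_comp, Category.assoc, hkr1, ← Category.assoc ((yon S).map h), hkh1,
      Category.assoc]
  rw [Category.assoc, sqU''.w, etop] at outerU
  have leftU : IsPullback ((yon S).map (h ≫ r)) ((yon S).map iU) ((yon S).map iW)
      ((yon S).map rU) := by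
    refine IsPullback.of_right outerU ?_ sqW
    rw [Functor.map_comp, Category.assoc, hkr2, Functor.map_comp, ← Category.assoc, hkh2,
      Functor.map_comp, Category.assoc, ← Functor.map_comp, hh''2]
  have leftV' : IsPullback r iV iW rV :=
    IsPullback.of_map (yon S) ((yon S).map_injective (by
      rw [Functor.map_comp, Functor.map_comp]; exact leftV.w)) leftV
  have leftU' : IsPullback (h ≫ r) iU iW rU :=
    IsPullback.of_map (yon S) ((yon S).map_injective (by
      rw [Functor.map_comp, Functor.map_comp]; exact leftU.w)) leftU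
  have sV := (leftV'.map (Over.forget S)).flip
  have sU := (leftU'.map (Over.forget S)).flip
  -- flatness inputs
  have hFh : Flat h.left := hf fU fV h hUe hVe hkh1.symm
  have hFr : Flat rU.left := hflat ((yon S).map pU ≫ a') c rU hae hce (by
    rw [Category.assoc]; exact sqU''.w)
  have hrU : rU.left = h''.left ≫ rV.left := by rw [← hh''2]; rfl
  have hFr' : Flat (h''.left ≫ rV.left) := by rw [← hrU]; exact hFr
  have hw' : iU.left ≫ h''.left = h.left ≫ iV.left := by
    have := (yon S).map_injective (by rw [Functor.map_comp]; exact hkh2 : (yon S).map (h ≫ iV) =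
      (yon S).map (iU ≫ h''))
    exact (congrArg (fun t => t.left) this).symm
  have hFO : MoreMor.IsFiniteOrderThickening iW.left :=
    isFiniteOrderThickening_of_thick_of_powZero _ n hiW hpowW
  have sU' : IsPullback iU.left (h.left ≫ r.left) (h''.left ≫ rV.left) iW.left := by
    rw [← hrU]; exact sU
  have hFh'' : Flat h''.left :=
    (Groth.Agent.S1317.result iU.left iV.left iW.left h.left h''.left r.left rV.left hFO sU' sV
      hw').1 hFh
  refine ⟨U''.left, pU.left, hpU, ⟨u'', hu''1⟩, ?_⟩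
  have e : pU.left ≫ h'.left = h''.left ≫ pV.left := (congrArg (fun t => t.left) hh''1).symm
  rw [e]
  infer_instance

/-- Flatness lifts along a finite order thickening of the base. -/
theorem locP_flat_of_finThick (hB' : IsAlgSpace B')
    (hcX : IsPullback iX (f ≫ g) (f' ≫ g') iB) (hcY : IsPullback iY g g' iB)
    (w : iX ≫ f' = f ≫ iY) (hB : IsFinThickMor iB) (hflat : LocP @Flat (f' ≫ g'))
    (hf : LocP @Flat f) : LocP @Flat f' := by
  intro U' V' a' b' h' ha' hb' hcomm
  let R : Presieve U'.left := fun T pT => Etale pT ∧ Flat (pT ≫ h'.left)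
  refine flat_of_forall_comp_flat h'.left R (fun x => ?_) (fun T pT hpT => ?_) (fun T pT hpT => hpT.2)
  · obtain ⟨T, pT, h1, h2, h3⟩ :=
      exists_flat_local_of_finThick hB' hcX hcY w hB hflat hf a' b' h' ha' hb' hcomm x
    exact ⟨T, pT, ⟨h1, h3⟩, h2⟩
  · have : Etale pT := hpT.1
    infer_instance

/-- If `f'` and `f' ≫ g'` are flat, then `g'` is flat at the points in the image of `f'`. -/
theorem isFlatAtMor_of_locP_flat_comp {X' Y' B' : Sp S} (hX' : IsAlgSpace X') {f' : X' ⟶ Y'}
    {g' : Y' ⟶ B'} (hf' : LocP @Flat f') (hflat : LocP @Flat (f' ≫ g')) (x' : Points X') :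
    IsFlatAtMor g' (Points.map f' x') := by
  intro V' W' b c r v hb hc hcomm hv
  obtain ⟨U₀, a₀, ha₀e, ha₀s⟩ := hX'.atlas
  obtain ⟨u₀, hu₀⟩ := exists_ofPt_eq_of_repWith_surjective a₀ ha₀s x'
  obtain ⟨U', p, h', sq⟩ := exists_pullback_yon (a₀ ≫ f') b hb.rep
  have hp : Etale p.left := prop_of_isPullback_yon sq hb
  have hpt : Points.ofPt (a₀ ≫ f') u₀ = Points.ofPt b v := by
    rw [hv, ← hu₀, Points.map_ofPt]
  obtain ⟨u', -, rfl⟩ := exists_pt_of_isPullback_yon sq u₀ v hpt
  have hae : RepWith @Etale ((yon S).map p ≫ a₀) := repWith_etale_map_comp p hp a₀ ha₀e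
  have hF1 : Flat h'.left := hf' ((yon S).map p ≫ a₀) b h' hae hb (by
    rw [Category.assoc]; exact sq.w)
  have hF2 : Flat (h' ≫ r).left := hflat ((yon S).map p ≫ a₀) c (h' ≫ r) hae hc (by
    rw [Category.assoc, ← Category.assoc a₀, ← Category.assoc ((yon S).map p), sq.w,
      Category.assoc, hcomm, Functor.map_comp, Category.assoc])
  have hF2' : Flat (h'.left ≫ r.left) := hF2
  have h1 : ((h'.left ≫ r.left).stalkMap u').hom.Flat := Flat.stalkMap (h'.left ≫ r.left) u'
  have h2 : (h'.left.stalkMap u').hom.Flat := Flat.stalkMap h'.left u'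
  rw [Scheme.Hom.stalkMap_comp] at h1
  exact Groth.Agent.H10.ringHomFlat_of_comp_of_faithfullyFlat _ _
    (faithfullyFlat_of_flat_of_isLocalHom _ h2) h1

end Groth.Agent.H53
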