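import Groth.Agent.H53.GlueLift
import Groth.Agent.H53.EtaleFormal

universe u
open CategoryTheory CategoryTheory.Limits AlgebraicGeometry Opposite AlgSp

namespace Groth.Agent.H53

variable {S : Scheme.{u}}

/-- An etale morphism from an algebraic space which is surjective on points admits a chart on
which it is representable, etale and surjective. -/
theorem exists_chart_of_isEtaleMor_of_isSurjectiveMor {B D : Sp S} (hB : IsAlgSpace B) (f : B ⟶ D)
    (het : IsEtaleMor f) (hs : IsSurjectiveMor f) :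
    ∃ (U : Over S) (q : (yon S).obj U ⟶ B), RepWith @Etale (q ≫ f) ∧ RepWith @Surjective (q ≫ f) := by
  obtain ⟨U, q, hq1, hq2⟩ := hB.atlas
  have h1 : RepWith @Etale (q ≫ f) := het q hq1
  refine ⟨U, q, h1, ?_⟩
  refine repWith_surjective_of_points_surjective _ h1.1 fun x => ?_
  obtain ⟨y, rfl⟩ := hs x
  obtain ⟨u, rfl⟩ := exists_ofPt_eq_of_repWith_surjective q hq2 y
  exact ⟨Points.ofScheme U u, by rw [Points.map_comp, ← Points.ofPt_eq_map_ofScheme]⟩

section

variable {Z Y Z' Y' X : Sp S} (hZ : IsAlgSpace Z) (hZ' : IsAlgSpace Z') (e : Z ⟶ Y)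
  (he : IsEtaleMor e) (hes : IsSurjectiveMor e) (hY : Y ⟶ X) (iZ : Z ⟶ Z') (iY : Y ⟶ Y')
  (f' : Z' ⟶ Y') (hf' : IsEtaleMor f') (w : iZ ≫ f' = e ≫ iY) (hY' : Y' ⟶ X)
  (w' : iY ≫ hY' = hY) (HU : IsUnivFOThick (e ≫ hY) iZ (f' ≫ hY'))

include hZ hZ' he hes hf' w w' HU

/-- Uniqueness of solutions over an affine scheme. -/
theorem univThick_descend_unique_affine {T T' : Over S} (j : T ⟶ T') (hT' : IsAffine T'.left)
    (h1 : thick j.left) (h2 : sqZero j.left) (aV : (yon S).obj T ⟶ Y) (bV : (yon S).obj T' ⟶ X)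
    (m m' : (yon S).obj T' ⟶ Y') (hm1 : (yon S).map j ≫ m = aV ≫ iY) (hm2 : m ≫ hY' = bV)
    (hm1' : (yon S).map j ≫ m' = aV ≫ iY) (hm2' : m' ≫ hY' = bV) : m = m' := by
  obtain ⟨W, w₀, hc1, hc2⟩ := exists_chart_of_isEtaleMor_of_isSurjectiveMor hZ e he hes
  have hjF : IsFOThickMor ((yon S).map j) := isFOThickMor_yon_map j hT' h1 h2
  have f'E : IsFormallyEtaleMor f' := isFormallyEtaleMor_of_isEtaleMor hZ' f' hf'
  have hjb : (yon S).map j ≫ bV = aV ≫ hY := by
    rw [← hm2, ← Category.assoc, hm1, Category.assoc, w']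
  obtain ⟨ι, P', P, π, i, ρ, s, hP', hπ, hπs, hρs, hsq, hs⟩ :=
    exists_local_lift_of_thick (w₀ ≫ e) hc1 hc2 j hT' h1 h2 aV
  have hik : ∀ k, IsFOThickMor ((yon S).map (i k)) := fun k =>
    isFOThickMor_of_isPullback hjF (IsAlgSpace.yon_obj _) ((hsq k).flip.map (yon S))
  have hcov := cover_of_family P' π (fun k => by have := hπ k; infer_instance)
    (fun k => by have := hπ k; infer_instance) hπs
  refine hom_ext_of_family P' (fun k => (yon S).map (π k)) hcov m m' fun k => ?_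
  have hsk : s k ≫ w₀ ≫ e = (yon S).map (ρ k) ≫ aV := hs k
  have hsw : (yon S).map (i k) ≫ (yon S).map (π k) = (yon S).map (ρ k) ≫ (yon S).map j := by
    rw [← Functor.map_comp, ← Functor.map_comp, (hsq k).w]
  -- the universal problem on `P' k`
  have HUk := HU.2.2 (IsAlgSpace.yon_obj _) (IsAlgSpace.yon_obj _) ((yon S).map (i k))
    (s k ≫ w₀) ((yon S).map (π k) ≫ bV) (hik k) (by
      rw [← Category.assoc, hsw, Category.assoc, hjb, Category.assoc, ← Category.assoc w₀,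
        ← Category.assoc (s k), ← Category.assoc (s k), Category.assoc (s k) w₀ e, hsk,
        Category.assoc])
  have key : ∀ n : (yon S).obj T' ⟶ Y', (yon S).map j ≫ n = aV ≫ iY → n ≫ hY' = bV →
      ∃ r : (yon S).obj (P' k) ⟶ Z', ((yon S).map (i k) ≫ r = (s k ≫ w₀) ≫ iZ ∧
        r ≫ f' ≫ hY' = (yon S).map (π k) ≫ bV) ∧ r ≫ f' = (yon S).map (π k) ≫ n := by
    intro n hn1 hn2
    obtain ⟨r, hr1, hr2⟩ := thick_lift_exists f' f'E ((yon S).map (i k)) (hik k)
      (IsAlgSpace.yon_obj _) ((s k ≫ w₀) ≫ iZ) ((yon S).map (π k) ≫ n) (by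
        rw [Category.assoc, w, ← Category.assoc, Category.assoc (s k), hsk, Category.assoc, ← hn1,
          ← Category.assoc, ← hsw, Category.assoc])
    refine ⟨r, ⟨hr1, ?_⟩, hr2⟩
    rw [← Category.assoc, hr2, Category.assoc, hn2]
  obtain ⟨r, hr, hrm⟩ := key m hm1 hm2
  obtain ⟨r', hr', hrm'⟩ := key m' hm1' hm2'
  have : r = r' := HUk.unique hr hr'
  rw [← hrm, ← hrm', this]

/-- Uniqueness of solutions over an algebraic space. -/
theorem univThick_descend_unique {T T' : Sp S} (hT' : IsAlgSpace T') (j : T ⟶ T')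
    (hj : IsFOThickMor j) (a : T ⟶ Y) (b : T' ⟶ X) (m m' : T' ⟶ Y') (hm1 : j ≫ m = a ≫ iY)
    (hm2 : m ≫ hY' = b) (hm1' : j ≫ m' = a ≫ iY) (hm2' : m' ≫ hY' = b) : m = m' := by
  obtain ⟨ι, Z₁, β, hZ₁, hβ, hcov⟩ := exists_affine_etale_family hT'
  refine hom_ext_of_family Z₁ β hcov m m' fun k => ?_
  have sq := hj.1.rep.isPullback (β k)
  have hth := isFOThickMor_of_isPullback_chart hj (hβ k) sq
  have hfo := isFirstOrderThickening_of_isFOThickMor_yon_map (hZ₁ k) hth
  refine univThick_descend_unique_affine hZ hZ' e he hes hY iZ iY f' hf' w hY' w' HU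
    (hj.1.rep.snd (β k)) (hZ₁ k) hfo.1 hfo.2 (hj.1.rep.fst (β k) ≫ a) (β k ≫ b) _ _ ?_ ?_ ?_ ?_
  · rw [← Category.assoc, ← sq.w, Category.assoc, hm1, Category.assoc]
  · rw [Category.assoc, hm2]
  · rw [← Category.assoc, ← sq.w, Category.assoc, hm1', Category.assoc]
  · rw [Category.assoc, hm2']

/-- Existence of solutions over an affine scheme. -/
theorem univThick_descend_exists_affine {T T' : Over S} (j : T ⟶ T') (hT' : IsAffine T'.left)
    (h1 : thick j.left) (h2 : sqZero j.left) (aV : (yon S).obj T ⟶ Y) (bV : (yon S).obj T' ⟶ X)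
    (hjb : (yon S).map j ≫ bV = aV ≫ hY) :
    ∃ m : (yon S).obj T' ⟶ Y', (yon S).map j ≫ m = aV ≫ iY ∧ m ≫ hY' = bV := by
  obtain ⟨W, w₀, hc1, hc2⟩ := exists_chart_of_isEtaleMor_of_isSurjectiveMor hZ e he hes
  have hjF : IsFOThickMor ((yon S).map j) := isFOThickMor_yon_map j hT' h1 h2
  obtain ⟨ι, P', P, π, i, ρ, s, hP', hπ, hπs, hρs, hsq, hs⟩ :=
    exists_local_lift_of_thick (w₀ ≫ e) hc1 hc2 j hT' h1 h2 aV
  have hik : ∀ k, IsFOThickMor ((yon S).map (i k)) := fun k =>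
    isFOThickMor_of_isPullback hjF (IsAlgSpace.yon_obj _) ((hsq k).flip.map (yon S))
  have hsk : ∀ k, s k ≫ w₀ ≫ e = (yon S).map (ρ k) ≫ aV := hs
  have hsw : ∀ k, (yon S).map (i k) ≫ (yon S).map (π k) = (yon S).map (ρ k) ≫ (yon S).map j :=
    fun k => by rw [← Functor.map_comp, ← Functor.map_comp, (hsq k).w]
  choose r hr hru using fun k => HU.2.2 (IsAlgSpace.yon_obj _) (IsAlgSpace.yon_obj _)
    ((yon S).map (i k)) (s k ≫ w₀) ((yon S).map (π k) ≫ bV) (hik k) (by
      rw [← Category.assoc, hsw, Category.assoc, hjb, Category.assoc, ← Category.assoc w₀,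
        ← Category.assoc (s k), ← Category.assoc (s k), Category.assoc (s k) w₀ e, hsk,
        Category.assoc])
  exact glue_local_lifts j hY' (aV ≫ iY) bV P' P π i ρ hπ hπs hρs hsq (fun k => r k ≫ f')
    (fun k => by
      rw [← Category.assoc, (hr k).1, Category.assoc, w, ← Category.assoc, Category.assoc (s k),
        hsk, Category.assoc])
    (fun k => by rw [Category.assoc, (hr k).2])
    (fun W WT g ω τ PB n₁ n₂ e1 e2 e3 e4 =>
      univThick_descend_unique hZ hZ' e he hes hY iZ iY f' hf' w hY' w' HU (IsAlgSpace.yon_obj W)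
        ((yon S).map ω) (isFOThickMor_yon_map_of_isPullback j hjF PB) ((yon S).map τ ≫ aV)
        ((yon S).map g ≫ bV) n₁ n₂ (by rw [e1, Category.assoc]) e3 (by rw [e2, Category.assoc]) e4)

/-- Descent of universal first order thickenings along an etale surjection. -/
theorem isUnivFOThick_descend (hiY : IsFOThickMor iY) :
    IsUnivFOThick hY iY hY' := by
  refine ⟨hiY, w', fun T T' hT hT' j a b hj hjb => ?_⟩
  refine thick_lift_of_charts hY' j hT' (a ≫ iY) b ?_ ?_
  · intro Z₁ β hZ₁ hβ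
    have sq := hj.1.rep.isPullback β
    have hth := isFOThickMor_of_isPullback_chart hj hβ sq
    have hfo := isFirstOrderThickening_of_isFOThickMor_yon_map hZ₁ hth
    obtain ⟨m, hm1, hm2⟩ := univThick_descend_exists_affine hZ hZ' e he hes hY iZ iY f' hf' w hY'
      w' HU (hj.1.rep.snd β) hZ₁ hfo.1 hfo.2 (hj.1.rep.fst β ≫ a) (β ≫ b) (by
        rw [← Category.assoc, ← sq.w, Category.assoc, hjb, Category.assoc])
    exact ⟨m, (isChartLift_iff_of_isPullback sq m).2 ⟨by rw [hm1, Category.assoc], hm2⟩⟩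
  · intro Z₁ β hZ₁ hβ m m' hm hm'
    have sq := hj.1.rep.isPullback β
    have hth := isFOThickMor_of_isPullback_chart hj hβ sq
    have hfo := isFirstOrderThickening_of_isFOThickMor_yon_map hZ₁ hth
    obtain ⟨e1, e2⟩ := (isChartLift_iff_of_isPullback sq m).1 hm
    obtain ⟨e1', e2'⟩ := (isChartLift_iff_of_isPullback sq m').1 hm'
    exact univThick_descend_unique_affine hZ hZ' e he hes hY iZ iY f' hf' w hY' w' HU
      (hj.1.rep.snd β) hZ₁ hfo.1 hfo.2 (hj.1.rep.fst β ≫ a) (β ≫ b) m m'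
      (by rw [e1, Category.assoc]) e2 (by rw [e1', Category.assoc]) e2'

end

end Groth.Agent.H53
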