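import Groth.Agent.H53.UnramWhere
import Groth.Agent.H53.LargestOpenInst
import Groth.Agent.H51.SpUnram
import Groth.Agent.H50.FieldPts

/-! The diagonal over the unramified locus; diagonals and base change; the open subspace of the base over
which a morphism is unramified and universally injective. -/

set_option autoImplicit false
set_option backward.isDefEq.respectTransparency false
universe u

open CategoryTheory CategoryTheory.Limits AlgebraicGeometry Opposite
open AlgSp

namespace Groth.Agent.H53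

variable {S : Scheme.{u}}

/-- The image of the unramified locus under the diagonal is open in `X ×_Y X`. -/
theorem isOpen_diagonal_image_unramAt {X Y : Sp S} (hX : IsAlgSpace X) (hY : IsAlgSpace Y)
    (f : X ⟶ Y) :
    IsOpen (Points.map (pullback.diagonal f) '' {x : Points X | HasAtMor UnramAt f x}) := by
  rw [isOpen_iff_forall_mem_open]
  rintro _ ⟨x, hx, rfl⟩
  have H' : HasAtMor (fun U _ h u => ∃ W : U.Opens, u ∈ W ∧
      (@LocallyOfFiniteType ⊓ @FormallyUnramified : MorphismProperty Scheme.{u}) (W.ι ≫ h)) f x := by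
    obtain ⟨U₁, V₁, a₁, b₁, h₁, u₁, ha₁, hb₁, hc₁, hx₁, W, hW, h1, h2⟩ := hx
    exact ⟨U₁, V₁, a₁, b₁, h₁, u₁, ha₁, hb₁, hc₁, hx₁, W, hW, h1, h2⟩
  obtain ⟨X₁, j₁, hX₁, hj₁, ⟨x₁, hx₁⟩, hP⟩ :=
    (Groth.Agent.H50.goodClass_unram.hasAtMor_iff_exists_open hX hY f x).1 H'
  have hΔ₁ : RepWith @IsOpenImmersion (pullback.diagonal (j₁ ≫ f)) :=
    Groth.Agent.H51.s10262_part1 (X := ⟨X₁, hX₁⟩) (Y := ⟨Y, hY⟩) (ObjectProperty.homMk (j₁ ≫ f)) hP
  have hm : RepWith @IsOpenImmersion
      (pullback.map (j₁ ≫ f) (j₁ ≫ f) f f j₁ j₁ (𝟙 Y) (by simp) (by simp)) :=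
    Groth.Agent.H51.repWith_pullback_map_self @IsOpenImmersion j₁ f hj₁
  have hφ : RepWith @IsOpenImmersion (j₁ ≫ pullback.diagonal f) := by
    have e : j₁ ≫ pullback.diagonal f = pullback.diagonal (j₁ ≫ f) ≫
        pullback.map (j₁ ≫ f) (j₁ ≫ f) f f j₁ j₁ (𝟙 Y) (by simp) (by simp) := by
      apply pullback.hom_ext <;> simp [pullback.map]
    rw [e]
    exact (RepWith @IsOpenImmersion).comp_mem _ _ hΔ₁ hm
  have hopen : IsOpenMap (Points.map (j₁ ≫ pullback.diagonal f)) :=
    Groth.Agent.H51.isOpenMap_map_of_isEtaleMor _ hX₁ (isEtaleMor_of_isOpenImmersion _ hφ)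
  refine ⟨Set.range (Points.map (j₁ ≫ pullback.diagonal f)), ?_, hopen.isOpen_range,
    ⟨x₁, by rw [Points.map_comp, hx₁]⟩⟩
  rintro _ ⟨y₁, rfl⟩
  refine ⟨Points.map j₁ y₁, ?_, (Points.map_comp _ _ _).symm⟩
  have := (Groth.Agent.H50.goodClass_unram.hasAtMor_iff_exists_open hX hY f (Points.map j₁ y₁)).2
    ⟨X₁, j₁, hX₁, hj₁, ⟨y₁, rfl⟩, hP⟩
  obtain ⟨U₁, V₁, a₁, b₁, h₁, u₁, ha₁, hb₁, hc₁, hx₁, W, hW, h1, h2⟩ := this
  exact ⟨U₁, V₁, a₁, b₁, h₁, u₁, ha₁, hb₁, hc₁, hx₁, W, hW, h1, h2⟩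

section diag

variable {X Y X' Y' : Sp S} {f : X ⟶ Y} {gY : Y' ⟶ Y} {gX : X' ⟶ X} {f' : X' ⟶ Y'}

/-- `X' ×_{Y'} X' = (X ×_Y X) ×_X X'` (second projections). -/
theorem isPullback_pullbackMap_snd (sq : IsPullback gX f' f gY) :
    IsPullback (pullback.map f' f' f f gX gX gY sq.w.symm sq.w.symm) (pullback.snd f' f')
      (pullback.snd f f) gX := by
  have A : IsPullback (pullback.fst f' f') (pullback.snd f' f') f' f' := IsPullback.of_hasPullback _ _
  have C : IsPullback (pullback.fst f f) (pullback.snd f f) f f := IsPullback.of_hasPullback _ _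
  have big := A.paste_horiz sq
  refine IsPullback.of_right ?_ (by simp [pullback.map]) C
  have e : pullback.map f' f' f f gX gX gY sq.w.symm sq.w.symm ≫ pullback.fst f f =
      pullback.fst f' f' ≫ gX := by simp [pullback.map]
  rw [e, sq.w]
  exact big

/-- `X' ×_{Y'} X' = (X ×_Y X) ×_Y Y'`. -/
theorem isPullback_pullbackMap_base (sq : IsPullback gX f' f gY) :
    IsPullback (pullback.map f' f' f f gX gX gY sq.w.symm sq.w.symm) (pullback.snd f' f' ≫ f')
      (pullback.snd f f ≫ f) gY :=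
  (isPullback_pullbackMap_snd sq).paste_vert sq

/-- The diagonal of the base change is the base change of the diagonal. -/
theorem isPullback_diagonal_baseChange (sq : IsPullback gX f' f gY) :
    IsPullback gX (pullback.diagonal f') (pullback.diagonal f)
      (pullback.map f' f' f f gX gX gY sq.w.symm sq.w.symm) := by
  refine IsPullback.of_bot ?_ (by apply pullback.hom_ext <;> simp [pullback.map]) (isPullback_pullbackMap_snd sq)
  simp only [pullback.diagonal_snd]
  exact IsPullback.of_vert_isIso ⟨by simp⟩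

end diag

end Groth.Agent.H53
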