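import Groth.Agent.H53.BCCharts
import Groth.Agent.H50.LocPNbhd
import Groth.Agent.H25.UnramBC

/-! The unramified locus of a morphism of algebraic spaces: open, and compatible with base change. -/

set_option autoImplicit false
universe u

open CategoryTheory CategoryTheory.Limits AlgebraicGeometry Opposite
open AlgSp

namespace Groth.Agent.H53

variable {S : Scheme.{u}}

/-- "Unramified near the point `u`" for a morphism of schemes. -/
abbrev UnramAt : ∀ (U V : Scheme.{u}), (U ⟶ V) → ↥U → Prop := fun U _ h u =>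
  ∃ W : U.Opens, u ∈ W ∧ LocallyOfFiniteType (W.ι ≫ h) ∧ FormallyUnramified (W.ι ≫ h)

/-- The stalk map of an open immersion followed by `h` is formally unramified iff that of `h` is. -/
theorem formallyUnramified_stalkMap_openImmersion_comp_iff {A B C : Scheme.{u}} (k : A ⟶ B)
    [IsOpenImmersion k] (h : B ⟶ C) (w : A) :
    ((k ≫ h).stalkMap w).hom.FormallyUnramified ↔ (h.stalkMap (k w)).hom.FormallyUnramified := by
  refine Iff.trans ?_ (RingHom.FormallyUnramified.respectsIso.cancel_right_isIso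
    (h.stalkMap (k w)) (k.stalkMap w))
  rw [← CommRingCat.hom_comp, ← Scheme.Hom.stalkMap_comp]
  exact Iff.rfl

/-- Chart independence: being unramified at a point of an algebraic space can be tested on the stalk map
of any etale chart diagram through the point. -/
theorem hasAtMor_unramAt_iff_stalkMap {X Y : Sp S} (hX : IsAlgSpace X) (hY : IsAlgSpace Y)
    (f : X ⟶ Y) {U V : Over S} (a : (yon S).obj U ⟶ X) (b : (yon S).obj V ⟶ Y) (h : U ⟶ V)
    (ha : RepWith @Etale a) (hb : RepWith @Etale b) (comm : a ≫ f = (yon S).map h ≫ b)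
    [LocallyOfFiniteType h.left] (u : ↥U.left) :
    HasAtMor UnramAt f (Points.ofPt a u) ↔ (h.left.stalkMap u).hom.FormallyUnramified := by
  constructor
  · intro H
    have H' : HasAtMor (fun U _ h u => ∃ W : U.Opens, u ∈ W ∧
        (@LocallyOfFiniteType ⊓ @FormallyUnramified : MorphismProperty Scheme.{u}) (W.ι ≫ h)) f
        (Points.ofPt a u) := by
      obtain ⟨U₁, V₁, a₁, b₁, h₁, u₁, ha₁, hb₁, hc₁, hx₁, W, hW, h1, h2⟩ := H
      exact ⟨U₁, V₁, a₁, b₁, h₁, u₁, ha₁, hb₁, hc₁, hx₁, W, hW, h1, h2⟩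
    obtain ⟨X₀, j, hX₀, hj, ⟨x₀, hx₀⟩, hP⟩ :=
      (Groth.Agent.H50.goodClass_unram.hasAtMor_iff_exists_open hX hY f _).1 H'
    have sq := hj.rep.isPullback a
    have hfstE : RepWith @Etale (hj.rep.fst a) := MorphismProperty.of_isPullback sq.flip ha
    have hk : IsOpenImmersion (hj.rep.snd a).left := hj.property_snd a
    have hcomm : hj.rep.fst a ≫ j ≫ f = (yon S).map (hj.rep.snd a ≫ h) ≫ b := by
      rw [← Category.assoc, sq.w, Category.assoc, comm, Functor.map_comp, Category.assoc]
    have hPk := hP (hj.rep.fst a) b (hj.rep.snd a ≫ h) hfstE hb hcomm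
    have hFU : FormallyUnramified ((hj.rep.snd a).left ≫ h.left) := hPk.2
    -- `u` lies in the image of the open immersion
    obtain ⟨z, -, hz⟩ := exists_point_of_isPullback sq x₀ (Points.ofScheme U u)
      (by rw [hx₀, ← Points.ofPt_eq_map_ofScheme])
    obtain ⟨u₀, rfl⟩ := (Points.schemeEquiv _).surjective z
    have hu₀ : (hj.rep.snd a).left u₀ = u := by
      apply (Points.schemeEquiv U).injective
      change Points.ofScheme U _ = Points.ofScheme U u
      rw [← hz]
      exact (Points.map_yon_map_apply (hj.rep.snd a) u₀).symm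
    have hst := FormallyUnramified.stalkMap ((hj.rep.snd a).left ≫ h.left) u₀
    rw [formallyUnramified_stalkMap_openImmersion_comp_iff] at hst
    subst hu₀
    exact hst
  · intro H
    obtain ⟨W, hW, hFU⟩ := (Groth.Agent.H25.exists_formallyUnramified_nhd_iff h.left u).2 H
    exact ⟨U, V, a, b, h, u, ha, hb, comm, rfl, W, hW, inferInstance, hFU⟩

/-- The unramified locus is open. -/
theorem isOpen_hasAtMor_unramAt {X Y : Sp S} (f : X ⟶ Y) :
    IsOpen {x : Points X | HasAtMor UnramAt f x} := by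
  rw [isOpen_iff_forall_mem_open]
  rintro x ⟨U, V, a, b, h, u, ha, hb, comm, rfl, W, hW, h1, h2⟩
  refine ⟨Points.ofPt a '' (W : Set ↥U.left), ?_,
    Groth.Agent.H51.isOpenMap_ofPt_of_etale a ha _ W.isOpen, ⟨u, hW, rfl⟩⟩
  rintro _ ⟨w, hw, rfl⟩
  exact ⟨U, V, a, b, h, w, ha, hb, comm, rfl, W, hw, h1, h2⟩

/-- The unramified locus commutes with base change. -/
theorem hasAtMor_unramAt_baseChange_iff {X Y X' Y' : Sp S} (hX : IsAlgSpace X) (hY : IsAlgSpace Y)
    (hX' : IsAlgSpace X') (hY' : IsAlgSpace Y') (f : X ⟶ Y) (hf : LocP @LocallyOfFiniteType f)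
    (aY : Y' ⟶ Y) (bX : X' ⟶ X) (f' : X' ⟶ Y') (sq : IsPullback bX f' f aY) (x' : Points X') :
    HasAtMor UnramAt f' x' ↔ HasAtMor UnramAt f (Points.map bX x') := by
  obtain ⟨U, V, U', V', a, b, a', b', h, h', g, v, haE, -, hbE, -, ha'E, ha'S, hb'E, -,
    comm, comm', hga, -, sqS⟩ := exists_baseChange_charts hX hY hY' f aY bX f' sq
  obtain ⟨u', rfl⟩ := exists_ofPt_eq_of_repWith_surjective a' ha'S x'
  have hlft : LocallyOfFiniteType h.left := hf a b h haE hbE comm
  have hlft' : LocallyOfFiniteType h'.left := MorphismProperty.of_isPullback sqS hlft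
  rw [Points.map_ofPt, hga, ofPt_yon_map_comp,
    hasAtMor_unramAt_iff_stalkMap hX' hY' f' a' b' h' ha'E hb'E comm' u',
    hasAtMor_unramAt_iff_stalkMap hX hY f a b h haE hbE comm (g.left u')]
  exact Groth.Agent.H25.UnramBC.formallyUnramified_stalkMap_iff_of_isPullback sqS u'

end Groth.Agent.H53
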