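import Mathlib

/-! Formally unramified ring maps lift along nil-thickenings of the base (finite type case). -/

set_option autoImplicit false
universe u

open CategoryTheory CategoryTheory.Limits TensorProduct

namespace Groth.Agent.H53

section Ring

/-- If `A' → A` is surjective with kernel `I` and `A ⊗[A'] M = 0`, then `M = I M`. -/
theorem smul_top_eq_top_of_subsingleton_tensor {A' A : Type u} [CommRing A'] [CommRing A]
    [Algebra A' A] (hs : Function.Surjective (algebraMap A' A)) (M : Type u) [AddCommGroup M]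
    [Module A' M] (h : Subsingleton (A ⊗[A'] M)) :
    (RingHom.ker (algebraMap A' A) • ⊤ : Submodule A' M) = ⊤ := by
  set I := RingHom.ker (algebraMap A' A) with hI
  let e₀ : (A' ⧸ I) ≃ₐ[A'] A :=
    Ideal.quotientKerAlgEquivOfSurjective (f := Algebra.ofId A' A) hs
  have e₁ : ((A' ⧸ I) ⊗[A'] M) ≃ₗ[A'] (A ⊗[A'] M) := LinearEquiv.rTensor M e₀.toLinearEquiv
  have e₂ := TensorProduct.quotTensorEquivQuotSMul M I
  have : Subsingleton (M ⧸ (I • ⊤ : Submodule A' M)) := (e₂.symm.trans e₁).toEquiv.subsingleton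
  exact Submodule.Quotient.subsingleton_iff.1 this

theorem formallyUnramified_of_isPushout_nil {A' A B' B : Type u} [CommRing A'] [CommRing A]
    [CommRing B'] [CommRing B] [Algebra A' A] [Algebra A' B'] [Algebra A B] [Algebra B' B]
    [Algebra A' B] [IsScalarTower A' A B] [IsScalarTower A' B' B]
    [Algebra.IsPushout A' A B' B] (hs : Function.Surjective (algebraMap A' A))
    (hnil : RingHom.ker (algebraMap A' A) ≤ nilradical A') [Algebra.FiniteType A' B']
    [Algebra.FormallyUnramified A B] : Algebra.FormallyUnramified A' B' := by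
  have e := KaehlerDifferential.tensorKaehlerEquivBase A' A B' B
  have h1 : Subsingleton (A ⊗[A'] Ω[B'⁄A']) := e.toEquiv.subsingleton
  have h2 := smul_top_eq_top_of_subsingleton_tensor hs (Ω[B'⁄A']) h1
  set I := RingHom.ker (algebraMap A' A) with hI
  set J : Ideal B' := I.map (algebraMap A' B') with hJ
  have hJnil : J ≤ nilradical B' := by
    rw [hJ, Ideal.map_le_iff_le_comap]
    intro a ha
    have : IsNilpotent a := hnil ha
    exact this.map (algebraMap A' B')
  have hJjac : J ≤ Ideal.jacobson ⊥ := by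
    rw [Ideal.jacobson_bot]
    exact hJnil.trans (nilradical_le_jacobson B')
  have h3 : (⊤ : Submodule B' Ω[B'⁄A']) ≤ J • ⊤ := by
    intro x _
    have hx : x ∈ (I • ⊤ : Submodule A' Ω[B'⁄A']) := by rw [h2]; trivial
    refine Submodule.smul_induction_on hx ?_ ?_
    · intro a ha m _
      rw [← algebraMap_smul B' a m]
      exact Submodule.smul_mem_smul (Ideal.mem_map_of_mem _ ha) trivial
    · intro x y hx hy
      exact add_mem hx hy
  have h4 := Submodule.eq_bot_of_le_smul_of_le_jacobson_bot J (⊤ : Submodule B' Ω[B'⁄A'])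
    Module.Finite.fg_top h3 hJjac
  constructor
  exact (Submodule.subsingleton_iff B').1 (subsingleton_of_bot_eq_top h4.symm)

end Ring

end Groth.Agent.H53

namespace Groth.Agent.H53

open AlgebraicGeometry

section Scheme

/-- A surjective closed immersion into an affine scheme has nil kernel on global sections. -/
theorem ker_appTop_le_nilradical {V V' : Scheme.{u}} (j : V ⟶ V') [IsAffine V']
    [Surjective j] : RingHom.ker j.appTop.hom ≤ nilradical Γ(V', ⊤) := by
  intro a ha
  rw [mem_nilradical, Scheme.isNilpotent_iff_basicOpen_eq_bot]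
  have h1 : j ⁻¹ᵁ V'.basicOpen a = ⊥ := by
    rw [Scheme.preimage_basicOpen_top]
    have : j.appTop a = 0 := ha
    rw [this]
    exact Scheme.basicOpen_zero _ _
  ext x
  simp only [TopologicalSpace.Opens.coe_bot, Set.mem_empty_iff_false, iff_false]
  intro hx
  obtain ⟨y, rfl⟩ := j.surjective x
  have : y ∈ j ⁻¹ᵁ V'.basicOpen a := hx
  rw [h1] at this
  exact this

/-- Affine case: formally unramified lifts along a thickening of the base, for a cartesian square
with `h'` locally of finite type. -/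
theorem formallyUnramified_of_isPullback_thick_affine {U U' V V' : Scheme.{u}} [IsAffine U']
    [IsAffine V'] [IsAffine V] {i : U ⟶ U'} {h : U ⟶ V} {h' : U' ⟶ V'} {j : V ⟶ V'}
    (sq : IsPullback i h h' j) [IsClosedImmersion j] [Surjective j] [LocallyOfFiniteType h']
    [FormallyUnramified h] : FormallyUnramified h' := by
  have : IsAffine U := IsAffine.of_isPullback sq
  have po := (isPushout_appTop_of_isPullback sq).flip
  rw [HasRingHomProperty.iff_of_isAffine (P := @FormallyUnramified)]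
  have hFU : h.appTop.hom.FormallyUnramified :=
    (HasRingHomProperty.iff_of_isAffine (P := @FormallyUnramified)).1 inferInstance
  have hFT : h'.appTop.hom.FiniteType :=
    (HasRingHomProperty.iff_of_isAffine (P := @LocallyOfFiniteType)).1 inferInstance
  have hsurj : Function.Surjective j.appTop.hom :=
    (IsClosedImmersion.isAffine_surjective_of_isAffine j).2
  have hnil := ker_appTop_le_nilradical j
  let _ : Algebra Γ(V', ⊤) Γ(V, ⊤) := j.appTop.hom.toAlgebra
  let _ : Algebra Γ(V', ⊤) Γ(U', ⊤) := h'.appTop.hom.toAlgebra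
  let _ : Algebra Γ(V, ⊤) Γ(U, ⊤) := h.appTop.hom.toAlgebra
  let _ : Algebra Γ(U', ⊤) Γ(U, ⊤) := i.appTop.hom.toAlgebra
  let _ : Algebra Γ(V', ⊤) Γ(U, ⊤) := (h.appTop.hom.comp j.appTop.hom).toAlgebra
  have : IsScalarTower Γ(V', ⊤) Γ(V, ⊤) Γ(U, ⊤) := IsScalarTower.of_algebraMap_eq' rfl
  have : IsScalarTower Γ(V', ⊤) Γ(U', ⊤) Γ(U, ⊤) := IsScalarTower.of_algebraMap_eq' (by
    have := congrArg (fun k => k.hom) po.w
    exact this)
  have : Algebra.IsPushout Γ(V', ⊤) Γ(V, ⊤) Γ(U', ⊤) Γ(U, ⊤) :=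
    CommRingCat.isPushout_iff_isPushout.1 po
  have : Algebra.FiniteType Γ(V', ⊤) Γ(U', ⊤) := hFT
  have : Algebra.FormallyUnramified Γ(V, ⊤) Γ(U, ⊤) := hFU
  exact formallyUnramified_of_isPushout_nil (A' := Γ(V', ⊤)) (A := Γ(V, ⊤)) (B' := Γ(U', ⊤))
    (B := Γ(U, ⊤)) hsurj hnil

end Scheme

end Groth.Agent.H53

namespace Groth.Agent.H53

open AlgebraicGeometry

/-- Formally unramified lifts along a thickening of the base, for a cartesian square with `h'`
locally of finite type. -/
theorem formallyUnramified_of_isPullback_thick {U U' V V' : Scheme.{u}}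
    {i : U ⟶ U'} {h : U ⟶ V} {h' : U' ⟶ V'} {j : V ⟶ V'}
    (sq : IsPullback i h h' j) [IsClosedImmersion j] [Surjective j] [LocallyOfFiniteType h']
    [FormallyUnramified h] : FormallyUnramified h' := by
  have hci : IsClosedImmersion i := MorphismProperty.of_isPullback sq.flip inferInstance
  have : MorphismProperty.RespectsRight @FormallyUnramified @IsOpenImmersion :=
    ⟨fun i hi f hf => by
      have : IsOpenImmersion i := hi
      have : FormallyUnramified f := hf
      have : Etale i := inferInstance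
      have hi' : FormallyUnramified i := inferInstance
      exact MorphismProperty.comp_mem _ f i hf hi'⟩
  rw [IsZariskiLocalAtSource.iff_exists_resLE (P := @FormallyUnramified)]
  intro x
  obtain ⟨_, ⟨W', hW', rfl⟩, hxW', -⟩ :=
    V'.isBasis_affineOpens.exists_subset_of_mem_open (Set.mem_univ (h' x)) isOpen_univ
  obtain ⟨_, ⟨T', hT', rfl⟩, hxT', hTW : T' ≤ h' ⁻¹ᵁ W'⟩ :=
    U'.isBasis_affineOpens.exists_subset_of_mem_open hxW' (h' ⁻¹ᵁ W').isOpen
  refine ⟨W', T', hxT', hTW, ?_⟩
  have hle : i ⁻¹ᵁ T' ≤ h ⁻¹ᵁ (j ⁻¹ᵁ W') := by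
    intro y hy
    have h1 : h' (i y) ∈ W' := hTW hy
    have h2 : (i ≫ h') y = (h ≫ j) y := by rw [sq.w]
    simp only [Scheme.Hom.comp_apply] at h2
    change j (h y) ∈ W'
    rw [← h2]
    exact h1
  have S1 := isPullback_morphismRestrict i T'
  have S3 := isPullback_morphismRestrict j W'
  have S12 := S1.paste_vert sq
  have e1 : h.resLE (j ⁻¹ᵁ W') (i ⁻¹ᵁ T') hle ≫ (j ⁻¹ᵁ W').ι = (i ⁻¹ᵁ T').ι ≫ h :=
    Scheme.Hom.resLE_comp_ι _ _
  have e2 : h'.resLE W' T' hTW ≫ Scheme.Opens.ι W' = Scheme.Opens.ι T' ≫ h' :=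
    Scheme.Hom.resLE_comp_ι _ _
  rw [← e1, ← e2] at S12
  have S4 : IsPullback (i ∣_ T') (h.resLE (j ⁻¹ᵁ W') (i ⁻¹ᵁ T') hle) (h'.resLE W' T' hTW)
      (j ∣_ W') := by
    refine IsPullback.of_bot S12 ?_ S3
    have c1 : i ∣_ T' ≫ h'.resLE W' T' hTW ≫ Scheme.Opens.ι W' = (i ⁻¹ᵁ T').ι ≫ i ≫ h' := by
      rw [e2, ← Category.assoc, S1.w, Category.assoc]
    have c2 : h.resLE (j ⁻¹ᵁ W') (i ⁻¹ᵁ T') hle ≫ j ∣_ W' ≫ Scheme.Opens.ι W' =
        (i ⁻¹ᵁ T').ι ≫ i ≫ h' := by
      rw [S3.w, ← Category.assoc, e1, Category.assoc, sq.w]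
    rw [← cancel_mono (Scheme.Opens.ι W'), Category.assoc, Category.assoc, c1, c2]
  have : IsAffine (Scheme.Opens.toScheme T') := hT'
  have : IsAffine (Scheme.Opens.toScheme W') := hW'
  have : IsAffine (j ⁻¹ᵁ W').toScheme := hW'.preimage j
  have : IsClosedImmersion (j ∣_ W') :=
    IsZariskiLocalAtTarget.restrict (P := @IsClosedImmersion) (inferInstance : IsClosedImmersion j) W'
  have : Surjective (j ∣_ W') :=
    IsZariskiLocalAtTarget.restrict (P := @Surjective) (inferInstance : Surjective j) W'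
  have : LocallyOfFiniteType (h'.resLE W' T' hTW) :=
    IsZariskiLocalAtSource.resLE (P := @LocallyOfFiniteType) _ inferInstance
  have : FormallyUnramified (h.resLE (j ⁻¹ᵁ W') (i ⁻¹ᵁ T') hle) :=
    IsZariskiLocalAtSource.resLE (P := @FormallyUnramified) _ inferInstance
  exact formallyUnramified_of_isPullback_thick_affine S4

end Groth.Agent.H53
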